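import Cfsg.Agent.Lib.ASG.Bas0

/-! The normaliser and the centraliser of the standard subgroup. -/

set_option autoImplicit false

namespace H79.AS

open H30 H30.F4 H69 Subgroup Cfsg Equiv

variable {G : Type*} [Group G] [Finite G]

omit [Finite G] in
/-- a 2-element is a power of its odd powers -/
theorem mem_of_odd_pow {H : Subgroup G} {g : G} {j n : ℕ} (h2 : g ^ 2 ^ j = 1) (hn : Odd n)
    (h : g ^ n ∈ H) : g ∈ H := by
  have c : n.Coprime (orderOf g) :=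
    ((Nat.coprime_two_right.2 hn).pow_right j).coprime_dvd_right (orderOf_dvd_of_pow_eq_one h2)
  obtain ⟨m, e⟩ := exists_pow_eq_self_of_coprime c
  exact e ▸ pow_mem h m
omit [Finite G] in
theorem pow_card_one {O : Subgroup G} {g : G} (hg : g ∈ O) : g ^ Nat.card O = 1 :=
  congrArg Subtype.val (pow_card_eq_one' (x := (⟨g, hg⟩ : O)))
omit [Finite G] in
theorem eq_one_of_odd {O : Subgroup G} (hO : Odd (Nat.card O)) {g : G} (hg : g ∈ O) {j : ℕ}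
    (h2 : g ^ 2 ^ j = 1) : g = 1 :=
  mem_bot.1 (mem_of_odd_pow h2 hO (by rw [pow_card_one hg]; exact one_mem _))
/-- a subgroup of index less than five contains all elements of order five -/
theorem five_mem {H K : Subgroup G} (h : H ≤ K) (hc : Nat.card K < 5 * Nat.card H) {g : G}
    (hg : g ∈ K) (h5 : g ^ 5 = 1) : g ∈ H := by
  have : Fact (Nat.Prime 5) := ⟨by norm_num⟩
  have e := (H.subgroupOf K).index_mul_card
  rw [Nat.card_congr (subgroupOfEquivOfLe h).toEquiv] at e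
  have i : (H.subgroupOf K).index < 5 := lt_of_mul_lt_mul_right (e ▸ hc) (Nat.zero_le _)
  have d := ((H.subgroupOf K).normalCore).index_dvd_card
  have k : (⟨g, hg⟩ : K) ^ (H.subgroupOf K).normalCore.index ∈ (H.subgroupOf K).normalCore :=
    pow_index_mem _ _
  have c : ((H.subgroupOf K).normalCore.index).Coprime (orderOf (⟨g, hg⟩ : K)) := by
    refine Nat.Coprime.coprime_dvd_right (orderOf_dvd_of_pow_eq_one (n := 5) (Subtype.ext h5)) ?_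
    refine ((Nat.coprime_comm.1 ((Nat.Prime.coprime_iff_not_dvd Fact.out).2 fun d5 => ?_)))
    have f : (H.subgroupOf K).normalCore.index ∣ (H.subgroupOf K).index.factorial := by
      rw [normalCore_eq_ker, index_ker, index, ← Nat.card_perm]
      exact card_subgroup_dvd_card _
    have := (Nat.Prime.dvd_factorial (Fact.out : Nat.Prime 5)).1 (d5.trans f)
    omega
  obtain ⟨m, e⟩ := exists_pow_eq_self_of_coprime c
  exact (H.subgroupOf K).normalCore_le (e ▸ pow_mem k m)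

namespace St

variable (X : St G)

omit [Finite G]

theorem ak {a : G} (ha : a ∈ X.A) (h : a ∈ 𝐂(X.A)) : a = 1 := by
  have := X.p2.simple
  rcases (inferInstance : (center X.A).Normal).eq_bot_or_eq_top with e | e
  · have k : (⟨a, ha⟩ : X.A) ∈ center X.A := mem_center_iff.2 fun g => Subtype.ext (h g g.2)
    rw [e, mem_bot] at k
    exact congrArg Subtype.val k
  · have k := congrArg Subtype.val (mem_center_iff.1 (e ▸ mem_top (⟨_, X.qa_A (e5 1)⟩ : X.A))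
      ⟨_, X.qa_A ![0, 0, 1, 0, 0, 0]⟩)
    have := X.qa_comm ![0, 0, 1, 0, 0, 0] (e5 1)
    rw [show X.qa _ * X.qa _ = X.qa _ * X.qa _ from k, left_eq_mul] at this
    exact absurd (X.x_inj 11 this) (by decide)
theorem odd_inf {g : G} (hg : g ∉ 𝐍(X.A)) : Odd (Nat.card (𝐂(X.A) ⊓ 𝐂(X.A) ^ᶜ g : Subgroup G)) :=
  X.std.2.1.2 g (X.std.2.2.2 ▸ hg)
theorem tg {g x : G} (hg : g ∉ 𝐍(X.A)) (h1 : x ∈ 𝐂(X.A)) (h2 : x ∈ 𝐂(X.A) ^ᶜ g) {j : ℕ}
    (hj : x ^ 2 ^ j = 1) : x = 1 := eq_one_of_odd (X.odd_inf hg) ⟨h1, h2⟩ hj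
theorem tg' {c k : G} (h1 : k ∈ 𝐂(X.A)) (h2 : k * k = 1) (h3 : k ≠ 1)
    (h4 : c * k * c⁻¹ ∈ 𝐂(X.A)) : c ∈ 𝐍(X.A) := by
  by_contra h
  exact h3 (X.tg (g := c⁻¹) (j := 1) (fun e => h (by simpa using inv_mem e)) h1
    (mem_cj.2 (by rwa [inv_inv])) (by rw [pow_one, sq, h2]))
theorem cent_N {c k : G} (h1 : k ∈ 𝐂(X.A)) (h2 : k * k = 1) (h3 : k ≠ 1) (h4 : c * k = k * c) :
    c ∈ 𝐍(X.A) := X.tg' h1 h2 h3 (by rwa [h4, mul_inv_cancel_right])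
theorem not_le {g : G} (hg : g ∉ 𝐍(X.A)) : ¬ X.A ≤ 𝐂(X.A) ^ᶜ g := fun h =>
  X.std.2.2.1 g (fun e => hg (cj_eq_self_iff.1 e))
    (commutator_eq_bot_iff_le_centralizer.2 (cj_centralizer X.A g ▸ h))
theorem KN {n k : G} (hn : n ∈ 𝐍(X.A)) (hk : k ∈ 𝐂(X.A)) : n * k * n⁻¹ ∈ 𝐂(X.A) :=
  conj_mem_of_mem_normalizer (normalizer_le_normalizer_centralizer _ hn) hk
theorem pr_mul {k a k' a' : G} (ha : a ∈ X.A) (hk' : k' ∈ 𝐂(X.A)) :
    k * a * (k' * a') = k * k' * (a * a') := by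
  rw [mul_assoc, ← mul_assoc a, hk' a ha]; group
theorem pr_uq {k a k' a' : G} (hk : k ∈ 𝐂(X.A)) (ha : a ∈ X.A) (hk' : k' ∈ 𝐂(X.A)) (ha' : a' ∈ X.A)
    (e : k * a = k' * a') : k = k' ∧ a = a' := by
  have e1 : k'⁻¹ * k = a' * a⁻¹ := by
    rw [inv_mul_eq_iff_eq_mul, ← mul_assoc, ← e, mul_inv_cancel_right]
  have := X.ak (mul_mem ha' (inv_mem ha)) (e1 ▸ mul_mem (inv_mem hk') hk)
  rw [mul_inv_eq_one] at this
  exact ⟨mul_right_cancel (this ▸ e), this.symm⟩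
theorem pr_comm {k a k' a' : G} (hk : k ∈ 𝐂(X.A)) (ha : a ∈ X.A) (hk' : k' ∈ 𝐂(X.A))
    (ha' : a' ∈ X.A) (e : k * a * (k' * a') = k' * a' * (k * a)) :
    k * k' = k' * k ∧ a * a' = a' * a := by
  rw [X.pr_mul ha hk', X.pr_mul ha' hk] at e
  exact X.pr_uq (mul_mem hk hk') (mul_mem ha ha') (mul_mem hk' hk) (mul_mem ha' ha) e
theorem pr_pow {k a : G} (hk : k ∈ 𝐂(X.A)) (ha : a ∈ X.A) {n : ℕ} (e : (k * a) ^ n = 1) :
    k ^ n = 1 ∧ a ^ n = 1 := by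
  rw [(show Commute k a from (hk a ha).symm).mul_pow, ← mul_one 1] at e
  exact X.pr_uq (pow_mem hk n) (pow_mem ha n) (one_mem _) (one_mem _) e
theorem mem_KA {g : G} : g ∈ 𝐂(X.A) ⊔ X.A ↔ ∃ k ∈ 𝐂(X.A), ∃ a ∈ X.A, g = k * a :=
  mem_sup_of_le_normalizer_right (centralizer_le_normalizer _)
/-- the projection of `C(A) A` to `A` -/
theorem exists_pi : ∃ π : ↥(𝐂(X.A) ⊔ X.A) →* G, ∀ g : ↥(𝐂(X.A) ⊔ X.A),
    π g ∈ X.A ∧ (g : G) * (π g)⁻¹ ∈ 𝐂(X.A) := by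
  choose k hk a ha e using fun g : ↥(𝐂(X.A) ⊔ X.A) => X.mem_KA.1 g.2
  refine ⟨MonoidHom.mk' a fun g h => ?_, fun g => ⟨ha g, ?_⟩⟩
  · exact (X.pr_uq (hk _) (ha _) (mul_mem (hk g) (hk h)) (mul_mem (ha g) (ha h))
      (by rw [← e, ← X.pr_mul (ha g) (hk h), ← e, ← e, coe_mul])).2
  · rw [e g, MonoidHom.mk'_apply, mul_inv_cancel_right]; exact hk g
theorem Phi_mul {n m : G} (h : X.Phi n) (h' : X.Phi m) : n * m ∈ 𝐂(X.A) := by
  refine cent_closure ?_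
  rintro _ ⟨r, t, rfl⟩
  have e : ∀ t : F4, t * t * (t * t) = t := by decide
  have := h r (t * t)
  rw [e, ← h'] at this
  exact (mul_inv_eq_iff_eq_mul.1 (by rw [← this]; nth_rw 1 [this]; group)).symm
theorem phi_of {n : G} (hn : n ∈ 𝐍(X.A)) (h1 : n ∉ 𝐂(X.A) ⊔ X.A) : ∃ a ∈ X.A, X.Phi (a * n) := by
  obtain ⟨a, ha, h | h⟩ := X.p3.aut n hn
  · exact (h1 (by simpa using mul_mem (mem_sup_right (inv_mem ha)) (mem_sup_left h))).elim
  · exact ⟨a, ha, h⟩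
theorem mul_KA {n m : G} (hn : n ∈ 𝐍(X.A)) (hm : m ∈ 𝐍(X.A)) (h1 : n ∉ 𝐂(X.A) ⊔ X.A)
    (h2 : m ∉ 𝐂(X.A) ⊔ X.A) : n * m ∈ 𝐂(X.A) ⊔ X.A := by
  obtain ⟨a, ha, h⟩ := X.phi_of hn h1
  obtain ⟨b, hb, h'⟩ := X.phi_of hm h2
  rw [show n * m = a⁻¹ * (a * n * b⁻¹ * (a * n)⁻¹) * (a * n * (b * m)) by group]
  exact mul_mem (mem_sup_right (mul_mem (inv_mem ha) (conj_mem_of_mem_normalizer
    (mul_mem (le_normalizer ha) hn) (inv_mem hb)))) (mem_sup_left (X.Phi_mul h h'))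
theorem sq_KA {n : G} (hn : n ∈ 𝐍(X.A)) : n * n ∈ 𝐂(X.A) ⊔ X.A := by
  by_cases h : n ∈ 𝐂(X.A) ⊔ X.A
  exacts [mul_mem h h, X.mul_KA hn hn h h]
theorem five_KA {n : G} (hn : n ∈ 𝐍(X.A)) (h5 : n ^ 5 = 1) : n ∈ 𝐂(X.A) ⊔ X.A := by
  have := pow_mem (X.sq_KA hn) 3
  rwa [← sq, ← pow_mul, show 2 * 3 = 5 + 1 from rfl, pow_succ, h5, one_mul] at this
theorem cV_KB {n : G} (hn : n ∈ 𝐍(X.A)) (h : n ∈ 𝐂(X.V)) :
    ∃ k ∈ 𝐂(X.A), ∃ b ∈ X.B, n = k * b := by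
  by_cases h1 : n ∈ 𝐂(X.A) ⊔ X.A
  · obtain ⟨k, hk, a, ha, rfl⟩ := X.mem_KA.1 h1
    have := mul_mem (inv_mem (centralizer_anti X.V_le_A hk)) h
    rw [inv_mul_cancel_left] at this
    exact ⟨k, hk, a, X.p2.cV a ha 1 one_ne_zero (X.mem_CV.1 this 1), rfl⟩
  · obtain ⟨a, ha, k⟩ := X.phi_of hn h1
    have e : ∀ s, a * X.vv s * a⁻¹ = X.vv (s * s) := fun s => by
      rw [← show _ = X.vv (s * s) from k 11 s, mul_assoc a n, show n * X.x 11 s = _ from X.mem_CV.1 h s]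
      group
    have := e w
    rw [X.mem_CV.1 (X.B_le_CV (X.p2.cV a ha 1 one_ne_zero (mul_inv_eq_iff_eq_mul.1
      ((e 1).trans (by rw [mul_one]))))), mul_inv_cancel_right] at this
    exact absurd (X.vv_inj this) (by decide)
theorem cent_B {a : G} (ha : a ∈ X.A) (h : a ∈ 𝐂(X.B)) : a ∈ X.V :=
  X.p1.B_cent a (X.p2.cV a ha 1 one_ne_zero (h _ (X.V_le_B (X.vv_mem 1))).symm)
    (centralizer_anti X.QA_le_B h)
theorem cent_z : X.A ⊓ centralizer {X.z} = X.B :=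
  le_antisymm (fun a h => X.p2.cV a h.1 1 one_ne_zero (mem_centralizer_singleton_iff.1 h.2))
    fun _ h => ⟨X.B_le_A h, mem_centralizer_singleton_iff.2 (X.mem_CV.1 (X.B_le_CV h) 1)⟩

end St

end H79.AS
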