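import Cfsg.Agent.Lib.ASG.Mod

/-! Orbits of `A₈` on `V6`; involutions. -/

set_option autoImplicit false

namespace H79.AS

open H30 H30.F4 H69 Subgroup Cfsg Equiv

namespace Orbx

/-- an order on the field -/
def cd : F4 → ℕ
  | .o => 0 | .i => 1 | .w => 2 | .v => 3

theorem sum_enc (x : V6) : ∑ i, enc x i = 0 := by
  have h : ∀ a b c d e f : F4, a + b + c + (v * a + w * b + c) + (w * a + v * b + c) + (c + f) + (d + e + f) +
      (v * d + w * e + f) + (w * d + v * e + f) + 0 = 0 := fun a b c d e f => by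
    have e1 : (1 : F4) + v + w = 0 := by decide
    linear_combination (a + b + d + e) * e1 + (2 * c + 2 * f) * two_eq_zero
  rw [Fin.sum_univ_eight]
  exact h _ _ _ _ _ _

/-- an invariant property can be checked on the sorted vectors -/
theorem sorted {P : V6 → Prop} (inv : ∀ σ x, P (act σ x) → P x)
    (h : ∀ a b, cd a ≤ cd b → ∀ c, cd b ≤ cd c → ∀ d, cd c ≤ cd d → ∀ e, cd d ≤ cd e → ∀ f, cd e ≤ cd f →
      ∀ g, cd f ≤ cd g → ∀ k, cd g ≤ cd k → a + b + c + d + e + f + g + k = 0 → P (dec ![a, b, c, d, e, f, g, k]))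
    (x : V6) : P x := by
  have m := Tuple.monotone_sort (cd ∘ enc x)
  have s := (Equiv.sum_comp (Tuple.sort (cd ∘ enc x)) (enc x)).trans (sum_enc x)
  rw [Fin.sum_univ_eight] at s
  exact inv (Tuple.sort (cd ∘ enc x))⁻¹ x (h _ _ (m (show (0 : Fin 8) ≤ 1 by decide)) _
    (m (show (1 : Fin 8) ≤ 2 by decide)) _ (m (show (2 : Fin 8) ≤ 3 by decide)) _
    (m (show (3 : Fin 8) ≤ 4 by decide)) _ (m (show (4 : Fin 8) ≤ 5 by decide)) _
    (m (show (5 : Fin 8) ≤ 6 by decide)) _ (m (show (6 : Fin 8) ≤ 7 by decide)) s)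

theorem act_inv (σ : Perm (Fin 8)) (x : V6) : act σ⁻¹ (act σ x) = x := by rw [← act_mul, inv_mul_cancel, act_one]
theorem act_inv' (σ : Perm (Fin 8)) (x : V6) : act σ (act σ⁻¹ x) = x := by rw [← act_mul, mul_inv_cancel, act_one]
theorem act_zero (σ : Perm (Fin 8)) : act σ 0 = 0 := by simpa using act_smul σ 0 0
theorem act_ne {σ : Perm (Fin 8)} {x : V6} (h : x ≠ 0) : act σ x ≠ 0 := fun e => h (by
  rw [← act_inv σ x, e, act_zero])

/-- the parity can be corrected by a transposition fixing the vector -/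
theorem even_of {x : V6} {a b : Fin 8} (n : a ≠ b) (e : act (swap a b) x = x) (σ : Perm (Fin 8)) :
    ∃ τ, Ev τ ∧ act τ x = act σ x := by
  rcases Int.units_eq_one_or (Perm.sign σ) with s | s
  · exact ⟨σ, s, rfl⟩
  · exact ⟨σ * swap a b, by rw [Ev, Perm.sign_mul, Perm.sign_swap n, s]; rfl, by rw [act_mul, e]⟩

theorem dv (σ : Perm (Fin 8)) : Dv (act σ (er 1)) := by
  obtain ⟨τ, a, e⟩ := even_of (x := er 1) (a := 3) (b := 4) (by decide) (by decide +kernel) σ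
  exact ⟨τ, a, e.symm⟩

theorem dv_act {x : V6} (h : Dv x) (σ : Perm (Fin 8)) : Dv (act σ x) := by
  obtain ⟨τ, -, rfl⟩ := h
  rw [← act_mul]; exact dv _

theorem ev_conj {τ : Perm (Fin 8)} (h : Ev τ) (σ : Perm (Fin 8)) : Ev (σ * τ * σ⁻¹) := by
  rw [Ev, Perm.sign_mul, Perm.sign_mul, Perm.sign_inv, h, mul_one, Int.units_mul_self]

theorem act_conj (σ τ : Perm (Fin 8)) (x : V6) : act (σ * τ * σ⁻¹) (act σ x) = act σ (act τ x) := by
  rw [act_mul, act_mul, act_inv]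

set_option synthInstance.maxSize 4000 in
set_option synthInstance.maxHeartbeats 200000 in
theorem sing_leaf : ∀ a b, cd a ≤ cd b → ∀ c, cd b ≤ cd c → ∀ d, cd c ≤ cd d → ∀ e, cd d ≤ cd e → ∀ f, cd e ≤ cd f →
    ∀ g, cd f ≤ cd g → ∀ k, cd g ≤ cd k → a + b + c + d + e + f + g + k = 0 →
    ∀ y, y = dec ![a, b, c, d, e, f, g, k] → q6 y = 0 → y ≠ 0 →
      (∃ σ ∈ [swap 0 5 * swap 1 7 * swap 2 6, swap 1 6 * swap 2 7, swap 0 2 * swap 0 7, swap 0 1 * swap 0 2],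
        act σ (er 1) = y) ∨
      ∃ τ ∈ [swap 0 1 * swap 1 2 * swap 2 3 * swap 4 5,
        swap 0 2 * swap 2 1 * swap 1 3 * swap 4 6 * swap 6 5 * swap 5 7], act τ y = y := by
  simp only [forall_eq]
  decide +kernel

set_option synthInstance.maxSize 4000 in
set_option synthInstance.maxHeartbeats 200000 in
theorem rat_leaf : ∀ a b, cd a ≤ cd b → ∀ c, cd b ≤ cd c → ∀ d, cd c ≤ cd d → ∀ e, cd d ≤ cd e → ∀ f, cd e ≤ cd f →
    ∀ g, cd f ≤ cd g → ∀ k, cd g ≤ cd k → a + b + c + d + e + f + g + k = 0 →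
    ∀ y, y = dec ![a, b, c, d, e, f, g, k] → q6 y = 0 → y ≠ 0 → bar y = y → act (swap 3 7) (e5 1) = y := by
  simp only [forall_eq]
  decide +kernel

theorem moved_leaf : ∀ a d f : F4, ∀ y : V6, y = ![a, a * a, 0, d, d * d, f] → f * f = f → y ≠ 0 → y ≠ e5 1 →
    ∃ σ ∈ [swap 4 5 * swap 5 6, swap 1 2 * swap 2 7], b6 y (act σ y) ≠ 0 := by
  simp only [forall_eq]
  decide +kernel

/-- involutions with supports of the same size are conjugate -/
theorem conj_of {σ τ : Perm (Fin 8)} (h : σ * σ = 1) (h' : τ * τ = 1) (e : σ.support.card = τ.support.card) :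
    ∃ ρ, ρ * τ * ρ⁻¹ = σ := by
  have : Fact (Nat.Prime 2) := ⟨Nat.prime_two⟩
  have k : ∀ {σ : Perm (Fin 8)}, σ * σ = 1 → σ.cycleType = Multiset.replicate (σ.support.card / 2) 2 := fun {σ} h => by
    have a := Multiset.eq_replicate_card.2 (Perm.pow_prime_eq_one_iff.1 ((pow_two σ).trans h))
    rw [← Perm.sum_cycleType, a]
    simp
  exact isConj_iff.1 (Perm.isConj_iff_cycleType_eq.2 (by rw [k h, k h', e]))

theorem inv_cls {σ : Perm (Fin 8)} (h : Ev σ) (h2 : σ * σ = 1) : σ = 1 ∨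
    (∃ ρ, ρ * (swap 3 4 * swap 5 6) * ρ⁻¹ = σ) ∨ ∃ ρ, ρ * (swap 0 7 * swap 1 2 * (swap 3 4 * swap 5 6)) * ρ⁻¹ = σ := by
  have : Fact (Nat.Prime 2) := ⟨Nat.prime_two⟩
  have a := Multiset.eq_replicate_card.2 (Perm.pow_prime_eq_one_iff.1 ((pow_two σ).trans h2))
  have s := Perm.sum_cycleType σ
  have p := Perm.sign_of_cycleType σ
  have le : σ.support.card ≤ 8 := Finset.card_le_univ _
  rw [h, s] at p
  rw [a, Multiset.sum_replicate, smul_eq_mul] at s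
  generalize Multiset.card σ.cycleType = n at s p
  rw [← s] at p
  have c : σ.support.card = 0 ∨ σ.support.card = 4 ∨ σ.support.card = 8 := by
    have : n ≤ 4 := by omega
    interval_cases n <;> first | omega | exact absurd p (by decide)
  rcases c with c | c | c
  · exact Or.inl (Perm.card_support_eq_zero.1 c)
  · exact Or.inr (Or.inl (conj_of h2 (by decide +kernel) (c.trans (by decide +kernel))))
  · exact Or.inr (Or.inr (conj_of h2 (by decide +kernel) (c.trans (by decide +kernel))))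

theorem s8 (x : V6) : act (swap 0 7 * swap 1 2 * (swap 3 4 * swap 5 6)) x + x =
    ![x 2, x 2, 0, x 2, x 2, x 0 + x 1 + x 3 + x 4] := by
  rw [act_mul, act_u1, act_xa1]
  funext i
  fin_cases i <;> simp [uv, xav]
  · linear_combination x 0 * two_eq_zero
  · linear_combination x 1 * two_eq_zero
  · linear_combination x 2 * two_eq_zero
  · linear_combination x 3 * two_eq_zero
  · linear_combination x 4 * two_eq_zero
  · linear_combination (x 2 + x 5) * two_eq_zero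

theorem s8_wit : ∀ a b : F4, (![a, a, 0, a, a, b] : V6) ≠ 0 → ∃ σ ∈ [1, swap 0 2, swap 0 1, swap 0 5, swap 0 3,
    swap 0 1 * swap 0 3, swap 0 1 * swap 0 5, swap 0 2 * swap 2 5, swap 2 5, swap 0 2 * swap 2 3, swap 2 3,
    swap 0 1 * swap 1 5, swap 1 5, swap 1 3, swap 0 1 * swap 1 3],
    act σ (er 1) 2 = a ∧ act σ (er 1) 0 + act σ (er 1) 1 + act σ (er 1) 3 + act σ (er 1) 4 = b := by
  decide +kernel

theorem card_conj (ρ τ : Perm (Fin 8)) :
    Nat.card {x : V6 // act (ρ * τ * ρ⁻¹) x = x} = Nat.card {x : V6 // act τ x = x} :=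
  Nat.card_congr ⟨fun x => ⟨act ρ⁻¹ x, by
      have := congrArg (act ρ⁻¹) x.2
      rwa [act_mul, act_mul, act_inv] at this⟩, fun x => ⟨act ρ x, by rw [act_conj, x.2]⟩,
    fun x => Subtype.ext (act_inv' ρ x), fun x => Subtype.ext (act_inv ρ x)⟩

theorem card_s8 : Nat.card {x : V6 // act (swap 0 7 * swap 1 2 * (swap 3 4 * swap 5 6)) x = x} = 256 := by
  have k : ∀ x : V6, act (swap 0 7 * swap 1 2 * (swap 3 4 * swap 5 6)) x = x ↔ x 2 = 0 ∧ x 4 = x 0 + x 1 + x 3 :=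
    fun x => by
      rw [← add_right_cancel_iff (a := x), s8, add_self6]
      refine ⟨fun e => ⟨congrFun e 0, ?_⟩, fun e => ?_⟩
      · have : x 0 + x 1 + x 3 + x 4 = 0 := congrFun e 5
        linear_combination this - (x 0 + x 1 + x 3) * two_eq_zero
      · rw [e.1, e.2, CharTwo.add_self_eq_zero]
        decide
  refine (Nat.card_congr (β := F4 × F4 × F4 × F4) ⟨fun x => (x.1 0, x.1 1, x.1 3, x.1 5),
    fun p => ⟨![p.1, p.2.1, 0, p.2.2.1, p.1 + p.2.1 + p.2.2.1, p.2.2.2], (k _).2 ⟨rfl, rfl⟩⟩, fun x => Subtype.ext (by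
      obtain ⟨e1, e2⟩ := (k _).1 x.2
      funext i
      fin_cases i
      exacts [rfl, rfl, e1.symm, rfl, e2.symm, rfl]), fun p => rfl⟩).trans ?_
  simp only [Nat.card_prod, natCard_eq]

end Orbx

open Orbx

theorem Dv.act {x : V6} (h : Dv x) {σ : Perm (Fin 8)} (hσ : Ev σ) : Dv (act σ x) := (fun _ => dv_act h σ) hσ

theorem Dv_er {a : F4} (h : a ≠ 0) : Dv (er a) := by
  obtain ⟨σ, -, e⟩ := (by decide +kernel : ∀ a : F4, a ≠ 0 →
    ∃ σ ∈ [1, swap 0 1 * swap 1 2, swap 0 1 * swap 0 2], act σ (er 1) = er a) a h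
  exact e ▸ dv σ

theorem Dv.ne {x : V6} (h : Dv x) : x ≠ 0 ∧ q6 x = 0 := by
  obtain ⟨σ, -, rfl⟩ := h
  exact ⟨act_ne (by decide), (q6_act σ _).trans (by decide)⟩

/-- the singular vectors outside the orbit of `r` have stabilisers with elements of order four -/
theorem sing_cases {x : V6} (h : q6 x = 0) (h0 : x ≠ 0) :
    Dv x ∨ ∃ τ, Ev τ ∧ act τ x = x ∧ τ ^ 30 ≠ 1 := by
  refine sorted (P := fun x => q6 x = 0 → x ≠ 0 → Dv x ∨ ∃ τ, Ev τ ∧ act τ x = x ∧ τ ^ 30 ≠ 1)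
    (fun σ x p h h0 => ?_) (fun a b h1 c h2 d h3 e h4 f h5 g h6 k h7 s h h0 => ?_) x h h0
  · rcases p ((q6_act σ x).trans h) (act_ne h0) with d | ⟨τ, a, e, n⟩
    · exact Or.inl (act_inv σ x ▸ dv_act d σ⁻¹)
    · refine Or.inr ⟨σ⁻¹ * τ * σ⁻¹⁻¹, ev_conj a _, ?_, fun f => n ?_⟩
      · rw [act_mul, act_mul, inv_inv, e, act_inv]
      · rwa [conj_pow, conj_eq_one_iff] at f
  · rcases sing_leaf a b h1 c h2 d h3 e h4 f h5 g h6 k h7 s _ rfl h h0 with ⟨σ, -, e⟩ | ⟨τ, m, e⟩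
    · exact Or.inl (e ▸ dv σ)
    · rcases List.mem_pair.1 m with rfl | rfl <;>
        exact Or.inr ⟨_, by simp [Ev], e, fun f => absurd (DFunLike.congr_fun f 0) (by decide +kernel)⟩

theorem rat_trans {x : V6} (hx : bar x = x) (h : q6 x = 0) (h0 : x ≠ 0) :
    ∃ σ, Ev σ ∧ act σ (e5 1) = x := by
  obtain ⟨σ, e⟩ := sorted (P := fun x => q6 x = 0 → x ≠ 0 → bar x = x → ∃ σ, act σ (e5 1) = x)
    (fun σ x p h h0 hx => by
      obtain ⟨τ, e⟩ := p ((q6_act σ x).trans h) (act_ne h0) (by rw [bar_act, hx])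
      exact ⟨σ⁻¹ * τ, by rw [act_mul, e, act_inv]⟩)
    (fun a b h1 c h2 d h3 e h4 f h5 g h6 k h7 s h h0 hx =>
      ⟨_, rat_leaf a b h1 c h2 d h3 e h4 f h5 g h6 k h7 s _ rfl h h0 hx⟩) x h h0 hx
  exact e ▸ even_of (x := e5 1) (a := 0) (b := 1) (by decide) (by decide +kernel) σ

theorem moved {y : V6} (hy : bar y = y) (h : b6 y (e5 1) = 0) (h0 : y ≠ 0) (h1 : y ≠ e5 1) :
    ∃ σ, Ev σ ∧ act σ (e5 1) = e5 1 ∧ b6 y (act σ y) ≠ 0 := by
  have e2 : y 2 = 0 := by simpa [b6, e5] using h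
  obtain ⟨σ, m, e⟩ := moved_leaf (y 0) (y 3) (y 5) y (by
    funext i
    fin_cases i
    exacts [rfl, (congrFun hy 1).symm, e2, rfl, (congrFun hy 4).symm, rfl]) (congrFun hy 5) h0 h1
  rcases List.mem_pair.1 m with rfl | rfl <;> exact ⟨_, by simp [Ev], by decide +kernel, e⟩

theorem card_fix {σ : Perm (Fin 8)} (h : Ev σ) (h2 : σ * σ = 1) (h1 : σ ≠ 1) :
    Nat.card {x : V6 // act σ x = x} = 256 := by
  rcases inv_cls h h2 with e | ⟨ρ, rfl⟩ | ⟨ρ, rfl⟩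
  · exact absurd e h1
  · rw [card_conj, act_xa1, card_xa one_ne_zero]
  · rw [card_conj, card_s8]

theorem inv_cases {σ : Perm (Fin 8)} (h : Ev σ) (h2 : σ * σ = 1) :
    (∃ x, Dv x ∧ act σ x = x) ∨
      ((∀ i, σ i ≠ i) ∧ ∀ x, act σ x + x ≠ 0 → ∃ y, Dv y ∧ act σ y + y = act σ x + x) := by
  rcases inv_cls h h2 with rfl | ⟨ρ, rfl⟩ | ⟨ρ, rfl⟩
  · exact Or.inl ⟨_, dv 1, act_one _⟩
  · exact Or.inl ⟨_, dv ρ, by rw [act_conj, act_xa1]; congr 1⟩
  refine Or.inr ⟨fun i e => (by decide +kernel : ∀ i, (swap 0 7 * swap 1 2 * (swap 3 4 * swap 5 6) : Perm (Fin 8)) i ≠ i)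
    (ρ⁻¹ i) (Perm.eq_inv_iff_eq.2 e), fun x n => ?_⟩
  rw [← act_inv' ρ x, act_conj, ← act_add, s8] at n ⊢
  obtain ⟨τ, -, e1, e2⟩ := s8_wit _ _ fun e => n (by rw [e, act_zero])
  exact ⟨_, dv_act (dv τ) ρ, by rw [act_conj, ← act_add, s8, e1, e2]⟩

theorem card_semireg {H : Subgroup (Perm (Fin 8))} (h : ∀ σ ∈ H, σ ≠ 1 → ∀ i, σ i ≠ i) :
    Nat.card H ≤ 8 := by
  refine (Nat.card_le_card_of_injective (fun σ : H => σ.1 0) fun σ τ e => ?_).trans (by simp)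
  by_contra n
  exact h _ (mul_mem (inv_mem σ.2) τ.2) (fun f => n (Subtype.ext (inv_mul_eq_one.1 f))) 0
    (Perm.inv_eq_iff_eq.2 e.symm)

end H79.AS
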