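import Cfsg.Agent.Lib.ASG.LW
import Cfsg.Agent.Lib.ASG.Orb

/-! `b = 1` and `M / O W ≅ A₈`. -/

set_option autoImplicit false

namespace H79.AS

open H30 H30.F4 H69 Subgroup Cfsg Equiv

variable {G : Type*} [Group G]

/-- `g` centralises `V` and acts on `W / V` as `f` -/
def Fc.Cv (X : Fc G) (g : G) (f : V6 → V6) : Prop := g ∈ 𝐂(X.V) ∧ X.Ac g f

theorem Fc.Cv.mul {X : Fc G} {g k : G} {f f' : V6 → V6} (a : X.Cv g f) (b : X.Cv k f') :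
    X.Cv (g * k) (f ∘ f') :=
  ⟨mul_mem a.1 b.1, X.ac_mul (centralizer_le_normalizer _ a.1) a.2 b.2⟩

/-- two linear actions which agree on the basis -/
theorem Fc.Cv.lin {X : Fc G} {g : G} {f : V6 → V6} (a : X.Cv g f) (x : V6) :
    f x = x 0 • f ![1, 0, 0, 0, 0, 0] + x 1 • f ![0, 1, 0, 0, 0, 0] + x 2 • f ![0, 0, 1, 0, 0, 0] +
      x 3 • f ![0, 0, 0, 1, 0, 0] + x 4 • f ![0, 0, 0, 0, 1, 0] + x 5 • f ![0, 0, 0, 0, 0, 1] := by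
  have n := centralizer_le_normalizer _ a.1
  nth_rw 1 [wc_basis x]
  simp only [X.ac_add n a.2, X.ac_smul a.1 a.2]

theorem Fc.bz_a (X : Fc G) (c : F4) : X.Cv (X.x 7 c) (xav c) :=
  ⟨X.B_le_CV (X.L_le_B (X.x7_mem c)), X.xa_ac c⟩
theorem Fc.bz_n (X : Fc G) : X.Cv X.na nav := ⟨X.B_le_CV (X.L_le_B X.na_mem), X.na_ac⟩
theorem Fc.bz_h (X : Fc G) : X.Cv X.ha fun y => ![y 0, y 1, y 2, v * y 3, w * y 4, y 5] :=
  ⟨X.B_le_CV (X.L_le_B X.ha_mem), X.ha_ac⟩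
theorem Fd.bz_u (X : Fd G) (c : F4) : X.Cv (X.u c) (uv X.b c) := ⟨X.u_CV c, X.u_ac c⟩

theorem Fc.Cv.nr {X : Fc G} {g : G} {f : V6 → V6} (a : X.Cv g f) (h : f (er 1) = er 1) :
    ∃ o ∈ X.O, ∃ y ∈ X.W, ∃ l ∈ X.L, g = o * y * l := by
  obtain ⟨o, ho, y, hy, l, hl, -, e⟩ := X.NR 1 one_ne_zero g a.1 (by
    have := a.2 (er 1)
    rwa [h, X.ww_er] at this)
  exact ⟨o, ho, y, hy, l, hl, e⟩

theorem Fc.bz_OV (X : Fc G) {o : G} (ho : o ∈ X.O) : o ∈ 𝐂(X.V) :=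
  centralizer_anti X.V_le_A (X.O_K ho)

theorem Fc.Cv.e1 {X : Fc G} {g : G} {f : V6 → V6} (a : X.Cv g f) (h : f (er 1) = er 1) :
    f ![0, 1, 0, 0, 0, 0] = ![0, 1, 0, 0, 0, 0] := by
  obtain ⟨o, ho, y, hy, l, hl, rfl⟩ := a.nr h
  obtain ⟨s, e⟩ := a.2 ![0, 1, 0, 0, 0, 0]
  obtain ⟨t, e'⟩ := X.ac_W hy ![0, 1, 0, 0, 0, 0]
  refine (X.w_inj _ s _ t ?_).1
  rw [id, X.ww_p] at e'
  rw [← e, X.ww_p, show o * y * l * X.p 1 * (o * y * l)⁻¹ = o * (y * (l * X.p 1 * l⁻¹) * y⁻¹) * o⁻¹ by group,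
    X.p_B 1 l (X.L_le_B hl), mul_inv_cancel_right, e', cj_mul, X.p_O 1 o ho, mul_inv_cancel_right,
    X.cj_vv' (X.bz_OV ho)]

variable [Finite G]

theorem Fd.bz_zero (X : Fd G) : X.b ≠ 0 := fun b0 => by
  have u : ∀ c, X.Cv (X.u c) (uv 0 c) := fun c => b0 ▸ X.bz_u c
  have a := X.bz_a
  have n := X.bz_n
  obtain ⟨m, F, hm, hF⟩ : ∃ m F, X.Cv m F ∧ F ![1, 0, 0, 0, 0, 0] = ![1, 0, 0, 0, 1, 0] ∧
      F ![0, 1, 0, 0, 0, 0] = ![0, 1, 0, 0, 0, 0] ∧ F ![0, 0, 1, 0, 0, 0] = ![0, 0, 1, 0, 0, 0] ∧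
      F ![0, 0, 0, 1, 0, 0] = ![0, 1, 0, 1, 0, 0] ∧ F ![0, 0, 0, 0, 1, 0] = ![0, 0, 0, 0, 1, 0] ∧
      F ![0, 0, 0, 0, 0, 1] = ![0, 0, 0, 0, 0, 1] :=
    ⟨_, _, (u v).mul (n.mul ((u v).mul ((a v).mul (n.mul ((u 1).mul (n.mul ((a w).mul (n.mul
      ((u w).mul ((a 1).mul (n.mul (a 1)))))))))))), by decide⟩
  obtain rfl : F = fun x => ![x 0, x 1 + x 3, x 2, x 3, x 4 + x 0, x 5] := funext fun x => by
    rw [hm.lin x, hF.1, hF.2.1, hF.2.2.1, hF.2.2.2.1, hF.2.2.2.2.1, hF.2.2.2.2.2]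
    funext i
    fin_cases i <;> simp [add_comm]
  clear hF
  have w6 : ∀ t, X.ww ![0, 0, t, 0, 0, 0] = X.x 6 t := fun t => (X.ww_qa rfl rfl).trans (X.qa_6 0 0 t)
  have h6 : ∀ t, ∃ s, m * X.x 6 t * m⁻¹ = X.x 6 t * X.vv s := fun t => by
    have := hm.2 ![0, 0, t, 0, 0, 0]
    simp only [Matrix.cons_val, add_zero] at this
    rwa [w6] at this
  choose μ hμ using h6
  have k := hm.mul X.bz_h
  have k6 : ∀ t s, m * X.ha * (X.x 6 t * X.vv s) * (m * X.ha)⁻¹ = X.x 6 t * X.vv (μ t + s) := fun t s => by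
    rw [cj_mul, X.cj_vv' k.1, show m * X.ha * X.x 6 t * (m * X.ha)⁻¹ = m * (X.ha * X.x 6 t * X.ha⁻¹) * m⁻¹ by
      group, X.ha_x, show ![1, 1, v, w, w, 1, 1, v, v, w, 1, 1] 6 * t = t from one_mul t, hμ, mul_assoc,
      X.vv_add]
  have g := k.mul (k.mul k)
  replace g : X.Cv (m * X.ha * (m * X.ha * (m * X.ha))) id := by
    convert g using 1
    funext x
    rw [g.lin x]
    exact (wc_basis x).trans (by congr 6)
  have g6 : ∀ t, m * X.ha * (m * X.ha * (m * X.ha)) * X.x 6 t * (m * X.ha * (m * X.ha * (m * X.ha)))⁻¹ =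
      X.x 6 t * X.vv (μ t) := fun t => by
    have := k6 t (μ t + (μ t + 0))
    rw [← k6, ← k6, X.vv_zero, mul_one, add_zero, f4_self, add_zero] at this
    rw [← this]; group
  obtain ⟨o, ho, y, hy, l, hl, e⟩ := g.nr rfl
  rw [e] at g g6
  have oq : ∀ t s, o * (X.qa t * X.vv s) * o⁻¹ = X.qa t * X.vv s := fun t s =>
    conj_eq_of_mem_centralizer (X.O_K ho) (mul_mem (X.qa_A t) (X.vv_A s))
  obtain rfl : l = 1 := X.p1.L_faith l hl fun t => by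
    obtain ⟨s, e1⟩ := g.2 ![0, 0, t 2, t 3, t 4, t 5]
    obtain ⟨s', e2⟩ := X.ac_wv (centralizer_le_normalizer _ (X.W_le_CV (inv_mem hy)))
      (X.ac_W (inv_mem hy)) ![0, 0, t 2, t 3, t 4, t 5] s
    rw [id, X.ww_qa rfl rfl] at e1 e2
    refine ⟨s', (?_ : l * X.qa ![0, 0, t 2, t 3, t 4, t 5] * l⁻¹ = _).trans e2⟩
    rw [← oq] at e1
    generalize X.qa ![0, 0, t 2, t 3, t 4, t 5] = q at e1 ⊢
    rw [← mul_left_cancel (mul_right_cancel ((by group : o * (y * l * q * (y * l)⁻¹) * o⁻¹ = _).trans e1))]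
    group
  obtain ⟨y, s, rfl⟩ := (X.mem_W y).1 hy
  have m6 : ∀ t, μ t = y 5 * t := fun t => by
    have := g6 t
    rw [mul_one, show ∀ a b : G, o * a * b * (o * a)⁻¹ = o * (a * b * a⁻¹) * o⁻¹ by intros; group,
      show ∀ a b c : G, a * b * c * (a * b)⁻¹ = a * (b * c * b⁻¹) * a⁻¹ by intros; group,
      ← X.x_v (r := 6) (by decide), mul_inv_cancel_right, ← w6, X.ww_conj, X.ww_qa rfl rfl, oq] at this
    simpa [b6] using (X.vv_inj (mul_left_cancel this)).symm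
  have k2 := (show X.Cv (X.ww (e5 (y 5))) id from ⟨X.W_le_CV (X.ww_mem _), X.ac_W (X.ww_mem _)⟩).mul hm
  have k26 : ∀ t, X.ww (e5 (y 5)) * m * X.x 6 t * (X.ww (e5 (y 5)) * m)⁻¹ = X.x 6 t := fun t => by
    rw [show ∀ a b c : G, a * b * c * (a * b)⁻¹ = a * (b * c * b⁻¹) * a⁻¹ by intros; group, hμ, cj_mul,
      X.cj_vv' (X.W_le_CV (X.ww_mem _)), ← w6, X.ww_conj, m6, mul_assoc, X.vv_add,
      show b6 (e5 (y 5)) ![0, 0, t, 0, 0, 0] = y 5 * t by simp [b6, e5], f4_self, X.vv_zero, mul_one]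
  obtain ⟨s1, e1⟩ := k2.2 (er 1)
  generalize X.ww (e5 (y 5)) * m = m2 at k26 e1
  have w9 : X.ww ![1, 0, 0, 0, 1, 0] = X.r 1 * X.x 9 1 := by
    rw [Fb.ww, X.qa_9]; simp [X.p_zero]
  rw [X.ww_er, show ((id : V6 → V6) ∘ fun x : V6 => ![x 0, x 1 + x 3, x 2, x 3, x 4 + x 0, x 5]) (er 1) =
    ![1, 0, 0, 0, 1, 0] by decide, w9] at e1
  have pB : ∀ {b}, b ∈ X.B → X.p s1 * b * (X.p s1)⁻¹ = b := conj_eq_of_mem_centralizer (X.p_B s1)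
  have e2 : X.p s1 * m2 * X.r 1 * (X.p s1 * m2)⁻¹ = X.r 1 * X.x 9 1 := by
    rw [show ∀ a b c : G, a * b * c * (a * b)⁻¹ = a * (b * c * b⁻¹) * a⁻¹ by intros; group, e1, cj_mul,
      cj_mul, X.p_r, pB (X.x_B (by decide) 1), pB (X.V_le_B (X.vv_mem _)), one_mul, mul_assoc (X.r 1),
      ← X.x_v (r := 9) (by decide), mul_assoc, mul_assoc, X.vv_sq, mul_one]
  have e3 : ∀ t, X.p s1 * m2 * X.x 6 t * (X.p s1 * m2)⁻¹ = X.x 6 t := fun t => by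
    rw [show ∀ a b c : G, a * b * c * (a * b)⁻¹ = a * (b * c * b⁻¹) * a⁻¹ by intros; group, k26,
      pB (X.x_B (by decide) t)]
  generalize X.p s1 * m2 = m3 at e2 e3
  have n6 : ∀ t, X.nb * X.na * X.x 6 t * (X.nb * X.na)⁻¹ = X.vv t := fun t => by
    rw [show ∀ a b c : G, a * b * c * (a * b)⁻¹ = a * (b * c * b⁻¹) * a⁻¹ by intros; group, X.na_x]
    exact X.nb_x 10 t
  have n9 : X.nb * X.na * X.x 9 1 * (X.nb * X.na)⁻¹ = X.x 7 1 := by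
    rw [show ∀ a b c : G, a * b * c * (a * b)⁻¹ = a * (b * c * b⁻¹) * a⁻¹ by intros; group, X.na_x]
    exact X.nb_x 8 1
  have nr : X.nb * X.na * X.r 1 * (X.nb * X.na)⁻¹ = X.r 1 := by
    rw [X.r_A 1 (mul_mem X.nb_mem (X.L_le_A X.na_mem)), mul_inv_cancel_right]
  generalize X.nb * X.na = ν at n6 n9 nr
  have d := (show X.Cv (X.r 1) id from X.ww_er 1 ▸ ⟨X.W_le_CV (X.ww_mem _), X.ac_W (X.ww_mem _)⟩).mul (a 1)
  have := X.lw (c := ν * m3 * ν⁻¹) (s := 0) one_ne_zero (X.mem_CV.2 fun t => by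
      rw [← n6, ← cj_mul, ← cj_mul, mul_inv_eq_iff_eq_mul.1 (e3 t)])
    (by rw [X.vv_zero, mul_one, ← n9, ← nr, ← cj_mul, ← e2, nr]; nth_rw 2 [← nr]; group) d.2
    (X.ac_norm (centralizer_le_normalizer _ d.1) d.2) (card_xa one_ne_zero).ge
  exact absurd (congrFun (X.ac_uniq d.2 (X.ac_W this)) ![0, 0, 1, 0, 0, 0]) (by decide)

theorem Fd.b_eq (X : Fd G) : X.b = 1 := by
  have n := X.bz_n
  have u := X.bz_u
  have z := X.bz_zero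
  generalize X.b = b at u z
  revert b
  refine forall_iff.2 ⟨fun _ h => (h rfl).elim, fun _ _ => rfl, fun u _ => ?_, fun u _ => ?_⟩
  · exact absurd (((u w).mul (n.mul ((u 1).mul (n.mul ((u 1).mul (n.mul (u w))))))).e1 (by decide))
      (by decide)
  · exact absurd (((u 1).mul (n.mul ((u w).mul (n.mul ((u w).mul (n.mul (u 1))))))).e1 (by decide))
      (by decide)

theorem Fd.bz_OW (X : Fd G) : X.O ≤ 𝐂(X.W) := by
  refine le_centralizer_iff.1 fun g hg => ?_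
  have r : ∀ t, X.r t ∈ 𝐂(X.O) := fun t => by
    obtain ⟨s, e⟩ := X.u_ac 1 ![0, 0, t, 0, 0, 0]
    have := mul_mem (mul_mem (X.u_O 1) (X.A_O (X.qa_A ![0, 0, t, 0, 0, 0]))) (inv_mem (X.u_O 1))
    rw [← X.ww_qa rfl rfl, e, mul_mem_cancel_right (X.A_O (X.vv_A s)), Fb.ww,
      mul_mem_cancel_right (X.A_O (X.qa_A _)), mul_mem_cancel_right (X.p_O _), X.b_eq] at this
    simpa [uv] using this
  obtain ⟨x, s, rfl⟩ := (X.mem_W g).1 hg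
  exact mul_mem (mul_mem (mul_mem (r _) (X.p_O _)) (X.A_O (X.qa_A _))) (X.A_O (X.vv_A s))

theorem Fd.bz_ex (X : Fd G) {σ : Perm (Fin 8)} (h : Ev σ) :
    ∃ m ∈ X.M, m ∈ 𝐂(X.O) ∧ X.Ac m (act σ) := by
  let H : Subgroup (Perm (Fin 8)) :=
    { carrier := {σ | ∃ m ∈ X.M, m ∈ 𝐂(X.O) ∧ X.Ac m (act σ)}
      one_mem' := ⟨1, one_mem _, one_mem _, X.ac_act_one.2 X.ac_one⟩
      mul_mem' := fun ⟨_, a, b, c⟩ ⟨_, a', b', c'⟩ =>
        ⟨_, mul_mem a a', mul_mem b b', X.ac_act_mul (centralizer_le_normalizer _ a.2) c c'⟩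
      inv_mem' := fun ⟨_, a, b, c⟩ =>
        ⟨_, inv_mem a, inv_mem b, X.ac_act_inv (centralizer_le_normalizer _ a.2) c⟩ }
  have u : ∀ c, X.u c ∈ X.M := fun c =>
    ⟨X.ac_norm (centralizer_le_normalizer _ (X.u_CV c)) (X.u_ac c), X.u_CV c⟩
  refine gen8 (H := H) (fun τ hτ => ?_) ⟨_, u 1, X.u_O 1, act_u1 ▸ X.b_eq ▸ X.u_ac 1⟩
    ⟨_, u w, X.u_O w, act_uw ▸ X.b_eq ▸ X.u_ac w⟩ h
  obtain ⟨l, hl, a⟩ := X.L_ac' τ hτ
  exact ⟨l, X.L_le_M hl, X.A_O (X.L_le_A hl), a⟩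

theorem Fd.bz_fix (X : Fd G) {g : G} (hg : g ∈ 𝐂(X.V)) (h : ∃ s, g * X.r 1 * g⁻¹ = X.r 1 * X.vv s) :
    g ∈ X.M ∧ ∃ σ, A5 σ ∧ X.Ac g (act σ) := by
  obtain ⟨o, ho, y, hy, l, hl, -, rfl⟩ := X.NR 1 one_ne_zero g hg h
  obtain ⟨σ, h5, a⟩ := X.L_ac l hl
  have a' : X.Ac (o * y * l) (act σ) := X.ac_mul (f := id ∘ id) (centralizer_le_normalizer _
    (mul_mem (X.bz_OV ho) (X.W_le_CV hy))) (X.ac_mul (centralizer_le_normalizer _ (X.bz_OV ho))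
      (X.ac_of_cent (X.bz_OW ho)) (X.ac_W hy)) a
  exact ⟨⟨X.ac_norm (centralizer_le_normalizer _ hg) a', hg⟩, σ, h5, a'⟩

omit [Finite G] in
theorem Fd.bz_cj (X : Fd G) {m g : G} {x : V6} (hm : m ∈ 𝐂(X.V)) (hg : g ∈ 𝐂(X.V))
    (h1 : ∃ s, m * X.ww (er 1) * m⁻¹ = X.ww x * X.vv s) (h2 : ∃ s, g * X.ww x * g⁻¹ = X.ww x * X.vv s) :
    ∃ s, m⁻¹ * g * m * X.r 1 * (m⁻¹ * g * m)⁻¹ = X.r 1 * X.vv s := by
  obtain ⟨s, e⟩ := h1
  obtain ⟨t, e'⟩ := h2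
  rw [X.ww_er] at e
  refine ⟨t, ?_⟩
  rw [show m⁻¹ * g * m * X.r 1 * (m⁻¹ * g * m)⁻¹ = m⁻¹ * (g * (m * X.r 1 * m⁻¹) * g⁻¹) * m by group, e,
    cj_mul, e', X.cj_vv' hg, mul_assoc (X.ww x), X.vv_comm, ← mul_assoc (X.ww x), ← e,
    ← X.cj_vv' hm t]
  rw [X.cj_vv' hm t]
  nth_rw 1 [← X.cj_vv' hm t]
  group

theorem Fd.fe (X : Fd G) : ∃ Y : Fe G, Y.toFd = X := by
  have nV : ∀ {m}, m ∈ X.M → m ∈ 𝐍(X.V) := fun h => centralizer_le_normalizer _ h.2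
  refine ⟨⟨X, X.bz_OW, fun m hm => ?_, fun σ => X.bz_ex, fun m hm a => ?_, ?_⟩, rfl⟩
  · obtain ⟨f, a⟩ := X.exists_ac hm.1
    have bj := X.ac_bij (nV hm) a
    obtain ⟨σ, h, e⟩ | ⟨τ, h, e, ne⟩ := sing_cases ((X.ac_q hm.2 a (er 1)).trans (by decide)) fun c =>
      absurd (bj.1 (c.trans ((zero_smul F4 _).symm.trans (X.ac_smul hm.2 a 0 0).symm))) (by decide)
    · obtain ⟨k, hk, -, b⟩ := X.bz_ex h
      obtain ⟨-, τ, h5, c⟩ := X.bz_fix (mul_mem (inv_mem hk.2) hm.2) (by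
        have := X.ac_mul (nV (inv_mem hk)) (X.ac_act_inv (nV hk) b) a (er 1)
        rwa [Function.comp, e, ← act_mul, inv_mul_cancel, act_one, X.ww_er] at this)
      have := X.ac_act_mul (nV hk) b c
      rw [mul_inv_cancel_left] at this
      exact ⟨_, by rw [Ev, Perm.sign_mul, h, h5.1, mul_one], this⟩
    · obtain ⟨k, hk, -, b⟩ := X.bz_ex h
      obtain ⟨-, ρ, h5, c⟩ := X.bz_fix (mul_mem (mul_mem (inv_mem hm.2) hk.2) hm.2)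
        (X.bz_cj hm.2 hk.2 (a _) (by have := b (f (er 1)); rwa [e] at this))
      have c1 := X.ac_act_pow (nV (mul_mem (mul_mem (inv_mem hm) hk) hm)) c 30
      rw [h5.pow] at c1
      have c2 := X.ac_mul (nV hm) a c1
      have c3 := X.ac_mul (nV (pow_mem hk 30)) (X.ac_act_pow (nV hk) b 30) a
      rw [show m⁻¹ * k * m = m⁻¹ * k * m⁻¹⁻¹ by group, conj_pow, inv_inv, ← mul_assoc,
        mul_inv_cancel_left] at c2
      refine (ne (act_faith fun x _ => ?_)).elim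
      obtain ⟨x, rfl⟩ := bj.2 x
      exact (congrFun (X.ac_uniq c3 c2) x).trans (congrArg f (act_one x))
  · obtain ⟨o, ho, y, hy, l, hl, rfl⟩ := Fc.Cv.nr ⟨hm.2, a⟩ rfl
    refine ⟨o, ho, y, hy, ?_⟩
    have n := mul_mem (X.bz_OV ho) (X.W_le_CV hy)
    have := X.ac_mul (centralizer_le_normalizer _ (inv_mem n)) (X.ac_inv (f' := id)
      (centralizer_le_normalizer _ n) (X.ac_mul (centralizer_le_normalizer _ (X.bz_OV ho))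
      (X.ac_of_cent (X.bz_OW ho)) (X.ac_W hy)) fun _ => rfl) a
    rw [inv_mul_cancel_left] at this
    rw [X.L_ker hl this, mul_one]
  · rintro _ ⟨σ, h, rfl⟩ g hg e
    obtain ⟨k, hk, -, b⟩ := X.bz_ex h
    have := mul_mem (mul_mem hk (X.bz_fix (mul_mem (mul_mem (inv_mem hk.2) hg) hk.2)
      (X.bz_cj hk.2 hg (b _) e)).1) (inv_mem hk)
    rwa [show k * (k⁻¹ * g * k) * k⁻¹ = g by group] at this

end H79.AS
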