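import Cfsg.Agent.Lib.ASG.Defs
import Cfsg.Agent.Lib.SuzSp.G24

/-! Words in the root elements of `G₂(4)`, compared by kernel arithmetic. -/

set_option autoImplicit false

namespace H40.GW

open H30 H15.Mdl H40.G24 Cfsg Cfsg.Lie Subgroup

abbrev Gm : Type := chevG2.group F4
abbrev Wd : Type := List (Fin 12 × F4)

theorem ex_xg (r : Fin 12) (t : F4) : ∃ g : Gm,
    ((g : GL chevG2.Idx F4) : Matrix chevG2.Idx chevG2.Idx F4) = chevG2.xMat F4 r t := by
  obtain ⟨u, hu⟩ := snd4.exists_unit (R_x r t) two_ne_zero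
    ((by decide +kernel : ∀ (r : Fin 12) (t : F4),
      ops.isOne (ops.pow (H54.nth XS (4 * r.val + cd t)) 2) = true) r t)
  exact ⟨⟨u, subset_closure ⟨r, t, hu⟩⟩, hu⟩

/-- the root elements -/
noncomputable def xg (r : Fin 12) (t : F4) : Gm := (ex_xg r t).choose

theorem xg_val (r : Fin 12) (t : F4) :
    ((xg r t : GL chevG2.Idx F4) : Matrix chevG2.Idx chevG2.Idx F4) = chevG2.xMat F4 r t :=
  (ex_xg r t).choose_spec

theorem xg_eq {r : Fin 12} {t : F4} {g : Gm}
    (h : ((g : GL chevG2.Idx F4) : Matrix chevG2.Idx chevG2.Idx F4) = chevG2.xMat F4 r t) :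
    g = xg r t := Subtype.ext (Units.ext (h.trans (xg_val r t).symm))

theorem xg_x (r : Fin 12) (t : F4) :
    ((xg r t : GL chevG2.Idx F4) : Matrix chevG2.Idx chevG2.Idx F4) = chevG2.x F4 r.val t := by
  rw [xg_val, ChevalleyDatum.x, dif_pos (show r.val < chevG2.nroots from r.2)]
  rfl

theorem xg_top : closure {g : Gm | ∃ r t, g = xg r t} = ⊤ := by
  refine top_le_iff.1 (le_trans (closure_closure_coe_preimage (k := {g : GL chevG2.Idx F4 |
    ∃ (r : Fin chevG2.nroots) (t : F4), (g : Matrix chevG2.Idx chevG2.Idx F4) =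
      chevG2.xMat F4 r t})).ge ?_)
  exact closure_mono fun g ⟨r, t, h⟩ => ⟨r, t, xg_eq h⟩

/-- the value of a word -/
def ev {G : Type*} [Group G] (x : Fin 12 → F4 → G) : Wd → G
  | [] => 1
  | p :: u => x p.1 p.2 * ev x u

theorem ev_nil {G : Type*} [Group G] (x : Fin 12 → F4 → G) : ev x [] = 1 := rfl
theorem ev_cons {G : Type*} [Group G] (x : Fin 12 → F4 → G) (r : Fin 12) (t : F4) (u : Wd) :
    ev x ((r, t) :: u) = x r t * ev x u := rfl
theorem ev_append {G : Type*} [Group G] (x : Fin 12 → F4 → G) (u v : Wd) :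
    ev x (u ++ v) = ev x u * ev x v := by
  induction u with
  | nil => exact (one_mul _).symm
  | cons p u ih => rw [List.cons_append, ev, ev, ih, mul_assoc]

theorem ev_mem {G : Type*} [Group G] {x : Fin 12 → F4 → G} {H : Subgroup G} {u : Wd}
    (h : ∀ p ∈ u, x p.1 p.2 ∈ H) : ev x u ∈ H := by
  induction u with
  | nil => exact one_mem _
  | cons p u ih =>
    exact mul_mem (h p List.mem_cons_self) (ih fun q hq => h q (List.mem_cons_of_mem _ hq))

theorem map_ev {G : Type*} [Group G] {x : Fin 12 → F4 → G} {e : Gm →* G}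
    (hx : ∀ r t, e (xg r t) = x r t) (u : Wd) : e (ev xg u) = ev x u := by
  induction u with
  | nil => exact map_one e
  | cons p u ih => rw [ev, ev, map_mul, hx, ih]

/-- the code of a word -/
noncomputable def cw (u : Wd) : ℕ :=
  List.rec (motive := fun _ => ℕ) ops.one
    (fun p _ ih => ops.mul (H54.nth XS (4 * p.1.val + cd p.2)) ih) u

noncomputable def eqw (u v : Wd) : Bool := ops.eqv (cw u) (cw v)

theorem R_ev (u : Wd) : Rm (ev xg u : Gm) (cw u) := by
  induction u with
  | nil => exact snd.one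
  | cons p u ih =>
    refine snd.mul ?_ ih
    rw [Rm, xg_val]
    exact R_x p.1 p.2

theorem eqw_iff {G : Type*} [Group G] {x : Fin 12 → F4 → G} {e : Gm →* G}
    (hi : Function.Injective e) (hx : ∀ r t, e (xg r t) = x r t) (u v : Wd) :
    eqw u v = true ↔ ev x u = ev x v := by
  rw [← map_ev hx, ← map_ev hx, hi.eq_iff, eqw, snd.eqv_iff (R_ev u) (R_ev v), Subtype.ext_iff]

theorem eqns_GW : True := by
  have := @xg.eq_1
  have := @xg.eq_def
  have := @ev.eq_1.{0}
  have := @ev.eq_2.{0}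
  have := @ev.eq_def.{0}
  have := @cw.eq_1
  have := @cw.eq_def
  have := @eqw.eq_1
  have := @eqw.eq_def
  trivial

end H40.GW
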