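import Cfsg.Agent.Lib.ASG.Bas0
import Cfsg.Agent.Lib.ASG.GW
import Cfsg.Agent.S1055
import Cfsg.Agent.S2177
import Cfsg.Agent.S2180

/-! The involutions of `G₂(4)`. -/

set_option autoImplicit false

namespace H40.GW

open H30 H30.F4 H69 Subgroup Cfsg H79.AS

/-- the element of `⟨X_b, X_{-b}⟩ ≅ SL₂(4)` with matrix `a b c d` -/
def wT (a b c d : F4) : Wd :=
  if c = 0 then [(5, 1), (6, (a + 1) * a⁻¹), (5, a), (6, (b + d + 1) * a⁻¹)]
  else [(6, (a + 1) * c⁻¹), (5, c), (6, (d + 1) * c⁻¹)]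

/-- conjugating elements for the involutions of `X₁₀ X₁₁ ⟨X₆, X₅⟩` -/
def tbI : List (List F4 × Wd) := [
    ([0, 0, 0, 1, 1, 0], [(10, 1), (5, 1), (1, 1)]),
    ([0, 0, 0, w, v, 0], [(10, v), (5, v), (1, w)]),
    ([0, 0, 0, v, w, 0], [(10, w), (5, w), (1, v)]), ([0, 0, 1, 0, 1, 1], [(8, 1), (3, 1)]),
    ([0, 0, 1, 0, w, 1], [(1, v), (11, 1), (5, w), (0, 1)]),
    ([0, 0, 1, 0, v, 1], [(1, w), (11, 1), (5, v), (0, 1)]),
    ([0, 0, 1, 1, 0, 1], [(10, 1), (1, 1)]), ([0, 0, 1, w, 0, 1], [(10, v), (1, w)]),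
    ([0, 0, 1, v, 0, 1], [(10, w), (1, v)]), ([0, 0, w, 1, w, w], [(10, 1), (5, v), (1, 1)]),
    ([0, 0, w, w, 1, w], [(10, v), (5, w), (1, w)]),
    ([0, 0, w, v, v, w], [(10, w), (5, 1), (1, v)]),
    ([0, 0, v, 1, v, v], [(10, 1), (5, w), (1, 1)]),
    ([0, 0, v, w, w, v], [(10, v), (5, 1), (1, w)]),
    ([0, 0, v, v, 1, v], [(10, w), (5, v), (1, v)]), ([0, 1, 1, 0, 0, 1], []),
    ([0, 1, 1, 1, 0, 1], [(1, 1)]), ([0, 1, 1, w, 0, 1], [(1, w)]),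
    ([0, 1, 1, v, 0, 1], [(1, v)]), ([0, w, 1, 0, 0, 1], [(0, w), (11, w), (0, 1)]),
    ([0, w, 1, 1, 0, 1], [(10, v), (1, 1)]), ([0, w, 1, w, 0, 1], [(10, w), (1, w)]),
    ([0, w, 1, v, 0, 1], [(10, 1), (1, v)]), ([0, v, 1, 0, 0, 1], [(0, v), (11, v), (0, 1)]),
    ([0, v, 1, 1, 0, 1], [(10, w), (1, 1)]), ([0, v, 1, w, 0, 1], [(10, 1), (1, w)]),
    ([0, v, 1, v, 0, 1], [(10, v), (1, v)]), ([1, 0, 1, 0, 0, 1], [(6, 1), (5, 1)]),
    ([1, 0, 1, 0, 1, 1], [(6, 1), (5, 1), (1, 1)]),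
    ([1, 0, 1, 0, w, 1], [(6, 1), (5, 1), (1, w)]),
    ([1, 0, 1, 0, v, 1], [(6, 1), (5, 1), (1, v)]), ([1, 1, 0, 1, 1, 0], [(5, 1), (1, 1)]),
    ([1, 1, 1, 0, 0, 1], [(5, 1)]), ([1, 1, w, v, v, w], [(5, 1), (1, v)]),
    ([1, 1, v, w, w, v], [(5, 1), (1, w)]), ([1, w, 0, w, v, 0], [(10, w), (5, v), (1, w)]),
    ([1, w, 1, 0, 0, 1], [(6, v), (5, 1)]), ([1, w, w, 1, w, w], [(10, v), (5, v), (1, 1)]),
    ([1, w, v, v, 1, v], [(6, v), (5, 1), (1, 1)]),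
    ([1, v, 0, v, w, 0], [(6, w), (5, 1), (1, w)]), ([1, v, 1, 0, 0, 1], [(6, w), (5, 1)]),
    ([1, v, w, w, 1, w], [(6, w), (5, 1), (1, 1)]),
    ([1, v, v, 1, v, v], [(10, w), (5, w), (1, 1)]), ([w, 0, 1, 0, 0, 1], [(6, v), (5, w)]),
    ([w, 0, 1, 0, 1, 1], [(6, v), (5, w), (1, w)]),
    ([w, 0, 1, 0, w, 1], [(6, v), (5, w), (1, v)]),
    ([w, 0, 1, 0, v, 1], [(6, v), (5, w), (1, 1)]), ([w, 1, 0, v, w, 0], [(5, w), (1, v)]),
    ([w, 1, 1, 0, 0, 1], [(5, w)]), ([w, 1, w, w, 1, w], [(5, w), (1, w)]),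
    ([w, 1, v, 1, v, v], [(5, w), (1, 1)]), ([w, w, 0, 1, 1, 0], [(10, v), (5, 1), (1, 1)]),
    ([w, w, 1, 0, 0, 1], [(6, w), (5, w)]), ([w, w, w, v, v, w], [(6, w), (5, w), (1, 1)]),
    ([w, w, v, w, w, v], [(10, w), (5, 1), (1, w)]),
    ([w, v, 0, w, v, 0], [(6, 1), (5, w), (1, 1)]), ([w, v, 1, 0, 0, 1], [(6, 1), (5, w)]),
    ([w, v, w, 1, w, w], [(10, w), (5, v), (1, 1)]),
    ([w, v, v, v, 1, v], [(6, 1), (5, w), (1, w)]), ([v, 0, 1, 0, 0, 1], [(6, w), (5, v)]),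
    ([v, 0, 1, 0, 1, 1], [(6, w), (5, v), (1, v)]),
    ([v, 0, 1, 0, w, 1], [(6, w), (5, v), (1, 1)]),
    ([v, 0, 1, 0, v, 1], [(6, w), (5, v), (1, w)]), ([v, 1, 0, w, v, 0], [(5, v), (1, w)]),
    ([v, 1, 1, 0, 0, 1], [(5, v)]), ([v, 1, w, 1, w, w], [(5, v), (1, 1)]),
    ([v, 1, v, v, 1, v], [(5, v), (1, v)]), ([v, w, 0, v, w, 0], [(6, 1), (5, v), (1, 1)]),
    ([v, w, 1, 0, 0, 1], [(6, 1), (5, v)]), ([v, w, w, w, 1, w], [(10, w), (5, w), (1, w)]),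
    ([v, w, v, 1, v, v], [(10, v), (5, w), (1, 1)]),
    ([v, v, 0, 1, 1, 0], [(10, w), (5, 1), (1, 1)]), ([v, v, 1, 0, 0, 1], [(6, v), (5, v)]),
    ([v, v, w, v, v, w], [(6, v), (5, v), (1, w)]),
    ([v, v, v, w, w, v], [(6, v), (5, v), (1, 1)])]

theorem ci1 : eqw (wT 1 0 0 1) [] = true ∧ (∀ a b c d : F4, a * d + b * c = 1 →
    (∀ t, eqw ((6, t) :: wT a b c d) (wT (a + t * c) (b + t * d) c d) = true ∧
      eqw ((5, t) :: wT a b c d) (wT a b (c + t * a) (d + t * b)) = true) ∧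
    eqw (wT a b c d ++ [(10, 1)]) ([(10, d), (11, b)] ++ wT a b c d) = true ∧
    eqw (wT a b c d ++ [(11, 1)]) ([(10, c), (11, a)] ++ wT a b c d) = true ∧
    ∀ p ∈ wT a b c d, p.1 = 6 ∨ p.1 = 5) ∧
    (∀ t l s : F4, eqw [(6, t), (10, l), (11, s)] [(10, l), (11, s + t * l), (6, t)] = true ∧
      eqw [(5, t), (10, l), (11, s)] [(10, l + t * s), (11, s), (5, t)] = true) ∧
    (∀ (r : Fin 12) (k t : F4), r = 10 ∨ r = 11 ∨ r = 6 ∨ r = 5 →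
      eqw [(9, k), (r, t)] [(r, t), (9, k)] = true) ∧
    eqw [(6, 1), (5, w), (6, 1), (5, w), (6, 1), (5, w), (6, 1), (5, w), (6, 1), (5, w)] [] = true ∧
    eqw [(10, 1), (6, 1), (5, w), (10, 1)] [(11, 1), (6, 1), (5, w)] = true := by
  refine ⟨?_, ?_, ?_, ?_, ?_, ?_⟩ <;> decide +kernel

theorem ci2 : ∀ l s a b c d : F4, a * d + b * c = 1 →
    eqw (((10, l) :: (11, s) :: wT a b c d) ++ ((10, l) :: (11, s) :: wT a b c d)) [] = true →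
    eqw ((10, l) :: (11, s) :: wT a b c d) [] = true ∨
      eqw (((10, l) :: (11, s) :: wT a b c d) ++ (tbI.lookup [l, s, a, b, c, d]).getD [])
        ((tbI.lookup [l, s, a, b, c, d]).getD [] ++ [(11, 1)]) = true := by decide +kernel

variable {G : Type*} [Group G] {X : Rt G} {e : Gm →* G}

/-- the group `X₁₀ X₁₁ ⟨X₆, X₅⟩` -/
def Dg (X : Rt G) : Subgroup G :=
  closure {g | ∃ (r : Fin 12) (t : F4), (r = 10 ∨ r = 11 ∨ r = 6 ∨ r = 5) ∧ g = X.x r t}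

theorem md_x (h : X.Md e) (r : Fin 12) (t : F4) : e (xg r t) = X.x r t := h.x r t _ (xg_val r t)

theorem md_E (h : X.Md e) {u u' : Wd} : eqw u u' = true ↔ ev X.x u = ev X.x u' :=
  eqw_iff h.inj (md_x h) u u'

theorem md_range (h : X.Md e) : e.range = X.A := by
  rw [MonoidHom.range_eq_map, ← xg_top, MonoidHom.map_closure, Rt.A]
  exact congrArg Subgroup.closure (Set.ext fun g => ⟨fun ⟨_, ⟨r, t, k⟩, k'⟩ =>
    ⟨r, t, by rw [← k', k, md_x h]⟩, fun ⟨r, t, k⟩ => ⟨_, ⟨r, t, rfl⟩, (md_x h r t).trans k.symm⟩⟩)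

theorem md_ex (h : X.Md e) {a : G} (ha : a ∈ X.A) : ∃ g, e g = a := by
  rwa [← md_range h] at ha

theorem md_root (h : X.Md e) {H : Subgroup G} {r : ℕ} (hr : r < 12) {t : F4}
    (k : X.x ⟨r, hr⟩ t ∈ H) {g : GL Lie.chevG2.Idx F4}
    (hg : (g : Matrix Lie.chevG2.Idx Lie.chevG2.Idx F4) = Lie.chevG2.x F4 r t) :
    g ∈ (H.comap e).map (Lie.chevG2.group F4).subtype :=
  ⟨xg ⟨r, hr⟩ t, by rw [SetLike.mem_coe, mem_comap, md_x h]; exact k,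
    Units.ext ((xg_x ⟨r, hr⟩ t).trans hg.symm)⟩

theorem md_rootS (h : X.Md e) {H : Subgroup G} (r : Fin 12) (k : ∀ t, X.x r t ∈ H) :
    Lie.chevG2.rootSubgroup F4 r.val ≤ (H.comap e).map (Lie.chevG2.group F4).subtype :=
  (closure_le _).2 fun _ ⟨t, hg⟩ => md_root h r.2 (k t) hg

theorem md_cent (h : X.Md e) {H : Subgroup G} {r : Fin 12} {K : Subgroup (GL Lie.chevG2.Idx F4)}
    (k : Lie.chevG2.group F4 ⊓ centralizer {(xg r 1 : GL Lie.chevG2.Idx F4)} = K)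
    (k' : K ≤ (H.comap e).map (Lie.chevG2.group F4).subtype) {a : G} (ha : a ∈ X.A)
    (hc : a * X.x r 1 = X.x r 1 * a) : a ∈ H := by
  obtain ⟨g, rfl⟩ := md_ex h ha
  rw [← md_x h, ← map_mul, ← map_mul, h.inj.eq_iff] at hc
  obtain ⟨g', h1, h2⟩ := k' (k.le ⟨g.2, mem_centralizer_singleton_iff.2 (congrArg Subtype.val hc)⟩)
  exact (Subtype.ext h2 : g' = g) ▸ h1

theorem md_cz (h : X.Md e) {a : G} (ha : a ∈ X.A) (hc : a * X.z = X.z * a) : a ∈ X.B := by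
  refine md_cent h (Cfsg.Agent.S2180.result card_eq.ge _ _ (xg_x 11 1) (xg_x 9 1)).1
    (sup_le ((closure_le _).2 ?_) (md_rootS h 4 fun t => X.x_B (Or.inl rfl) t)) ha hc
  rintro g ⟨r, t, hr, hg⟩
  refine md_root h hr.1 (X.x_B (Or.inr ?_) t) hg
  exact (by decide +kernel : ∀ r : Fin 12, Lie.chevG2.IsPosRoot r.val → 6 ≤ r) ⟨r, hr.1⟩ hr

theorem th_B (X : Rt G) {b : G} (hb : b ∈ X.B) : X.th * b * X.th⁻¹ ∈ X.B := by
  refine (sup_le ?_ ?_ : X.B ≤ X.B.comap (MulAut.conj X.th).toMonoidHom) hb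
  · intro q hq
    obtain ⟨t, s, rfl⟩ := X.mem_QA.1 hq
    show X.th * _ * X.th⁻¹ ∈ X.B
    rw [cj_mul, X.th_qa, X.th_vv]
    exact X.QA_le_B (X.mem_QA.2 ⟨_, _, rfl⟩)
  · intro l hl
    show X.th * _ * X.th⁻¹ ∈ X.B
    rw [X.th_L hl, mul_inv_cancel_right]
    exact X.L_le_B hl

theorem md_cV (h : X.Md e) {a : G} (ha : a ∈ X.A) {s : F4} (hs : s ≠ 0)
    (hc : a * X.vv s = X.vv s * a) : a ∈ X.B := by
  have key : ∀ s, (∀ a ∈ X.A, a * X.vv (v * s) = X.vv (v * s) * a → a ∈ X.B) →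
      ∀ a ∈ X.A, a * X.vv s = X.vv s * a → a ∈ X.B := fun s k a ha hc => by
    have := th_B X (th_B X (k _ (mul_mem (mul_mem X.th_mem ha) (inv_mem X.th_mem)) (by
      rw [← X.th_vv, ← cj_mul, ← cj_mul, hc])))
    rwa [show X.th * (X.th * (X.th * a * X.th⁻¹) * X.th⁻¹) * X.th⁻¹ =
      X.th * X.th * X.th * a * (X.th * X.th * X.th)⁻¹ by group, X.th_cube, one_mul, inv_one,
      mul_one] at this
  have h1 : ∀ a ∈ X.A, a * X.vv 1 = X.vv 1 * a → a ∈ X.B := fun a => md_cz h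
  have h2 := key w h1
  cases s
  exacts [absurd rfl hs, h1 a ha hc, h2 a ha hc, key v h2 a ha hc]

theorem x_D {r : Fin 12} (hr : r = 10 ∨ r = 11 ∨ r = 6 ∨ r = 5) (t : F4) : X.x r t ∈ Dg X :=
  subset_closure ⟨r, t, hr, rfl⟩

theorem D_comm (h : X.Md e) (k : F4) {d : G} (hd : d ∈ Dg X) : Commute (X.x 9 k) d := by
  refine (cent_closure ?_ d hd).symm
  rintro _ ⟨r, t, hr, rfl⟩
  simpa only [ev, mul_one] using (md_E h).1 (ci1.2.2.2.1 r k t hr) |>.symm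

theorem D_nf (h : X.Md e) {g : G} : g ∈ Dg X ↔
    ∃ l s a b c d : F4, a * d + b * c = 1 ∧ g = X.x 10 l * X.x 11 s * ev X.x (wT a b c d) := by
  refine ⟨fun hg => ?_, ?_⟩
  · have key : ∀ x ∈ {g | ∃ (r : Fin 12) (t : F4), (r = 10 ∨ r = 11 ∨ r = 6 ∨ r = 5) ∧ g = X.x r t},
        ∀ y, (∃ l s a b c d : F4, a * d + b * c = 1 ∧
          y = X.x 10 l * X.x 11 s * ev X.x (wT a b c d)) → ∃ l s a b c d : F4, a * d + b * c = 1 ∧
          x * y = X.x 10 l * X.x 11 s * ev X.x (wT a b c d) := by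
      rintro _ ⟨r, t, hr, rfl⟩ _ ⟨l, s, a, b, c, d, hm, rfl⟩
      have k1 := ci1.2.2.1 t l s
      have k2 := (ci1.2.1 a b c d hm).1 t
      simp only [md_E h, ev, mul_one] at k1 k2
      rcases hr with rfl | rfl | rfl | rfl
      · exact ⟨t + l, s, a, b, c, d, hm, by rw [X.x_add]; group⟩
      · refine ⟨l, t + s, a, b, c, d, hm, ?_⟩
        rw [X.x_add, ← mul_assoc, ← mul_assoc, ← X.v_comm 10 t l (by decide), mul_assoc (X.x 10 l)]
      · refine ⟨l, s + t * l, a + t * c, b + t * d, c, d, ?_, ?_⟩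
        · linear_combination hm + t * c * d * two_eq_zero
        · rw [← k2.1, ← mul_assoc, k1.1]; group
      · refine ⟨l + t * s, s, a, b, c + t * a, d + t * b, ?_, ?_⟩
        · linear_combination hm + t * a * b * two_eq_zero
        · rw [← k2.2, ← mul_assoc, k1.2]; group
    induction hg using closure_induction_left with
    | one =>
      exact ⟨0, 0, 1, 0, 0, 1, by decide, by rw [(md_E h).1 ci1.1, X.x_zero, X.x_zero, ev_nil]; group⟩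
    | mul_left x hx y _ ih => exact key x hx y ih
    | inv_mul_cancel x hx y _ ih =>
      obtain ⟨r, t, hr, rfl⟩ := hx
      rw [X.x_inv]
      exact key _ ⟨r, t, hr, rfl⟩ y ih
  · rintro ⟨l, s, a, b, c, d, hm, rfl⟩
    refine mul_mem (mul_mem (x_D (by decide) _) (x_D (by decide) _)) (ev_mem fun p hp => x_D ?_ _)
    exact Or.inr (Or.inr ((ci1.2.1 a b c d hm).2.2.2 p hp))

theorem D_le_A : Dg X ≤ X.A := (closure_le _).2 fun _ ⟨_, _, _, k⟩ => k ▸ X.x_mem _ _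

theorem C_nf (h : X.Md e) {g : G} : g ∈ (X.A ⊓ centralizer {X.x 9 1} : Subgroup G) ↔
    ∃ k, ∃ d ∈ Dg X, g = X.x 9 k * d := by
  refine ⟨fun hg => ?_, ?_⟩
  · let H : Subgroup G :=
      { carrier := {g | ∃ k, ∃ d ∈ Dg X, g = X.x 9 k * d}
        mul_mem' := by
          rintro _ _ ⟨k, d, hd, rfl⟩ ⟨k', d', hd', rfl⟩
          refine ⟨k + k', d * d', mul_mem hd hd', ?_⟩
          rw [X.x_add, mul_assoc, ← mul_assoc d, ← (D_comm h k' hd).eq]; group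
        one_mem' := ⟨0, 1, one_mem _, by rw [X.x_zero, mul_one]⟩
        inv_mem' := by
          rintro _ ⟨k, d, hd, rfl⟩
          exact ⟨k, d⁻¹, inv_mem hd, by rw [mul_inv_rev, X.x_inv, (D_comm h k (inv_mem hd)).eq]⟩ }
    have k : ∀ r : Fin 12, r = 10 ∨ r = 11 ∨ r = 6 ∨ r = 5 → ∀ t, X.x r t ∈ H := fun r hr t =>
      ⟨0, _, x_D hr t, by rw [X.x_zero, one_mul]⟩
    exact md_cent (H := H) h (Cfsg.Agent.S2180.result card_eq.ge _ _ (xg_x 11 1) (xg_x 9 1)).2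
      (sup_le (sup_le (sup_le (sup_le (md_rootS h 9 fun t => ⟨t, 1, one_mem _, (mul_one _).symm⟩)
        (md_rootS h 10 (k _ (by decide)))) (md_rootS h 11 (k _ (by decide))))
        (md_rootS h 6 (k _ (by decide)))) (md_rootS h 5 (k _ (by decide)))) hg.1
      (mem_centralizer_singleton_iff.1 hg.2)
  · rintro ⟨k, d, hd, rfl⟩
    exact ⟨mul_mem (X.x_mem _ _) (D_le_A hd), mem_centralizer_singleton_iff.2
      (Commute.mul_left (X.x_comm 9 k 1) (D_comm h 1 hd).symm)⟩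

theorem p_inj {k l s k' l' s' : F4}
    (h : X.x 9 k * X.x 10 l * X.x 11 s = X.x 9 k' * X.x 10 l' * X.x 11 s') :
    k = k' ∧ l = l' ∧ s = s' :=
  (X.qa_inj (s := ![0, 0, 0, 0, k, l]) (t := ![0, 0, 0, 0, k', l']) (a := s) (b := s')
    (by simpa [Rt.qa, Rt.vv, X.x_zero] using h)).2.2

theorem nf_inj (h : X.Md e) {k l s a b c d k' l' s' a' b' c' d' : F4} (hm : a * d + b * c = 1)
    (hm' : a' * d' + b' * c' = 1)
    (he : X.x 9 k * (X.x 10 l * X.x 11 s * ev X.x (wT a b c d)) =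
      X.x 9 k' * (X.x 10 l' * X.x 11 s' * ev X.x (wT a' b' c' d'))) :
    k = k' ∧ l = l' ∧ s = s' ∧ a = a' ∧ b = b' ∧ c = c' ∧ d = d' := by
  have act : ∀ {k l s p q : F4} {T y : G}, T * y = X.x 10 p * X.x 11 q * T →
      X.x 9 k * (X.x 10 l * X.x 11 s * T) * y =
        X.x 9 0 * X.x 10 p * X.x 11 q * (X.x 9 k * (X.x 10 l * X.x 11 s * T)) := by
    intro k l s p q T y k1
    have c1 : Commute (X.x 10 l * X.x 11 s) (X.x 10 p * X.x 11 q) :=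
      Commute.mul_left (Commute.mul_right (X.x_comm 10 l p) (X.v_comm 10 q l (by decide)))
        (Commute.mul_right (X.v_comm 10 s p (by decide)).symm (X.x_comm 11 s q))
    have c2 := D_comm h k (mul_mem (x_D (r := 10) (by decide) p) (x_D (r := 11) (by decide) q))
    rw [X.x_zero, one_mul, mul_assoc, mul_assoc, k1, ← mul_assoc _ _ T, c1.eq, mul_assoc _ _ T,
      ← mul_assoc, c2.eq, mul_assoc]
  obtain ⟨-, k1, k2, -⟩ := ci1.2.1 a b c d hm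
  obtain ⟨-, k3, k4, -⟩ := ci1.2.1 a' b' c' d' hm'
  simp only [md_E h, ev_append, ev, mul_one] at k1 k2 k3 k4
  obtain ⟨-, rfl, rfl⟩ := p_inj (mul_right_cancel ((act k1).symm.trans (he ▸ act k3)))
  obtain ⟨-, rfl, rfl⟩ := p_inj (mul_right_cancel ((act k2).symm.trans (he ▸ act k4)))
  rw [← mul_assoc, ← mul_assoc, ← mul_assoc, ← mul_assoc, mul_left_inj] at he
  obtain ⟨rfl, rfl, rfl⟩ := p_inj he
  exact ⟨rfl, rfl, rfl, rfl, rfl, rfl, rfl⟩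

theorem card_C (h : X.Md e) : Nat.card (X.A ⊓ centralizer {X.x 9 1} : Subgroup G) = 3840 := by
  have : Nat.card (F4 × F4 × F4 ×
      {m : F4 × F4 × F4 × F4 // m.1 * m.2.2.2 + m.2.1 * m.2.2.1 = 1}) = 3840 := by
    rw [Nat.card_eq_fintype_card]; decide +kernel
  rw [← this]
  refine (Nat.card_congr (Equiv.ofBijective (fun p : F4 × F4 × F4 ×
      {m : F4 × F4 × F4 × F4 // m.1 * m.2.2.2 + m.2.1 * m.2.2.1 = 1} =>
    (⟨X.x 9 p.1 * (X.x 10 p.2.1 * X.x 11 p.2.2.1 * ev X.x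
        (wT p.2.2.2.1.1 p.2.2.2.1.2.1 p.2.2.2.1.2.2.1 p.2.2.2.1.2.2.2)),
      (C_nf h).2 ⟨_, _, (D_nf h).2 ⟨_, _, _, _, _, _, p.2.2.2.2, rfl⟩, rfl⟩⟩ :
        (X.A ⊓ centralizer {X.x 9 1} : Subgroup G))) ⟨?_, fun g => ?_⟩)).symm
  · rintro ⟨k, l, s, ⟨a, b, c, d⟩, hm⟩ ⟨k', l', s', ⟨a', b', c', d'⟩, hm'⟩ he
    obtain ⟨rfl, rfl, rfl, rfl, rfl, rfl, rfl⟩ := nf_inj h hm hm' (congrArg Subtype.val he)
    rfl
  · obtain ⟨k, y, hy, k1⟩ := (C_nf h).1 g.2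
    obtain ⟨l, s, a, b, c, d, hm, rfl⟩ := (D_nf h).1 hy
    exact ⟨(k, l, s, ⟨(a, b, c, d), hm⟩), Subtype.ext k1.symm⟩

theorem five_D (h : X.Md e) :
    F5 ((X.A ⊓ centralizer {X.x 9 1} : Subgroup G) : Set G) ≤ Dg X := F5_le fun g hg h5 => by
  obtain ⟨k, y, hy, rfl⟩ := (C_nf h).1 hg
  have k1 : X.x 9 k ^ 5 = X.x 9 k := by
    rw [show 5 = 2 * 2 + 1 from rfl, pow_succ, pow_mul, sq (X.x 9 k), X.x_sq, one_pow, one_mul]
  rw [(D_comm h k hy).mul_pow, k1, mul_eq_one_iff_eq_inv] at h5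
  obtain ⟨l, s, a, b, c, d, hm, k2⟩ := (D_nf h).1 (h5 ▸ inv_mem (pow_mem hy 5) : X.x 9 k ∈ Dg X)
  have := (nf_inj h (k := k) (l := 0) (s := 0) (k' := 0) (by decide : (1 : F4) * 1 + 0 * 0 = 1) hm (by
    rw [← k2, (md_E h).1 ci1.1, X.x_zero, X.x_zero, X.x_zero, ev_nil]; group)).1
  rwa [this, X.x_zero, one_mul]

theorem eqns_GI : True := by
  have := @wT.eq_1
  have := @wT.eq_def
  have := @tbI.eq_1
  have := @tbI.eq_def
  have := @Dg.eq_1.{0}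
  have := @Dg.eq_def.{0}
  trivial

end H40.GW

namespace H79.AS

open H30 H30.F4 H69 Subgroup Cfsg Equiv H40.GW

variable {G : Type*} [Group G] [Finite G]

theorem Rt.p2 (X : Rt G) {e : Lie.chevG2.group F4 →* G} (h : X.Md e) : X.P2 := by
  refine ⟨?_, fun a ha s hs => md_cV h ha hs, fun a ha a2 a1 => ?_, card_C h, fun a ha a2 a1 => ?_, ?_⟩
  · have := (Cfsg.Agent.S1055.result (F := F4) ⟨w, by decide, by decide⟩).1
    exact md_range h ▸ (MonoidHom.ofInjective h.inj).symm.isSimpleGroup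
  · obtain ⟨g, rfl⟩ := md_ex h ha
    rw [← map_mul, map_eq_one_iff e h.inj] at a2
    obtain ⟨y, hy, hy', k, hk, k1⟩ := (Cfsg.Agent.S2177.result (F := F4) card_eq.ge).2.1 g g.2
      (orderOf_eq_prime (by rw [sq]; exact congrArg Subtype.val a2)
        fun h1 => a1 (by rw [show g = 1 from Subtype.ext h1, map_one]))
    refine ⟨e ⟨k, hk⟩, md_range h ▸ ⟨_, rfl⟩, ?_⟩
    rw [← map_inv, ← map_mul, ← map_mul, show ⟨k, hk⟩ * g * ⟨k, hk⟩⁻¹ = ⟨y, hy⟩ from Subtype.ext k1]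
    rcases List.mem_pair.1 hy' with k2 | k2
    · exact Or.inl (h.x 11 1 _ (k2.trans ((xg_x 11 1).symm.trans (xg_val 11 1))))
    · exact Or.inr (h.x 9 1 _ (k2.trans ((xg_x 9 1).symm.trans (xg_val 9 1))))
  · obtain ⟨l, s, a, b, c, d, hm, rfl⟩ := (D_nf h).1 (five_D h ha)
    have := ci2 l s a b c d hm
    simp only [md_E h, ev_append, ev_cons, ev_nil, ← mul_assoc, mul_one] at this
    rcases this (by rw [← a2]; group) with k | k
    · exact absurd k a1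
    · refine ⟨_, inv_mem (ev_mem (u := (tbI.lookup [l, s, a, b, c, d]).getD [])
        fun p _ => X.x_mem _ _), ?_⟩
      rw [inv_inv, mul_assoc, k, inv_mul_cancel_left]
      rfl
  · obtain ⟨-, -, -, -, k1, k2⟩ := ci1
    simp only [md_E h, ev, mul_one] at k1 k2
    have f1 : X.x 6 1 * X.x 5 w ∈ Dg X := mul_mem (x_D (by decide) _) (x_D (by decide) _)
    have f2 := x_D (X := X) (r := 10) (by decide) 1
    have f3 : ∀ g ∈ Dg X, g ∈ ((X.A ⊓ centralizer {X.x 9 1} : Subgroup G) : Set G) := fun g hg =>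
      (C_nf h).2 ⟨0, g, hg, by rw [X.x_zero, one_mul]⟩
    have f5 : (X.x 6 1 * X.x 5 w) ^ 5 = 1 := by
      rw [← k1]; simp only [pow_succ, pow_zero, one_mul, mul_assoc]
    have : X.z = X.x 10 1 * (X.x 6 1 * X.x 5 w) * (X.x 10 1)⁻¹ * (X.x 6 1 * X.x 5 w)⁻¹ := by
      rw [X.x_inv, eq_mul_inv_iff_mul_eq, Rt.z, ← k2]; group
    rw [this]
    exact mul_mem (mem_F5 (f3 _ (mul_mem (mul_mem f2 f1) (inv_mem f2))) (by rw [conj_pow, f5]; group))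
      (inv_mem (mem_F5 (f3 _ f1) f5))

end H79.AS
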