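import Cfsg.Agent.Lib.ASG.Bas0

/-! The groups `L` and `B`. -/

set_option autoImplicit false

namespace H79.AS

open H30 H30.F4 H69 Subgroup Cfsg Equiv

variable {G : Type*} [Group G]

namespace Rt

variable (X : Rt G)

theorem gl_na : X.na * X.ha * X.na⁻¹ = X.ha * X.ha := by
  have b : X.x 4 1 * X.x 7 1 * X.x 4 1 = X.x 7 1 * X.x 4 1 * X.x 7 1 := by
    have : X.na * (X.x 7 1 * X.x 4 1 * X.x 7 1) * X.na⁻¹ = X.na := by
      rw [← X.na_eq, mul_inv_cancel_right]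
    rw [cj_mul, cj_mul, X.na_x, X.na_x] at this
    exact this.trans X.na_eq
  have b' := congrArg (fun g => X.ha * g * X.ha⁻¹) b
  simp only [cj_mul, X.ha_x] at b'
  rw [X.ha_sq]
  nth_rw 1 [X.ha_eq]
  rw [cj_mul, cj_mul, cj_mul, X.na_x, X.na_x, mul_inv_cancel_right]
  exact congrArg (· * X.na) b'

theorem gl_H {k : G} (hk : k ∈ zpowers X.ha) : ∃ i : Fin 3, k = X.ha ^ (i : ℕ) := by
  obtain ⟨n, rfl⟩ := mem_zpowers_iff.1 hk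
  have h3 : X.ha ^ (3 : ℤ) = 1 := by
    rw [show (3 : ℤ) = (3 : ℕ) from rfl, zpow_natCast, pow_succ, sq, X.ha_cube]
  refine ⟨⟨(n % 3).toNat, by omega⟩, ?_⟩
  rw [zpow_eq_zpow_emod n h3, ← zpow_natCast]
  congr 1
  simp only
  omega

theorem gl_h7 {k : G} (hk : k ∈ zpowers X.ha) (t : F4) : ∃ s, k * X.x 7 t * k⁻¹ = X.x 7 s := by
  obtain ⟨i, rfl⟩ := X.gl_H hk
  induction (i : ℕ) with
  | zero => exact ⟨t, by simp⟩
  | succ n ih =>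
    obtain ⟨s, e⟩ := ih
    exact ⟨_, by rw [← X.ha_x 7 s, ← e]; group⟩

theorem gl_hn {k : G} (hk : k ∈ zpowers X.ha) : X.na * k * X.na⁻¹ ∈ zpowers X.ha := by
  obtain ⟨i, rfl⟩ := X.gl_H hk
  rw [← conj_pow, X.gl_na]
  exact pow_mem (mul_mem (mem_zpowers _) (mem_zpowers _)) _

theorem gl_x4 (a : F4) : a = 0 ∨ ∃ b, ∃ k ∈ zpowers X.ha, X.x 4 a = X.x 7 b * k * X.na * X.x 7 b := by
  have e : ∀ {a b} {k : G}, k = X.x 7 b * X.x 4 a * X.x 7 b * X.na →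
      X.x 4 a = X.x 7 b * k * X.na * X.x 7 b := fun {a b k} h => by
    rw [h, mul_assoc (X.x 7 b), mul_assoc _ X.na, X.na_sq, mul_one, ← mul_assoc, ← mul_assoc, X.x_sq,
      one_mul, mul_assoc, X.x_sq, mul_one]
  revert a
  refine forall_iff.2 ⟨.inl rfl, .inr ⟨1, 1, one_mem _, e (by rw [← X.na_eq, X.na_sq])⟩,
    .inr ⟨v, _, mul_mem (mem_zpowers _) (mem_zpowers _), e X.ha_sq⟩,
    .inr ⟨w, _, mem_zpowers _, e X.ha_eq⟩⟩

/-- the Bruhat normal form in `L` -/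
def Nf (g : G) : Prop :=
  ∃ a, ∃ k ∈ zpowers X.ha, g = X.x 7 a * k ∨ ∃ b, g = X.x 7 a * k * X.na * X.x 7 b

theorem Nf.x7 {X : Rt G} {g : G} (h : X.Nf g) (c : F4) : X.Nf (X.x 7 c * g) := by
  obtain ⟨a, k, hk, rfl | ⟨b, rfl⟩⟩ := h
  · exact ⟨c + a, k, hk, .inl (by rw [X.x_add]; group)⟩
  · exact ⟨c + a, k, hk, .inr ⟨b, by rw [X.x_add]; group⟩⟩

theorem Nf.na {X : Rt G} {g : G} (h : X.Nf g) : X.Nf (X.na * g) := by
  obtain ⟨a, k, hk, rfl | ⟨b, rfl⟩⟩ := h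
  · obtain ⟨s, e⟩ := X.gl_h7 (inv_mem hk) a
    exact ⟨0, _, X.gl_hn hk, .inr ⟨s, by rw [← e, X.x_zero]; group⟩⟩
  · have e : X.na * (X.x 7 a * k * X.na * X.x 7 b) = X.x 4 a * (X.na * k * X.na⁻¹) * X.x 7 b := by
      rw [← show _ = X.x 4 a from X.na_x 7 a]; nth_rw 2 [← X.na_inv]; group
    have hk' := X.gl_hn hk
    rw [e]
    generalize X.na * k * X.na⁻¹ = k at hk'
    obtain rfl | ⟨c, m, hm, e'⟩ := X.gl_x4 a
    · obtain ⟨s, e⟩ := X.gl_h7 hk' b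
      exact ⟨s, k, hk', .inl (by rw [← e, X.x_zero]; group)⟩
    · obtain ⟨s, e⟩ := X.gl_h7 (inv_mem hk') c
      exact ⟨c, _, mul_mem hm (X.gl_hn hk'), .inr ⟨s + b, by rw [e', X.x_add, ← e]; group⟩⟩

theorem gl_nf {l : G} (h : l ∈ X.L) : X.Nf l := by
  have k : ∀ g : G, (∃ t, g = X.x 7 t ∨ g = X.x 4 t) → ∀ y, X.Nf y → X.Nf (g * y) := by
    rintro _ ⟨t, rfl | rfl⟩ y hy
    · exact hy.x7 t
    · have := (hy.na.x7 t).na
      rwa [← mul_assoc, ← mul_assoc, show X.na * X.x 7 t * X.na = X.x 4 t from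
        X.na_inv ▸ (X.na_inv.symm ▸ X.na_x 7 t)] at this
  induction h using closure_induction_left with
  | one => exact ⟨0, 1, one_mem _, .inl (by rw [X.x_zero, mul_one])⟩
  | mul_left x hx y _ ih => exact k x hx y ih
  | inv_mul_cancel x hx y _ ih =>
    refine k _ ?_ y ih
    obtain ⟨t, rfl | rfl⟩ := hx <;> rw [X.x_inv]
    exacts [⟨t, .inl rfl⟩, ⟨t, .inr rfl⟩]

theorem gl_le : Nat.card X.L ≤ 60 := by
  have c : Nat.card ((F4 × Fin 3) ⊕ (F4 × Fin 3 × F4)) = 60 := by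
    simp only [Nat.card_sum, Nat.card_prod, natCard_eq, Nat.card_fin]
  rw [← c]
  refine Nat.card_le_card_of_surjective (Sum.elim
    (fun p => (⟨X.x 7 p.1 * X.ha ^ (p.2 : ℕ), mul_mem (X.x7_mem _) (pow_mem X.ha_mem _)⟩ : X.L))
    fun p => ⟨X.x 7 p.1 * X.ha ^ (p.2.1 : ℕ) * X.na * X.x 7 p.2.2,
      mul_mem (mul_mem (mul_mem (X.x7_mem _) (pow_mem X.ha_mem _)) X.na_mem) (X.x7_mem _)⟩) fun l => ?_
  obtain ⟨a, k, hk, e⟩ := X.gl_nf l.2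
  obtain ⟨i, rfl⟩ := X.gl_H hk
  obtain e | ⟨b, e⟩ := e
  exacts [⟨.inl (a, i), Subtype.ext e.symm⟩, ⟨.inr (a, i, b), Subtype.ext e.symm⟩]

/-- `l` acts on `Q_A / V` as `σ` -/
def Aq (l : G) (σ : Perm (Fin 8)) : Prop :=
  ∀ t : V6, t 0 = 0 → t 1 = 0 → ∃ s, l * X.qa t * l⁻¹ = X.qa (act σ t) * X.vv s

theorem gl_A5 {σ τ : Perm (Fin 8)} (a : A5 σ) (b : A5 τ) : A5 (σ * τ) :=
  ⟨by rw [Perm.sign_mul, a.1, b.1, mul_one], by rw [Perm.mul_apply, b.2.1, a.2.1],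
    by rw [Perm.mul_apply, b.2.2.1, a.2.2.1], by rw [Perm.mul_apply, b.2.2.2, a.2.2.2]⟩

theorem Aq.mul {X : Rt G} {l k : G} {σ τ : Perm (Fin 8)} (hl : l ∈ X.L) (hτ : A5 τ) (a : X.Aq l σ)
    (b : X.Aq k τ) : X.Aq (l * k) (σ * τ) := fun t t0 t1 => by
  obtain ⟨s, e⟩ := b t t0 t1
  obtain ⟨s', e'⟩ := a (act τ t) ((hτ.act_01 t).1.trans t0) ((hτ.act_01 t).2.trans t1)
  refine ⟨s' + s, ?_⟩
  rw [show l * k * X.qa t * (l * k)⁻¹ = l * (k * X.qa t * k⁻¹) * l⁻¹ by group, e, cj_mul, e',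
    X.mem_CV.1 (X.B_le_CV (X.L_le_B hl)), mul_inv_cancel_right, act_mul, mul_assoc, X.vv_add]

theorem Aq.uq {X : Rt G} {l : G} {σ τ : Perm (Fin 8)} (hσ : A5 σ) (hτ : A5 τ) (a : X.Aq l σ)
    (b : X.Aq l τ) : σ = τ := by
  have k : ∀ x, act σ x = act τ x := forall_V6.2 fun x0 x1 x2 x3 x4 x5 => by
    obtain ⟨s, e⟩ := a ![0, 0, x2, x3, x4, x5] rfl rfl
    obtain ⟨s', e'⟩ := b ![0, 0, x2, x3, x4, x5] rfl rfl
    obtain ⟨h2, h3, h4, h5, -⟩ := X.qa_inj (e.symm.trans e')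
    rw [show ![x0, x1, x2, x3, x4, x5] = ![x0, x1, 0, 0, 0, 0] + ![0, 0, x2, x3, x4, x5] by simp,
      act_add, act_add, hσ.act_fix, hτ.act_fix]
    congr 1
    funext i
    fin_cases i
    exacts [(hσ.act_01 _).1.trans (hτ.act_01 _).1.symm, (hσ.act_01 _).2.trans (hτ.act_01 _).2.symm,
      h2, h3, h4, h5]
  exact (inv_mul_eq_one.1 (act_faith fun x _ => by rw [act_mul, k, ← act_mul, inv_mul_cancel, act_one])).symm

theorem gl_a1 : X.Aq (X.x 7 1) (swap 3 4 * swap 5 6) := fun t _ _ => act_xa1 ▸ X.xa_qa 1 t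
theorem gl_aw : X.Aq (X.x 7 w) (swap 3 5 * swap 4 6) := fun t _ _ => act_xaw ▸ X.xa_qa w t
theorem gl_an : X.Aq X.na (swap 3 7 * swap 5 6) := fun t _ _ => act_na ▸ X.na_qa t
theorem gl_a0 : X.Aq 1 1 := fun t _ _ => ⟨0, by simp [act_one, vv_zero]⟩
theorem gl_51 : A5 (swap 3 4 * swap 5 6) := by unfold A5; decide
theorem gl_5w : A5 (swap 3 5 * swap 4 6) := by unfold A5; decide
theorem gl_5n : A5 (swap 3 7 * swap 5 6) := by unfold A5; decide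
theorem gl_50 : A5 1 := by unfold A5; decide

theorem gl_act {l : G} (h : l ∈ X.L) : ∃ σ, A5 σ ∧ X.Aq l σ := by
  have m : ∀ {l k : G}, l ∈ X.L → (∃ σ, A5 σ ∧ X.Aq l σ) → (∃ σ, A5 σ ∧ X.Aq k σ) →
      ∃ σ, A5 σ ∧ X.Aq (l * k) σ := fun hl ⟨_, a, b⟩ ⟨_, c, d⟩ => ⟨_, gl_A5 a c, b.mul hl c d⟩
  have h7 : ∀ t, ∃ σ, A5 σ ∧ X.Aq (X.x 7 t) σ := forall_iff.2 ⟨⟨1, gl_50, X.x_zero 7 ▸ X.gl_a0⟩,
    ⟨_, gl_51, X.gl_a1⟩, ⟨_, gl_5w, X.gl_aw⟩, by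
      rw [show v = 1 + w by decide, X.x_add]
      exact m (X.x7_mem 1) ⟨_, gl_51, X.gl_a1⟩ ⟨_, gl_5w, X.gl_aw⟩⟩
  have k : ∀ g : G, (∃ t, g = X.x 7 t ∨ g = X.x 4 t) → ∃ σ, A5 σ ∧ X.Aq g σ := by
    rintro _ ⟨t, rfl | rfl⟩
    · exact h7 t
    · rw [← show _ = X.x 4 t from X.na_x 7 t, X.na_inv]
      exact m (mul_mem X.na_mem (X.x7_mem t)) (m X.na_mem ⟨_, gl_5n, X.gl_an⟩ (h7 t)) ⟨_, gl_5n, X.gl_an⟩
  induction h using closure_induction'' with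
  | mem x hx => exact k x hx
  | inv_mem x hx =>
    refine k _ ?_
    obtain ⟨t, rfl | rfl⟩ := hx <;> rw [X.x_inv]
    exacts [⟨t, .inl rfl⟩, ⟨t, .inr rfl⟩]
  | one => exact ⟨1, gl_50, X.gl_a0⟩
  | mul x y hx _ a b => exact m hx a b

variable [Finite G]

theorem gl_rho : ∃ ρ : X.L →* Perm (Fin 8), (∀ l : X.L, A5 (ρ l) ∧ X.Aq l (ρ l)) ∧
    (∀ σ, A5 σ → σ ∈ ρ.range) ∧ Function.Injective ρ ∧ Nat.card X.L = 60 := by
  choose f h5 hf using fun l : X.L => X.gl_act l.2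
  let ρ : X.L →* Perm (Fin 8) := MonoidHom.mk' f fun l k =>
    Aq.uq (h5 _) (gl_A5 (h5 l) (h5 k)) (hf _) ((hf l).mul l.2 (h5 k) (hf k))
  have s : ∀ σ, A5 σ → σ ∈ ρ.range := fun σ h => gen5 (H := ρ.range)
    ⟨⟨_, X.x7_mem 1⟩, Aq.uq (h5 _) gl_51 (hf _) X.gl_a1⟩
    ⟨⟨_, X.x7_mem w⟩, Aq.uq (h5 _) gl_5w (hf _) X.gl_aw⟩
    ⟨⟨_, X.na_mem⟩, Aq.uq (h5 _) gl_5n (hf _) X.gl_an⟩ h
  have s' : Function.Surjective fun l : X.L => (⟨f l, h5 l⟩ : {σ // A5 σ}) := fun σ => by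
    obtain ⟨l, e⟩ := s σ.1 σ.2
    exact ⟨l, Subtype.ext e⟩
  have c : Nat.card X.L = 60 := le_antisymm X.gl_le (card_A5 ▸ Nat.card_le_card_of_surjective _ s')
  exact ⟨ρ, fun l => ⟨h5 l, hf l⟩, s, fun l k e =>
    ((Nat.bijective_iff_surjective_and_card _).2 ⟨s', c.trans card_A5.symm⟩).1 (Subtype.ext e), c⟩

theorem gl_card : Nat.card X.L = 60 := X.gl_rho.choose_spec.2.2.2

theorem gl_faith {l : G} (hl : l ∈ X.L) (h : ∀ t, ∃ s, l * X.qa t * l⁻¹ = X.qa t * X.vv s) : l = 1 := by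
  obtain ⟨ρ, h1, -, h3, -⟩ := X.gl_rho
  exact congrArg Subtype.val (h3 (a₁ := ⟨l, hl⟩) (a₂ := 1) ((Aq.uq (h1 _).1 gl_50 (h1 _).2
    fun t _ _ => (act_one t).symm ▸ h t).trans (map_one ρ).symm))

theorem gl_simple {J : Subgroup G} (hJ : J ≤ X.L) (h : ∀ l ∈ X.L, ∀ j ∈ J, l * j * l⁻¹ ∈ J) :
    J = ⊥ ∨ X.L ≤ J := by
  obtain ⟨ρ, h1, h2, h3, -⟩ := X.gl_rho
  rcases simple5 (H := (J.subgroupOf X.L).map ρ) (by rintro _ ⟨l, -, rfl⟩; exact (h1 l).1) (by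
    rintro τ hτ _ ⟨j, hj, rfl⟩
    obtain ⟨l, rfl⟩ := h2 τ hτ
    exact ⟨l * j * l⁻¹, h l l.2 j hj, by simp⟩) with e | e
  · refine .inl (eq_bot_iff.2 fun j hj => ?_)
    exact congrArg Subtype.val (h3 (a₁ := ⟨j, hJ hj⟩) (a₂ := 1)
      ((mem_bot.1 (e.le ⟨_, hj, rfl⟩)).trans (map_one ρ).symm))
  · refine .inr fun l hl => ?_
    obtain ⟨j, hj, e⟩ := e _ (h1 ⟨l, hl⟩).1
    rw [h3 e] at hj
    exact hj

theorem gl_five : ∃ l ∈ X.L, l ^ 5 = 1 ∧ l ≠ 1 := by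
  have : Fact (Nat.Prime 5) := ⟨by norm_num⟩
  obtain ⟨l, hl⟩ := exists_prime_orderOf_dvd_card' (G := X.L) 5 (by rw [X.gl_card]; norm_num)
  refine ⟨l, l.2, congrArg Subtype.val (show l ^ 5 = 1 by rw [← hl, pow_orderOf_eq_one]), fun c => ?_⟩
  rw [Subtype.ext (a1 := l) (a2 := 1) c, orderOf_one] at hl
  omega

omit [Finite G] in
theorem gl_F5 {H : Subgroup G} {g a : G} (hg : g ∈ H) (ha : a ∈ F5 (H : Set G)) :
    g * a * g⁻¹ ∈ F5 (H : Set G) :=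
  cj_closure (fun s hs => mem_F5 (mul_mem (mul_mem hg hs.1) (inv_mem hg))
    (by rw [conj_pow, hs.2]; group)) ha

theorem gl_L5 : X.L = F5 X.L := by
  have le : F5 (X.L : Set G) ≤ X.L := F5_le fun _ h _ => h
  refine le_antisymm ((X.gl_simple le fun l hl j hj => gl_F5 hl hj).resolve_left fun c => ?_) le
  obtain ⟨l, hl, h5, h1⟩ := X.gl_five
  exact h1 (mem_bot.1 (c.le (mem_F5 hl h5)))

omit [Finite G] in
theorem gl_memB {b : G} : b ∈ X.B ↔ ∃ q ∈ X.QA, ∃ l ∈ X.L, b = q * l :=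
  mem_sup_of_le_normalizer_left X.L_norm

omit [Finite G] in
theorem gl_qq {q : G} (hq : q ∈ X.QA) (t : V6) (a : F4) :
    ∃ s, q * (X.qa t * X.vv a) * q⁻¹ = X.qa t * X.vv s := by
  obtain ⟨u, c, rfl⟩ := X.mem_QA.1 hq
  refine ⟨b4 u t + a, ?_⟩
  rw [← X.vv_add, ← mul_assoc (X.qa t), ← X.qa_conj, mul_assoc (X.qa u) (X.vv c), ← mul_assoc (X.vv c),
    ← X.qa_v, mul_assoc (X.qa t), X.vv_comm, mul_assoc _ _ (X.vv a),
    (show Commute (X.qa u) (X.vv a) from X.qa_v u a).inv_left.eq]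
  group

/-- an element of `B` which acts trivially on `Q_A / V` -/
theorem gl_ker {b : G} (hb : b ∈ X.B) (h : ∀ t, b * X.qa t * b⁻¹ * (X.qa t)⁻¹ ∈ X.V) : b ∈ X.QA := by
  obtain ⟨q, hq, l, hl, rfl⟩ := X.gl_memB.1 hb
  rw [X.gl_faith hl fun t => ?_, mul_one]
  · exact hq
  obtain ⟨s, e⟩ := X.mem_V.1 (h t)
  obtain ⟨s', e'⟩ := X.gl_qq (inv_mem hq) t s
  exact ⟨s', by rw [← e', X.qa_v, ← e]; group⟩

omit [Finite G] in
theorem gl_b4 {u : V6} (h : ¬ (u 2 = 0 ∧ u 3 = 0 ∧ u 4 = 0 ∧ u 5 = 0)) (s : F4) : ∃ y, b4 y u = s := by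
  by_cases h2 : u 2 = 0
  · by_cases h3 : u 3 = 0
    · by_cases h4 : u 4 = 0
      · exact ⟨![0, 0, s / u 5, 0, 0, 0], by simp [b4, div_mul_cancel₀ s fun c => h ⟨h2, h3, h4, c⟩]⟩
      · exact ⟨![0, 0, 0, s / u 4, 0, 0], by simp [b4, div_mul_cancel₀ s h4]⟩
    · exact ⟨![0, 0, 0, 0, s / u 3, 0], by simp [b4, div_mul_cancel₀ s h3]⟩
  · exact ⟨![0, 0, 0, 0, 0, s / u 2], by simp [b4, div_mul_cancel₀ s h2]⟩

omit [Finite G] in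
theorem gl_V {u : V6} (h : u 2 = 0 ∧ u 3 = 0 ∧ u 4 = 0 ∧ u 5 = 0) (s : F4) : X.qa u * X.vv s ∈ X.V := by
  rw [X.qa_congr (t := 0) h.1 h.2.1 h.2.2.1 h.2.2.2, X.qa_zero, one_mul]; exact X.vv_mem s

omit [Finite G] in
theorem gl_comm (y u : V6) (s : F4) :
    X.qa y * (X.qa u * X.vv s) * (X.qa y)⁻¹ = X.qa u * X.vv s * X.vv (b4 y u) := by
  rw [cj_mul, X.qa_conj, X.qa_v y, mul_inv_cancel_right, mul_assoc, X.vv_comm, mul_assoc]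

theorem gl_norm {J : Subgroup G} (hJ : J ≤ X.B) (hN : X.B ≤ 𝐍(J)) :
    J ≤ X.V ∨ ∃ t ≠ 0, X.x 10 t ∈ J ∧ X.vv t ∈ J := by
  by_cases h : ∀ c ∈ J, c ∈ X.QA → c ∈ X.V
  · refine .inl fun j hj => h j hj (X.gl_ker (hJ hj) fun t => h _ ?_ ?_)
    · have := mul_mem hj (conj_mem_of_mem_normalizer (hN (X.QA_le_B (X.qa_mem t))) (inv_mem hj))
      rwa [← mul_assoc, ← mul_assoc] at this
    · exact mul_mem (conj_mem_of_mem_normalizer (X.B_norm_QA (hJ hj)) (X.qa_mem t)) (inv_mem (X.qa_mem t))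
  push Not at h
  obtain ⟨c, hc, hq, hV⟩ := h
  obtain ⟨u, s, rfl⟩ := X.mem_QA.1 hq
  have u0 : ¬ (u 2 = 0 ∧ u 3 = 0 ∧ u 4 = 0 ∧ u 5 = 0) := fun c => hV (X.gl_V c s)
  have vJ : ∀ a, X.vv a ∈ J := fun a => by
    obtain ⟨y, rfl⟩ := gl_b4 u0 a
    have := conj_mem_of_mem_normalizer (hN (X.QA_le_B (X.qa_mem y))) hc
    rw [X.gl_comm] at this
    exact (mul_mem_cancel_left hc).1 this
  have st : ∀ t, X.qa t ∈ J → ∀ c, X.qa (xav c t + t) ∈ J := fun t ht c => by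
    obtain ⟨a, e⟩ := X.xa_qa c t
    have := conj_mem_of_mem_normalizer (hN (X.L_le_B (X.x7_mem c))) ht
    rw [e] at this
    have := mul_mem ((mul_mem_cancel_right (vJ _)).1 this) ht
    rw [X.qa_mul] at this
    exact (mul_mem_cancel_right (vJ _)).1 this
  have s1 : ∀ t, X.qa t ∈ J → t 2 = 0 → t 3 = 0 → t 4 = 0 → t 5 ≠ 0 →
      ∃ t ≠ 0, X.x 10 t ∈ J ∧ X.vv t ∈ J := fun t ht h2 h3 h4 h5 =>
    ⟨t 5, h5, by rwa [← X.qa_10 0 0, X.qa_congr (s := ![0, 0, 0, 0, 0, t 5]) (t := t) h2.symm h3.symm h4.symm rfl], vJ _⟩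
  have s2 : ∀ t, X.qa t ∈ J → t 2 = 0 → ¬ (t 3 = 0 ∧ t 4 = 0) →
      ∃ t ≠ 0, X.x 10 t ∈ J ∧ X.vv t ∈ J := fun t ht h2 h => by
    obtain ⟨c, hc⟩ := (by decide : ∀ a b : F4, ¬ (a = 0 ∧ b = 0) → ∃ c : F4, c * c * a + c * b ≠ 0) _ _ h
    refine s1 _ (st t ht c) (by simp [xav, h2]) (by simp [xav, h2, f4_self]) (by simp [xav, h2, f4_self]) ?_
    rwa [show (xav c t + t) 5 = c * c * t 3 + c * t 4 by
      simp only [xav, h2, Pi.add_apply, Matrix.cons_val]; linear_combination (t 5) * two_eq_zero]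
  have hu := (mul_mem_cancel_right (vJ _)).1 hc
  refine .inr ?_
  by_cases h2 : u 2 = 0
  · by_cases h : u 3 = 0 ∧ u 4 = 0
    exacts [s1 u hu h2 h.1 h.2 fun c => u0 ⟨h2, h.1, h.2, c⟩, s2 u hu h2 h]
  · refine s2 _ (st u hu 1) (by simp [xav, f4_self]) fun c => h2 ?_
    rw [← c.1]
    simp only [xav, Pi.add_apply, Matrix.cons_val]; linear_combination (-u 3) * two_eq_zero

theorem gl_B5 : X.B = F5 X.B := by
  refine le_antisymm ?_ (F5_le fun _ h _ => h)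
  have l : X.L ≤ F5 (X.B : Set G) := X.gl_L5.le.trans (F5_le fun g h h5 => mem_F5 (X.L_le_B h) h5)
  have c : ∀ {g a}, g ∈ X.L → a ∈ F5 (X.B : Set G) → g * a * g⁻¹ ∈ F5 (X.B : Set G) :=
    fun h h' => gl_F5 (X.L_le_B h) h'
  have h8 : ∀ t, X.x 8 t ∈ F5 (X.B : Set G) := fun t => by
    have := mul_mem (l X.ha_mem) (gl_F5 (X.x_B (r := 8) (by decide) (v * t)) (inv_mem (l X.ha_mem)))
    rw [← mul_assoc, ← mul_assoc, X.ha_x, X.x_inv, ← X.x_add] at this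
    convert this using 2
    clear this; revert t; decide
  have h9 : ∀ t, X.x 9 t ∈ F5 (X.B : Set G) := fun t => (X.na_x 8 t : _ = X.x 9 t) ▸ c X.na_mem (h8 t)
  have h10 : ∀ t, X.x 10 t ∈ F5 (X.B : Set G) := fun t => by
    have := c (X.x7_mem 1) (h9 t)
    rwa [X.a9, mul_mem_cancel_left (h9 t), one_mul] at this
  have h6 : ∀ t, X.x 6 t ∈ F5 (X.B : Set G) := fun t => (X.na_x 10 t : _ = X.x 6 t) ▸ c X.na_mem (h10 t)
  have h11 : ∀ t, X.vv t ∈ F5 (X.B : Set G) := fun t => by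
    have := c (X.x7_mem t) (h8 1)
    rwa [X.a8, mul_mem_cancel_left (mul_mem (h8 _) (h10 _)), mul_one, mul_one] at this
  refine sup_le (fun q hq => ?_) l
  obtain ⟨t, s, rfl⟩ := X.mem_QA.1 hq
  exact mul_mem (mul_mem (mul_mem (mul_mem (h6 _) (h8 _)) (h9 _)) (h10 _)) (h11 s)

theorem gl_cardB : Nat.card X.B = 61440 := by
  rw [show 61440 = 1024 * 60 from rfl, ← X.card_QA, ← X.gl_card, ← Nat.card_prod]
  refine (Nat.card_congr (Equiv.ofBijective (fun p : X.QA × X.L =>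
    (⟨p.1 * p.2, X.gl_memB.2 ⟨_, p.1.2, _, p.2.2, rfl⟩⟩ : X.B)) ⟨fun p p' h => ?_, fun b => ?_⟩)).symm
  · have e : (p.1 : G) * p.2 = p'.1 * p'.2 := congrArg Subtype.val h
    have e' : (p'.2 : G) * (p.2 : G)⁻¹ = (p'.1 : G)⁻¹ * p.1 := by
      rw [eq_inv_mul_iff_mul_eq, ← mul_assoc, ← e, mul_inv_cancel_right]
    have := mul_inv_eq_one.1 (X.gl_faith (mul_mem p'.2.2 (inv_mem p.2.2)) fun t => by
      have := X.gl_qq (mul_mem (inv_mem p'.1.2) p.1.2) t 0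
      rwa [X.vv_zero, mul_one, ← e'] at this)
    exact Prod.ext (Subtype.ext (mul_right_cancel (this ▸ e))) (Subtype.ext this.symm)
  · obtain ⟨q, hq, l, hl, e⟩ := X.gl_memB.1 b.2
    exact ⟨(⟨q, hq⟩, ⟨l, hl⟩), Subtype.ext e.symm⟩

theorem gl_two {P : Subgroup G} (hP : P ≤ X.L) (h2 : IsPGroup 2 P) :
    ∃ l ∈ X.L, ∀ g ∈ P, ∃ c, l * g * l⁻¹ = X.x 7 c := by
  have : Fact (Nat.Prime 2) := ⟨Nat.prime_two⟩
  let f : Multiplicative F4 →* G := MonoidHom.mk' (fun c => X.x 7 c.toAdd) fun a b => X.x_add 7 _ _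
  have c : Nat.card f.range = 4 := by
    rw [← natCard_eq]
    exact (Nat.card_congr (MonoidHom.ofInjective ((injective_iff_map_eq_one f).2
      fun a h => X.x_inj 7 h)).toEquiv).symm
  have le : f.range ≤ X.L := by rintro _ ⟨a, rfl⟩; exact X.x7_mem _
  have S : IsSylowIn 2 f.range X.L := isSylowIn_of_not_dvd_relIndex
    (IsPGroup.of_card (n := 2) c) le (by
      have := (f.range.subgroupOf X.L).index_mul_card
      rw [card_subgroupOf le, c, X.gl_card] at this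
      rw [relIndex]; omega)
  obtain ⟨l, hl, e⟩ := S.exists_cj_le h2 hP
  exact ⟨l, hl, fun g hg => by obtain ⟨a, e⟩ := e (cj_mem l hg); exact ⟨_, e.symm⟩⟩

theorem gl_core {J : Subgroup G} (hJ : J ≤ X.B) (hN : X.B ≤ 𝐍(J)) (h2 : IsPGroup 2 J) : J ≤ X.QA := by
  have p : IsPGroup 2 (J ⊔ X.QA : Subgroup G) :=
    isPGroup_sup_of_le_normalizer_right h2 X.isP_QA (hJ.trans X.B_norm_QA)
  rcases X.gl_simple (J := (J ⊔ X.QA) ⊓ X.L) inf_le_right fun l hl j hj =>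
    mem_inf.2 ⟨conj_mem_of_mem_normalizer (le_normalizer_sup hN X.B_norm_QA (X.L_le_B hl)) hj.1,
      mul_mem (mul_mem hl hj.2) (inv_mem hl)⟩ with e | e
  · intro j hj
    obtain ⟨q, hq, l, hl, rfl⟩ := X.gl_memB.1 (hJ hj)
    rwa [mem_bot.1 (e.le ⟨(mul_mem_cancel_left (mem_sup_right hq)).1 (mem_sup_left hj), hl⟩), mul_one]
  · obtain ⟨l, hl, h5, h1⟩ := X.gl_five
    obtain ⟨k, hk⟩ := isPGroup_iff_mem.1 p l (e hl).1
    have := pow_gcd_eq_one.2 ⟨h5, hk⟩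
    rw [(Nat.Coprime.pow_right k (by norm_num : Nat.Coprime 5 2) :), pow_one] at this
    exact (h1 this).elim

omit [Finite G] in
theorem gl_gen : X.A = X.B ⊔ zpowers X.nb := by
  refine le_antisymm ((closure_le _).2 ?_) (sup_le X.B_le_A (zpowers_le.2 X.nb_mem))
  rintro _ ⟨r, t, rfl⟩
  have a : ∀ r, X.x r t ∈ X.B ⊔ zpowers X.nb →
      X.x (![0, 5, 3, 2, 7, 1, 10, 4, 9, 8, 6, 11] r) t ∈ X.B ⊔ zpowers X.nb := fun r h => by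
    have := (mem_sup_left (X.L_le_B X.na_mem) : _ ∈ X.B ⊔ zpowers X.nb)
    exact X.na_x r t ▸ mul_mem (mul_mem this h) (inv_mem this)
  have b : ∀ r, X.x r t ∈ X.B ⊔ zpowers X.nb →
      X.x (![1, 0, 2, 4, 3, 6, 5, 8, 7, 9, 11, 10] r) t ∈ X.B ⊔ zpowers X.nb := fun r h => by
    have := (mem_sup_right (mem_zpowers X.nb) : _ ∈ X.B ⊔ zpowers X.nb)
    exact X.nb_x r t ▸ mul_mem (mul_mem this h) (inv_mem this)
  have c : ∀ r, r = 4 ∨ 6 ≤ r → X.x r t ∈ X.B ⊔ zpowers X.nb := fun r h => mem_sup_left (X.x_B h t)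
  fin_cases r
  exacts [b 1 (a 5 (b 6 (c 6 (by decide)))), a 5 (b 6 (c 6 (by decide))), a 3 (b 4 (c 4 (by decide))),
    b 4 (c 4 (by decide)), c _ (by decide), b 6 (c 6 (by decide)), c _ (by decide), c _ (by decide),
    c _ (by decide), c _ (by decide), c _ (by decide), c _ (by decide)]

end Rt

variable [Finite G]

theorem Rt.p1 (X : Rt G) : X.P1 where
  L_act _ h := X.gl_act h
  L_ex σ h := by
    obtain ⟨ρ, h1, h2, -⟩ := X.gl_rho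
    obtain ⟨l, rfl⟩ := h2 σ h
    exact ⟨l, l.2, (h1 l).2⟩
  L_faith _ := X.gl_faith
  L_two _ := X.gl_two
  card_L := X.gl_card
  mem_B b := X.gl_memB.trans ⟨fun ⟨q, hq, l, hl, e⟩ => by
    obtain ⟨t, s, rfl⟩ := X.mem_QA.1 hq
    exact ⟨t, s, l, hl, e⟩, fun ⟨t, s, l, hl, e⟩ => ⟨_, X.mem_QA.2 ⟨t, s, rfl⟩, l, hl, e⟩⟩
  card_B := X.gl_cardB
  B_five := X.gl_B5
  L_five := X.gl_L5
  B_norm _ := X.gl_norm
  B_soc J hJ hN h := by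
    obtain e | ⟨t, t0, -, e⟩ := X.gl_norm hJ hN
    · obtain ⟨j, hj, j1⟩ := (J.bot_or_exists_ne_one).resolve_left h
      obtain ⟨s, rfl⟩ := X.mem_V.1 (e hj)
      exact ⟨s, fun c => j1 (by rw [c, X.vv_zero]), hj⟩
    · exact ⟨t, t0, e⟩
  B_cent b hb h := by
    obtain ⟨u, s, rfl⟩ := X.mem_QA.1 (X.gl_ker hb fun t => by
      rw [← h _ (X.qa_mem t), mul_inv_cancel_right, mul_inv_cancel]; exact one_mem _)
    refine X.gl_V (by_contra fun c => ?_) s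
    obtain ⟨y, e⟩ := Rt.gl_b4 c 1
    have := X.gl_comm y u s
    rw [h _ (X.qa_mem y), mul_inv_cancel_right, left_eq_mul, e] at this
    exact X.z_ne this
  B_core _ := X.gl_core
  A_gen := X.gl_gen

end H79.AS
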