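import Cfsg.Agent.Lib.ASG.Defs
import Cfsg.Agent.Lib.U63.SC
import Cfsg.Agent.Lib.SL2.Klein
import Cfsg.Agent.Lib.Core.CoprimeAbelian

/-! A 2-element fixing a unique coset; the Goldschmidt ending. -/

set_option autoImplicit false
set_option linter.style.haveILetI false

namespace H79.AS

open H30 H30.F4 H69 Subgroup Cfsg Equiv

variable {G : Type*} [Group G] [Finite G]

theorem dt2 {X M S : Subgroup G} (hM : M ≤ X) (hS : S ≤ X) (h2 : IsPGroup 2 S) {d : G}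
    (hd : d ∈ M) (uf : ∀ g ∈ X, g⁻¹ * d * g ∈ M → g ∈ M) (dS : d ∈ S) : S ≤ M := by
  have k : ∀ s g : X, s • (g : X ⧸ M.subgroupOf X) = g ↔ g.1⁻¹ * s * g ∈ M := fun s g => by
    rw [MulAction.Quotient.smul_mk, eq_comm, QuotientGroup.eq, mem_subgroupOf]
    simp [mul_assoc]
  have h3 := isPGroup_subgroupOf h2 X
  have h4 := (h3.to_le (zpowers_le.2 (show ⟨d, hM hd⟩ ∈ S.subgroupOf X from dS))).card_modEq_card_fixedPoints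
    (X ⧸ M.subgroupOf X)
  have h5 : MulAction.fixedPoints (zpowers (⟨d, hM hd⟩ : X)) (X ⧸ M.subgroupOf X) =
      {((1 : X) : X ⧸ M.subgroupOf X)} := by
    ext u
    obtain ⟨g, rfl⟩ := QuotientGroup.mk_surjective u
    constructor
    · intro h
      refine QuotientGroup.eq.2 ?_
      simpa [mem_subgroupOf] using uf g g.2 ((k _ g).1 (h ⟨_, mem_zpowers _⟩))
    · rintro h ⟨_, n, rfl⟩
      rw [show (g : X ⧸ M.subgroupOf X) = (1 : X) from h]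
      exact (k _ 1).2 (by simpa using zpow_mem hd n)
  rw [h5, Nat.card_unique (α := ({((1 : X) : X ⧸ M.subgroupOf X)} : Set _))] at h4
  obtain ⟨u, hu⟩ := h3.nonempty_fixed_point_of_prime_not_dvd_card (X ⧸ M.subgroupOf X) (by
    unfold Nat.ModEq at h4; omega)
  obtain ⟨g, rfl⟩ := QuotientGroup.mk_surjective u
  have h6 := uf g g.2 ((k _ g).1 (hu ⟨⟨d, hM hd⟩, dS⟩))
  intro s hs
  simpa [mul_assoc] using mul_mem (mul_mem h6 ((k _ g).1 (hu ⟨⟨s, hS hs⟩, hs⟩))) (inv_mem h6)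

theorem dt {X M Y : Subgroup G} (hM : M ≤ X) (hY : Y ≤ X) {d : G} (h2 : ∃ j, d ^ 2 ^ j = 1)
    (hd : d ∈ M) (uf : ∀ g ∈ X, g⁻¹ * d * g ∈ M → g ∈ M) (dY : d ∈ Y) {h : G} (hX : h ∈ X)
    (hh : h * d * h⁻¹ ∈ Y) : ∃ y ∈ Y, y⁻¹ * h ∈ M := by
  obtain ⟨j, hj⟩ := h2
  have h3 : IsPGroup 2 (zpowers d) := by
    rintro ⟨_, n, rfl⟩
    exact ⟨j, Subtype.ext (by
      rw [coe_pow, ← zpow_natCast, ← zpow_mul, mul_comm, zpow_mul, zpow_natCast, hj, one_zpow]; rfl)⟩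
  obtain ⟨S, hS, h4⟩ := exists_isSylowIn_le (isPGroup_cj h3 h) (L := Y) (by
    rw [cj_zpowers]; exact zpowers_le.2 hh)
  obtain ⟨y, hy, h5⟩ := hS.exists_cj_le h3 (zpowers_le.2 dY)
  have h6 := dt2 hM (S := S ^ᶜ h⁻¹) (cj_le_of_mem (hS.le.trans hY) (inv_mem hX)) (isPGroup_cj hS.isP _) hd uf
    (cj_le_iff.1 h4 (mem_zpowers d))
  refine ⟨y, hy, uf _ (mul_mem (inv_mem (hY hy)) hX) (h6 ?_)⟩
  simpa [mul_assoc] using cj_mem h⁻¹ (h5 (cj_mem y (mem_zpowers d)))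

theorem ge0 {W : Subgroup G} (sq : ∀ e ∈ W, e * e = 1)
    (sc : ∀ g, ∀ e ∈ W, g * e * g⁻¹ ∈ 𝐍(W) → g * e * g⁻¹ ∈ W)
    (si : ∀ J, W ≤ J → J ≤ 𝐍(W) → 𝐍(W) ≤ 𝐍(J) → J ≤ 𝐂(W) ∨ ∃ j ∈ J, j * j = 1 ∧ j ∉ 𝐂(W))
    (ce : ∀ m ∈ 𝐂(W), (∃ j, m ^ 2 ^ j = 1) → m ∈ W)
    {a b : G} (ha : a ∈ W) (hb : b ∈ W) (a1 : a ≠ 1) (b1 : b ≠ 1) (ab : a * b ≠ 1)
    (od : ∀ e, e = a ∨ e = b ∨ e = a * b → ∀ g, g * e = e * g → g ∈ 𝐍(W)) (g : G) : g ∈ 𝐍(W) := by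
  have wk : ∀ g ∈ (⊤ : Subgroup G), (∀ e ∈ W, g * e * g⁻¹ ∈ 𝐍(W)) → g ∈ 𝐍(W) := fun g _ h =>
    mem_normalizer_of_cj_le fun y hy => by
      obtain ⟨y, hy', rfl⟩ := mem_cj'.1 hy
      exact sc g y hy' (h y hy')
  have ea := Gold.ea_of_sq sq
  have c := Gold.ctx (A := W) (H := ⊤) ea
    ⟨le_top, fun Q hQ l h _ a ha e => sc h a ha (H87.U6.two_le wk hQ l le_top e)⟩
  have nl := le_normalizer_ncl W ⊤
  have hK := le_ncl W ⊤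
  have h1 : ncl W ⊤ ⊓ 𝐍(W) ≤ 𝐂(W) := (si _ (le_inf hK le_normalizer) inf_le_right
    (le_normalizer_inf (le_top.trans nl) le_normalizer)).resolve_right fun ⟨j, h, e, n⟩ =>
      n (H55.SylT.inv_cent c h.1 h.2 fun C _ => e ▸ one_mem _)
  obtain ⟨T, hT, l⟩ := exists_isSylowIn_le c.two hK
  obtain rfl : W = T := le_antisymm l fun t ht => ce t
    (h1 ⟨hT.le ht, H87.U6.two_le wk hT.isP l le_top ht⟩) ((hT.isP ⟨t, ht⟩).imp fun _ => congrArg Subtype.val)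
  have h3 := cj_le_ncl W (mem_top g)
  generalize ncl W ⊤ = K at hT hK h1 h3
  obtain ⟨P, hP⟩ := hT.exists_sylow_subgroupOf
  have h2 : normalizer (P : Set K) ≤ centralizer (P : Set K) := fun x hx y hy => Subtype.ext
    (h1 ⟨x.2, mem_normalizer_of_cj_le fun u hu => by
      obtain ⟨u, hu', rfl⟩ := mem_cj'.1 hu
      exact mem_subgroupOf.1 (hP.le ((mem_normalizer_iff.1 hx ⟨u, hK hu'⟩).1 (hP.ge hu')))⟩ y (hP.le hy))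
  have h4 := MonoidHom.ker_transferSylow_isComplement' P h2
  have h5 : (MonoidHom.transferSylow P h2).ker.Normal := inferInstance
  generalize (MonoidHom.transferSylow P h2).ker = N at h4 h5
  have p : H29.IsPair a b := ⟨sq a ha, a1, sq b hb, b1, fun e => ab (e ▸ sq a ha), by
    rw [← inv_eq_of_mul_eq_one_right (sq _ (mul_mem ha hb)), mul_inv_rev,
      inv_eq_of_mul_eq_one_right (sq a ha), inv_eq_of_mul_eq_one_right (sq b hb)]⟩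
  have hV := p.isKleinFour
  have h6 : N.map K.subtype ≤ 𝐍(W) := by
    refine H2.le_of_forall_centralizer_le (A := closure ({a, b} : Set G)) hV.isMulCommutative
      hV.not_isCyclic (le_trans ?_ (hK.trans (le_normalizer_of_cj_le ?_))) ?_ fun c hc c1 x hx => ?_
    · rw [closure_le]; rintro x (rfl | rfl) <;> assumption
    · intro k hk y hy
      obtain ⟨_, ⟨y, hy', rfl⟩, rfl⟩ := mem_cj'.1 hy
      exact ⟨_, h5.conj_mem y hy' ⟨k, hk⟩, rfl⟩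
    · rw [hV.card_four, card_subtype, ← h4.index_eq_card]
      exact Nat.Coprime.pow_left 2 (Nat.prime_two.coprime_iff_not_dvd.2 P.not_dvd_index)
    · exact od c ((p.mem_closure.1 hc).resolve_left c1) x (mem_centralizer_singleton_iff.1 hx.2)
  refine mem_normalizer_of_cj_le (hT.le_of_le_normalizer' (isPGroup_cj hT.isP g) h3 (h3.trans fun k hk => ?_))
  obtain ⟨⟨n, s⟩, e, -⟩ := h4.existsUnique ⟨k, hk⟩
  rw [show k = n.1.1 * s.1.1 from (congrArg Subtype.val e).symm]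
  exact mul_mem (h6 ⟨_, n.2, rfl⟩) (le_normalizer (hP.le s.2))

theorem ge {X E Z : Subgroup G} (hZ : Z ≤ E) (hE : E ≤ X) (hX : X ≤ 𝐂(Z)) (h2 : IsPGroup 2 E)
    (sq : ∀ e ∈ E, e * e ∈ Z)
    (sc : ∀ g ∈ X, ∀ e ∈ E, g * e * g⁻¹ ∈ 𝐍(E) → g * e * g⁻¹ ∈ E)
    (si : ∀ J, E ≤ J → J ≤ X ⊓ 𝐍(E) → X ⊓ 𝐍(E) ≤ 𝐍(J) →
      (∀ j ∈ J, ∀ e ∈ E, j * e * j⁻¹ * e⁻¹ ∈ Z) ∨
        ∃ j ∈ J, j * j ∈ Z ∧ ∃ e ∈ E, j * e * j⁻¹ * e⁻¹ ∉ Z)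
    (ce : ∀ m ∈ X ⊓ 𝐍(E), (∃ j, m ^ 2 ^ j = 1) → (∀ e ∈ E, m * e * m⁻¹ * e⁻¹ ∈ Z) → m ∈ E)
    {a b : G} (ha : a ∈ E) (hb : b ∈ E) (a1 : a ∉ Z) (b1 : b ∉ Z) (ab : a * b ∉ Z)
    (od : ∀ e, e = a ∨ e = b ∨ e = a * b → ∀ g ∈ X, g * e * g⁻¹ * e⁻¹ ∈ Z → g ∈ 𝐍(E)) :
    X ≤ 𝐍(E) := by
  haveI : (Z.subgroupOf X).Normal :=
    normal_subgroupOf_of_le_normalizer (hX.trans (centralizer_le_normalizer _))
  set f := QuotientGroup.mk' (Z.subgroupOf X)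
  have k1 : ∀ x : X, f x = 1 ↔ x.1 ∈ Z := fun x => QuotientGroup.eq_one_iff x
  have fs : Function.Surjective f := QuotientGroup.mk'_surjective _
  set W := (E.subgroupOf X).map f
  have kl : f.ker ≤ E.subgroupOf X := fun x hx => hZ ((k1 x).1 hx)
  have k2 : ∀ x : X, f x ∈ W ↔ x.1 ∈ E := fun x => by
    rw [← mem_comap, comap_map_eq_self kl, mem_subgroupOf]
  have k3 : ∀ x : X, f x ∈ 𝐍(W) ↔ x.1 ∈ 𝐍(E) := fun x =>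
    ⟨fun h => mem_normalizer_of_cj_le fun y hy => by
      obtain ⟨y, hy', rfl⟩ := mem_cj'.1 hy
      exact (k2 (x * ⟨y, hE hy'⟩ * x⁻¹)).1 (conj_mem_of_mem_normalizer h ((k2 ⟨y, hE hy'⟩).2 hy')),
    fun h => mem_normalizer_of_cj_le fun y hy => by
      obtain ⟨_, ⟨y, hy', rfl⟩, rfl⟩ := mem_cj'.1 hy
      exact (k2 (x * y * x⁻¹)).2 (conj_mem_of_mem_normalizer h hy')⟩
  have k4 : ∀ x y : X, f x * f y = f y * f x ↔ x.1 * y * x.1⁻¹ * y.1⁻¹ ∈ Z := fun x y => by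
    rw [← mul_inv_eq_iff_eq_mul, ← mul_inv_eq_one]
    exact k1 (x * y * x⁻¹ * y⁻¹)
  have k5 : ∀ x : X, f x ∈ 𝐂(W) ↔ ∀ e ∈ E, x.1 * e * x.1⁻¹ * e⁻¹ ∈ Z := fun x =>
    ⟨fun h e he => (k4 x ⟨e, hE he⟩).1 (h _ ((k2 ⟨e, hE he⟩).2 he)).symm, fun h => by
      rintro _ ⟨e, he, rfl⟩
      exact ((k4 x e).2 (h e he)).symm⟩
  refine fun g hg => (k3 ⟨g, hg⟩).1 (ge0 ?_ (fun g => ?_) (fun J h1 h3 h4 => ?_) (fun m hm ⟨j, hj⟩ => ?_)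
    ((k2 ⟨a, hE ha⟩).2 ha) ((k2 ⟨b, hE hb⟩).2 hb) (mt (k1 _).1 a1) (mt (k1 _).1 b1)
    (mt (k1 (⟨a, hE ha⟩ * ⟨b, hE hb⟩)).1 ab) (fun e he g h => ?_) _)
  · rintro _ ⟨e, he, rfl⟩
    exact (k1 (e * e)).2 (sq e he)
  · obtain ⟨g, rfl⟩ := fs g
    rintro _ ⟨e, he, rfl⟩ h
    exact (k2 (g * e * g⁻¹)).2 (sc g g.2 e he ((k3 (g * e * g⁻¹)).1 h))
  · rcases si ((J.comap f).map X.subtype) (fun e he => ⟨⟨e, hE he⟩, h1 ((k2 _).2 he), rfl⟩)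
      (by rintro _ ⟨x, hx, rfl⟩; exact ⟨x.2, (k3 x).1 (h3 hx)⟩) (fun x hx => mem_normalizer_of_cj_le fun y hy => by
        obtain ⟨_, ⟨y, hy', rfl⟩, rfl⟩ := mem_cj'.1 hy
        exact ⟨⟨x, hx.1⟩ * y * ⟨x, hx.1⟩⁻¹,
          conj_mem_of_mem_normalizer (h4 ((k3 ⟨x, hx.1⟩).2 hx.2)) hy', rfl⟩) with h | ⟨_, ⟨j, h, rfl⟩, h5, e, he, h6⟩
    · refine .inl fun j hj => ?_
      obtain ⟨j, rfl⟩ := fs j
      exact (k5 j).2 (h _ ⟨j, hj, rfl⟩)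
    · exact .inr ⟨f j, h, (k1 (j * j)).2 h5, fun c => h6 ((k5 j).1 c e he)⟩
  · obtain ⟨m, rfl⟩ := fs m
    obtain ⟨i, hi⟩ := h2 ⟨_, hZ ((k1 (m ^ 2 ^ j)).1 hj)⟩
    exact (k2 m).2 (ce m ⟨m.2, (k3 m).1 (centralizer_le_normalizer _ hm)⟩ ⟨j + i, by
      rw [pow_add, pow_mul]; exact congrArg Subtype.val hi⟩ ((k5 m).1 hm))
  · obtain ⟨g, rfl⟩ := fs g
    refine (k3 g).2 ?_
    rcases he with rfl | rfl | rfl
    · exact od a (.inl rfl) g g.2 ((k4 g _).1 h)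
    · exact od b (.inr (.inl rfl)) g g.2 ((k4 g _).1 h)
    · exact od _ (.inr (.inr rfl)) g g.2 ((k4 g (⟨a, hE ha⟩ * ⟨b, hE hb⟩)).1 h)

end H79.AS
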