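import Cfsg.Agent.Lib.ASG.HA
import Cfsg.Agent.Lib.ASG.GE

/-! `C(z)` normalises `Q`. -/

set_option autoImplicit false

namespace H79.AS

open H30 H30.F4 H69 Subgroup Cfsg Equiv
open H16.P8
open H96.E8 (O8)

variable {G : Type*} [Group G] [Finite G]

namespace HB

variable {z : G} {Q O : Subgroup G} {π : G → V8}

omit [Finite G] in
theorem mz (c : Cd Q z π) {x : G} : x ∈ zpowers z ↔ x = 1 ∨ x = z := by
  refine ⟨?_, by rintro (rfl | rfl); exacts [one_mem _, mem_zpowers _]⟩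
  rintro ⟨n, rfl⟩
  have h : z ^ (2 : ℤ) = 1 := by rw [zpow_two, c.sq]
  rcases Int.even_or_odd' n with ⟨k, rfl | rfl⟩ <;> simp [zpow_add, zpow_mul, h]

omit [Finite G] in
theorem zc {g x : G} (hg : g * z = z * g) (hx : x ∈ zpowers z) : g * x * g⁻¹ ∈ zpowers z := by
  obtain ⟨n, rfl⟩ := hx
  rw [(show Commute g z from hg).zpow_right, mul_inv_cancel_right]
  exact ⟨n, rfl⟩

theorem k1 (c : Cd Q z π) {j e : G} (hj : j ∈ 𝐍(Q)) (he : e ∈ Q) :
    j * e * j⁻¹ * e⁻¹ ∈ zpowers z ↔ π (j * e * j⁻¹) = π e := by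
  have h := conj_mem_of_mem_normalizer hj he
  rw [mz c, ← c.ker _ (mul_mem h (inv_mem he)), c.mul _ h _ (inv_mem he), c.π_inv he,
    add_eq_zero_iff_eq_neg, H95.vec2_neg]

theorem k2 (c : Cd Q z π) {j : G} (hj : j ∈ 𝐍(Q)) :
    (∀ e ∈ Q, j * e * j⁻¹ * e⁻¹ ∈ zpowers z) ↔ Act Q z π j 1 :=
  ⟨fun h => ⟨c.cz hj, fun e he => ((k1 c hj he).1 (h e he)).trans (one_smul _ _).symm⟩,
    fun h e he => (k1 c hj he).2 ((h.2 e he).trans (one_smul _ _))⟩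

/-- the centraliser of `t` modulo `z` -/
def Y (z t : G) : Subgroup G where
  carrier := {k | k * z = z * k ∧ k * t * k⁻¹ * t⁻¹ ∈ zpowers z}
  mul_mem' := fun {k l} a b => ⟨(show Commute k z from a.1).mul_left b.1, by
    convert mul_mem (zc a.1 b.2) a.2 using 1
    group⟩
  one_mem' := ⟨by simp, by simp⟩
  inv_mem' := fun {k} a => ⟨(show Commute k z from a.1).inv_left, by
    convert zc (show Commute k z from a.1).inv_left (inv_mem a.2) using 1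
    group⟩

theorem sc (h : Fg z Q O π) {g e : G} (hg : g * z = z * g) (he : e ∈ Q) (hn : g * e * g⁻¹ ∈ 𝐍(Q)) :
    g * e * g⁻¹ ∈ Q := by
  have c := h.cd
  have hZ := zpowers_le.2 c.mem
  obtain ⟨σ, b⟩ := c.exists_act hn
  obtain ⟨u, hu, d⟩ := exists_plane (σ := σ) (c.act_unique (c.act_mul hn b b) (c.act_of_mem (by
    rw [← cj_mul, c.sqr e he]
    exact hZ (zc hg ((mz c).2 (H95.zp_cases z _))))))
  obtain ⟨s, hs, f⟩ := c.surj (u 1)
  have h2 := (c.sq_iff hs).2 (f ▸ (d 1).1)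
  have h0 : π s ≠ 0 := fun k => (by decide : (1 : Fin 3 → ZMod 2) ≠ 0)
    (hu ((f.symm.trans k).trans (map_zero u).symm))
  have h3 := c.central s hs
  obtain ⟨y, hy, h4⟩ := dt (X := centralizer {z}) (M := 𝐍(Q)) (Y := Y z (g * e * g⁻¹)) (d := s) (h := g)
    (fun x hx => mem_centralizer_singleton_iff.2 (c.cz hx))
    (fun x hx => mem_centralizer_singleton_iff.2 hx.1) ⟨1, by rw [pow_one, sq, h2]⟩ (le_normalizer hs)
    (fun k hk => h.uf hs h2 h0 (mem_centralizer_singleton_iff.1 hk))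
    ⟨h3, by
      convert inv_mem ((k1 c hn hs).2 (by rw [b.2 s hs, f, (d 1).2])) using 1
      group⟩ (mem_centralizer_singleton_iff.2 hg)
    ⟨((show Commute g z from hg).mul_left h3).mul_left (show Commute g z from hg).inv_left, by
      convert zc hg ((k2 c (le_normalizer hs)).2 (c.act_of_mem hs) e he) using 1
      group⟩
  convert mul_mem (inv_mem (hZ (inv_mem hy).2)) (conj_mem_of_mem_normalizer h4 he) using 1
  group

theorem si (h : Fg z Q O π) {J : Subgroup G} (h1 : Q ≤ J) (h2 : J ≤ 𝐍(Q)) (h3 : 𝐍(Q) ≤ 𝐍(J)) :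
    (∀ j ∈ J, Act Q z π j 1) ∨ ∃ j ∈ J, j * j = 1 ∧ ¬ Act Q z π j 1 := by
  have c := h.cd
  obtain ⟨ρ, hρ⟩ := c.exists_hom
  have m : ∀ g, ρ g ∈ Om := fun g => by
    obtain ⟨σ, a, b⟩ := h.act g g.2
    exact c.act_unique b (hρ g) ▸ a
  have n : (((J.subgroupOf 𝐍(Q)).map ρ).subgroupOf Om).Normal := ⟨by
    rintro σ ⟨j, hj, e⟩ τ
    obtain ⟨g, hg, b⟩ := h.ex τ τ.2
    exact ⟨⟨g, hg⟩ * j * ⟨g, hg⟩⁻¹, conj_mem_of_mem_normalizer (h3 hg) hj, by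
      rw [map_mul, map_mul, map_inv, e, c.act_unique (hρ ⟨g, hg⟩) b]; rfl⟩⟩
  rcases n.eq_bot_or_eq_top with e | e
  · refine .inl fun j hj => ?_
    have k : (⟨_, m ⟨j, h2 hj⟩⟩ : Om) ∈ ((J.subgroupOf 𝐍(Q)).map ρ).subgroupOf Om := ⟨_, hj, rfl⟩
    rw [e, mem_bot, Subtype.ext_iff] at k
    exact (show ρ ⟨j, h2 hj⟩ = 1 from k) ▸ hρ ⟨j, h2 hj⟩
  · obtain ⟨j, hj, a, b⟩ := h.inv
    obtain ⟨i, hi, k⟩ : (⟨_, m ⟨j, hj⟩⟩ : Om) ∈ ((J.subgroupOf 𝐍(Q)).map ρ).subgroupOf Om := e ▸ mem_top _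
    have d := hρ (i * ⟨j, hj⟩⁻¹)
    rw [map_mul, map_inv, k, show Om.subtype _ = ρ ⟨j, hj⟩ from rfl, mul_inv_cancel] at d
    obtain ⟨o, ho, q, hq, f⟩ := h.ker _ (i * ⟨j, hj⟩⁻¹).2 d
    have s : j ^ 2 ^ 1 = 1 := by rw [pow_one, sq, a]
    refine .inr ⟨j, mem_of_odd_pow s h.odd ?_, a, b⟩
    have t : o * j = q⁻¹ * i := by
      rw [eq_inv_mul_iff_mul_eq, ← mul_assoc, ← h.Q_O hq o ho, ← f]; simp
    have := pow_mem (mul_mem (inv_mem (h1 hq)) (mem_subgroupOf.1 hi)) (Nat.card O)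
    rwa [← t, (show Commute o j from h.two j hj ⟨1, s⟩ o ho).mul_pow, pow_card_one ho, one_mul] at this

end HB

open HB in
theorem Fg.cz {z : G} {Q O : Subgroup G} {π : G → V8} (h : Fg z Q O π) {g : G}
    (hg : g * z = z * g) : g ∈ 𝐍(Q) := by
  have c := h.cd
  obtain ⟨u, w, q1, q2, q3, n1, n2, n3⟩ := exists_four
  obtain ⟨a, ha, rfl⟩ := c.surj u
  obtain ⟨b, hb, rfl⟩ := c.surj w
  rw [← c.mul a ha b hb] at q3 n3
  have k : ∀ e ∈ Q, π e ≠ 0 → e ∉ zpowers z := fun e he n m => n ((c.ker e he).2 ((mz c).1 m))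
  have od : ∀ e ∈ Q, qf (π e) = 0 → π e ≠ 0 → ∀ g ∈ centralizer {z}, g * e * g⁻¹ * e⁻¹ ∈ zpowers z →
      g ∈ 𝐍(Q) := fun e he q n g hg m =>
    h.sing e he ((c.sq_iff he).2 q) n g (mem_centralizer_singleton_iff.1 hg)
      (((mz c).1 m).imp mul_inv_eq_one.1 fun f => (mul_inv_eq_iff_eq_mul.1 f).trans (c.central e he).symm)
  refine ge (X := centralizer {z}) (Z := zpowers z) (zpowers_le.2 c.mem)
    (fun x hx => mem_centralizer_singleton_iff.2 (c.central x hx))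
    (by rw [zpowers_eq_closure, centralizer_closure]) c.isP
    (fun e he => (mz c).2 (c.sqr e he ▸ H95.zp_cases z _))
    (fun g hg e he => sc h (mem_centralizer_singleton_iff.1 hg) he) (fun J h1 h2 h3 => ?_)
    (fun m hm ⟨j, hj⟩ f => ?_) ha hb (k a ha n1) (k b hb n2) (k _ (mul_mem ha hb) n3) ?_
    (mem_centralizer_singleton_iff.2 hg)
  · refine (si h h1 (h2.trans inf_le_right) fun x hx =>
      h3 ⟨mem_centralizer_singleton_iff.2 (c.cz hx), hx⟩).imp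
      (fun f j hj => (k2 c (h2 hj).2).2 (f j hj)) fun ⟨j, hj, f1, f2⟩ => ⟨j, hj, f1 ▸ one_mem _, ?_⟩
    simpa only [← k2 c (h2 hj).2, not_forall, exists_prop] using f2
  · obtain ⟨o, ho, q, hq, e⟩ := h.ker m hm.2 ((k2 c hm.2).1 f)
    refine mem_of_odd_pow hj h.odd ?_
    rw [e, (show Commute o q from h.Q_O hq o ho).mul_pow, pow_card_one ho, one_mul]
    exact pow_mem hq _
  · rintro e (rfl | rfl | rfl)
    exacts [od _ ha q1 n1, od _ hb q2 n2, od _ (mul_mem ha hb) q3 n3]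

end H79.AS
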