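import Cfsg.Agent.Lib.ASG.Bas
import Cfsg.Agent.Lib.SE42.Basic
import Cfsg.Agent.S1911

/-! The opening, part 1. -/

set_option autoImplicit false

namespace H79.AS

open H30 H30.F4 H69 Subgroup Cfsg Equiv

variable {G : Type*} [Group G] [Finite G]

omit [Finite G] in
theorem St.oa_kn (X : St G) {g n k : G} (hn : g⁻¹ * n * g ∈ 𝐍(X.A)) (hk : k ∈ 𝐂(X.A) ^ᶜ g) :
    n * k * n⁻¹ ∈ 𝐂(X.A) ^ᶜ g := mem_cj.2 (by
  have := X.KN hn (mem_cj.1 hk)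
  rwa [show g⁻¹ * n * g * (g⁻¹ * k * g) * (g⁻¹ * n * g)⁻¹ = g⁻¹ * (n * k * n⁻¹) * g by group] at this)

omit [Finite G] in
theorem oa_comm (g : G) {a b : G} (h : a * b = b * a) :
    g⁻¹ * a * g * (g⁻¹ * b * g) = g⁻¹ * b * g * (g⁻¹ * a * g) := by
  rw [show g⁻¹ * a * g * (g⁻¹ * b * g) = g⁻¹ * (a * b) * g by group, h]; group

omit [Finite G] in
theorem oa_sq (g : G) {a : G} (h : a * a = 1) : g⁻¹ * a * g * (g⁻¹ * a * g) = 1 := by
  rw [show g⁻¹ * a * g * (g⁻¹ * a * g) = g⁻¹ * (a * a) * g by group, h]; group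

omit [Finite G] in
theorem oa_ne (g : G) {a : G} (h : a ≠ 1) : g⁻¹ * a * g ≠ 1 := fun c =>
  h (by rw [show a = g * (g⁻¹ * a * g) * g⁻¹ by group, c]; group)

omit [Finite G] in
/-- a subgroup of the centraliser of an involution of `A`, conjugated -/
theorem St.oa_cj (X : St G) {P : Subgroup G} {a x y : G} (h : ∀ p ∈ P, p ∈ X.A ∧ p * a = a * p)
    (hx : x ∈ X.A) (e : x * a * x⁻¹ = y) : P ^ᶜ x ≤ X.A ⊓ centralizer {y} := fun p hp => by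
  obtain ⟨q, hq, rfl⟩ := mem_cj'.1 hp
  refine mem_inf.2 ⟨mul_mem (mul_mem hx (h q hq).1) (inv_mem hx), mem_centralizer_singleton_iff.2 ?_⟩
  rw [← e, ← cj_mul, (h q hq).2, cj_mul]

theorem St.notD (X : St G) : ¬ X.D X.z := by
  rintro ⟨g, k, k1, k2, k3, e⟩
  have hg : g ∉ 𝐍(X.A) := fun c => X.z_ne (X.ak X.z_A (e ▸ X.KN c k1))
  have ek : g⁻¹ * X.z * g = k := by rw [e]; group
  have cN : ∀ {y}, y * X.z = X.z * y → g⁻¹ * y * g ∈ 𝐍(X.A) := fun h =>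
    X.cent_N k1 k2 k3 (ek ▸ oa_comm g h)
  obtain ⟨c, c1, c2, c3, c4⟩ : ∃ c ∈ 𝐂(X.A), c * c = 1 ∧ c ≠ 1 ∧ g⁻¹ * c * g ∈ 𝐂(X.A) ⊔ X.A := by
    obtain ⟨a, ha, b, hb, a2, b2, ab, a1, b1, ne⟩ := X.four
    by_cases h1 : g⁻¹ * a * g ∈ 𝐂(X.A) ⊔ X.A
    · exact ⟨a, ha, a2, a1, h1⟩
    by_cases h2 : g⁻¹ * b * g ∈ 𝐂(X.A) ⊔ X.A
    · exact ⟨b, hb, b2, b1, h2⟩
    refine ⟨a * b, mul_mem ha hb, by rw [mul_assoc, ← mul_assoc b, ← ab, mul_assoc, b2, mul_one, a2],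
      fun c => ne (by rw [eq_inv_of_mul_eq_one_left c, inv_eq_of_mul_eq_one_right b2]), ?_⟩
    have := X.mul_KA (cN (ha _ X.z_A).symm) (cN (hb _ X.z_A).symm) h1 h2
    rwa [show g⁻¹ * a * g * (g⁻¹ * b * g) = g⁻¹ * (a * b) * g by group] at this
  obtain ⟨k', hk', a, ha, ec⟩ := X.mem_KA.1 c4
  have a2 : a * a = 1 := sq a ▸ (X.pr_pow hk' ha (n := 2) (by rw [← ec, sq, oa_sq g c2])).2
  have a1 : a ≠ 1 := fun c => hg (by
    simpa using inv_mem (X.tg' (c := g⁻¹) c1 c2 c3 (by rw [inv_inv, ec, c, mul_one]; exact hk')))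
  have bN : ∀ b ∈ X.B, g⁻¹ * b * g ∈ 𝐍(X.A) := fun b hb => cN (X.mem_CV.1 (X.B_le_CV hb) 1)
  have bK : X.B ≤ (𝐂(X.A) ⊔ X.A) ^ᶜ g := X.p1.B_five.le.trans (F5_le fun b hb h5 =>
    mem_cj.2 (X.five_KA (bN b hb) (by
      have := conj_pow (i := 5) (a := g⁻¹) (b := b)
      rw [inv_inv] at this
      rw [this, h5]; group)))
  obtain ⟨π, hπ⟩ := X.exists_pi
  let ι : X.B →* ↥(𝐂(X.A) ⊔ X.A) :=
    ((MulAut.conj g⁻¹).toMonoidHom.comp X.B.subtype).codRestrict _ fun b => by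
      simpa using mem_cj.1 (bK b.2)
  have hι : ∀ b, (ι b : G) = g⁻¹ * b * g := fun b => by simp [ι]
  let ρ := π.comp ι
  have ρ1 : ∀ p ∈ ρ.range, p ∈ X.A ∧ p * a = a * p := by
    rintro _ ⟨b, rfl⟩
    refine ⟨(hπ _).1, (X.pr_comm (hπ (ι b)).2 (hπ _).1 hk' ha ?_).2⟩
    rw [inv_mul_cancel_right, ← ec, hι]
    exact oa_comm g (c1 _ (X.B_le_A b.2))
  have ρ2 : ∀ b : X.B, ρ b = 1 ↔ (b : G) ∈ 𝐂(X.A) ^ᶜ g := fun b => by
    rw [mem_cj, ← hι]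
    refine ⟨fun c => by simpa [show π (ι b) = 1 from c] using (hπ (ι b)).2, fun c => X.ak (a := π (ι b)) (hπ _).1 ?_⟩
    simpa using inv_mem (mul_mem (inv_mem c) (hπ (ι b)).2)
  have zK : X.z ∈ 𝐂(X.A) ^ᶜ g := mem_cj.2 (ek ▸ k1)
  rcases X.p1.B_norm (X.B ⊓ 𝐂(X.A) ^ᶜ g) inf_le_left (fun b hb => mem_normalizer_of_cj_le fun y hy => by
    obtain ⟨y', hy', rfl⟩ := mem_cj'.1 hy
    exact mem_inf.2 ⟨mul_mem (mul_mem hb hy'.1) (inv_mem hb), X.oa_kn (bN b hb) hy'.2⟩) with c | ⟨t, t0, c, c'⟩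
  · have m := ρ.ker.index_mul_card
    rw [index_ker, X.p1.card_B] at m
    have le : Nat.card ρ.ker ≤ 4 := X.card_V ▸ Nat.card_le_card_of_injective
      (fun b : ρ.ker => (⟨b.1.1, c ⟨b.1.2, (ρ2 _).1 b.2⟩⟩ : X.V))
      fun b b' h => Subtype.ext (Subtype.ext (Subtype.mk.inj h))
    obtain ⟨x, hx, ex | ex⟩ := X.p2.cls a ha a2 a1
    · have le' := X.oa_cj ρ1 hx ex
      rw [X.cent_z] at le'
      have := card_le_of_le (X.p1.B_five.le.trans (F5_le fun b hb h5 => five_mem le' (by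
        rw [card_cj, X.p1.card_B]; nlinarith) hb h5))
      rw [card_cj, X.p1.card_B] at this
      have two : 1 < Nat.card ρ.ker := (one_lt_card_iff_ne_bot _).2 fun c => X.z_ne (congrArg Subtype.val
        (mem_bot.1 (c.le ((ρ2 ⟨X.z, X.V_le_B (X.vv_mem 1)⟩).2 zK))))
      nlinarith
    · have := card_le_of_le (X.oa_cj ρ1 hx ex)
      rw [card_cj, X.p2.card_cS] at this
      nlinarith
  · have nb : g⁻¹ * X.nb * g ∈ 𝐍(X.A) := X.tg' (mem_cj.1 c.2) (oa_sq g (X.x_sq 10 t))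
      (oa_ne g fun e => t0 (X.x_inj 10 e)) (by
        rw [show g⁻¹ * X.nb * g * (g⁻¹ * X.x 10 t * g) * (g⁻¹ * X.nb * g)⁻¹ =
          g⁻¹ * (X.nb * X.x 10 t * X.nb⁻¹) * g by group, X.nb_x]
        exact mem_cj.1 c'.2)
    have aN : X.A ≤ 𝐍(X.A) ^ᶜ g := X.p1.A_gen.le.trans
      (sup_le (fun b hb => mem_cj.2 (bN b hb)) (zpowers_le.2 (mem_cj.2 nb)))
    have := X.p2.simple
    have nm : ((𝐂(X.A) ^ᶜ g).subgroupOf X.A).Normal :=
      ⟨fun y hy n => X.oa_kn (mem_cj.1 (aN n.2)) hy⟩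
    rcases nm.eq_bot_or_eq_top with c | c
    · have : (⟨X.z, X.z_A⟩ : X.A) ∈ (𝐂(X.A) ^ᶜ g).subgroupOf X.A := zK
      exact X.z_ne (congrArg Subtype.val (mem_bot.1 (c.le this)))
    · exact X.not_le hg (subgroupOf_eq_top.1 c)

theorem St.exists_pr (X : St G) {L : Subgroup G} [L.Normal] [IsSimpleGroup L] (hL : X.A ≤ L)
    (hn : ¬ X.A.Normal) : ∃ g d, X.Pr g d ∧ d ∈ 𝐍(X.A) := by
  have : Fact (Nat.Prime 2) := ⟨Nat.prime_two⟩
  by_contra h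
  push Not at h
  have hK : ¬ 𝐂(X.A).Normal := fun k =>
    hn (normal_iff_top_le_normalizer.2 (X.std.2.2.2 ▸ normal_iff_top_le_normalizer.1 k))
  have hS := (Cfsg.Agent.S1911.result 𝐂(X.A) X.std.2.1 fun g hg => by
    rw [← X.std.2.2.2] at hg ⊢
    rw [← Nat.not_even_iff_odd, even_iff_two_dvd]
    intro h2
    obtain ⟨t, ht⟩ := exists_prime_orderOf_dvd_card' 2 h2
    refine h g t ⟨hg, t.2.1,
      congrArg Subtype.val (show t * t = 1 by rw [← sq, ← ht, pow_orderOf_eq_one]), fun c => ?_⟩ t.2.2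
    rw [Subtype.ext (a1 := t) (a2 := 1) c, orderOf_one] at ht
    omega).resolve_left hK
  rcases ((normalClosure_normal (s := (𝐂(X.A) : Set G))).subgroupOf L).eq_bot_or_eq_top with e | e
  · refine hK ⟨fun k hk g a ha => ?_⟩
    have hm := normalClosure_normal.conj_mem k (le_normalClosure hk) g
    generalize g * k * g⁻¹ = m at hm
    have : (⟨a * m * a⁻¹ * m⁻¹, by
        have := mul_mem (hL ha) (‹L.Normal›.conj_mem _ (inv_mem (hL ha)) m)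
        rwa [← mul_assoc, ← mul_assoc] at this⟩ : L) ∈
        (normalClosure (𝐂(X.A) : Set G)).subgroupOf L :=
      mul_mem (normalClosure_normal.conj_mem m hm a) (inv_mem hm)
    rw [e, mem_bot, Subtype.ext_iff] at this
    exact mul_inv_eq_iff_eq_mul.1 (mul_inv_eq_one.1 this)
  · obtain ⟨k, hk, -, -, k2, -, -, k1, -⟩ := X.four
    have o : ∀ {a : normalClosure (𝐂(X.A) : Set G)}, (a : G) * a = 1 → (a : G) ≠ 1 → orderOf a = 2 :=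
      fun h h' => orderOf_eq_prime (by rw [sq]; exact Subtype.ext h) fun c => h' (congrArg Subtype.val c)
    obtain ⟨g, hg⟩ := isConj_iff.1 (H42.SE.isConj hS (a := ⟨k, le_normalClosure hk⟩)
      (b := ⟨X.z, subgroupOf_eq_top.1 e (hL X.z_A)⟩) (o k2 k1) (o X.z_sq X.z_ne))
    exact X.notD ⟨g, k, hk, k2, k1, (congrArg Subtype.val hg).symm⟩

end H79.AS
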