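import Cfsg.Agent.Lib.ASG.OB

/-! The opening, part 3. -/

set_option autoImplicit false
set_option linter.unusedSectionVars false

namespace H79.AS

open H30 H30.F4 H69 Subgroup Cfsg Equiv
open scoped commutatorElement

variable {G : Type*} [Group G] [Finite G]

namespace OC

theorem cm {g a b : G} (h : a * b = b * a) : g⁻¹ * a * g * (g⁻¹ * b * g) = g⁻¹ * b * g * (g⁻¹ * a * g) := by
  calc _ = g⁻¹ * (a * b) * g := by group
    _ = _ := by rw [h]; group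

theorem cm' {g a b : G} (h : a * b = b * a) : g * a * g⁻¹ * (g * b * g⁻¹) = g * b * g⁻¹ * (g * a * g⁻¹) := by
  rw [conj_mul, conj_mul, h]

theorem cp (g a : G) (n : ℕ) : (g⁻¹ * a * g) ^ n = g⁻¹ * a ^ n * g := by
  simpa using conj_pow (i := n) (a := g⁻¹) (b := a)

variable (X : St G) {g k k' : G}

theorem Bz {b : G} (hb : b ∈ X.B) (s : F4) : b * X.vv s = X.vv s * b := X.mem_CV.1 (X.B_le_CV hb) s

/-- an element which centralises an involution of `K^g` normalises `A^g` -/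
theorem cN {d c : G} (hd : d ∈ 𝐂(X.A) ^ᶜ g) (d2 : d * d = 1) (d1 : d ≠ 1) (hc : c * d = d * c) :
    g⁻¹ * c * g ∈ 𝐍(X.A) :=
  X.cent_N (mem_cj.1 hd) (by simp [mul_assoc, ← mul_assoc d d, d2])
    (fun e => d1 (by simpa using (conj_eq_one_iff (a := g⁻¹) (b := d)).1 (by simpa using e))) (cm hc)

theorem BN (hk : k ∈ 𝐂(X.A)) (h : X.Pr g (k * X.z)) {b : G} (hb : b ∈ X.B) : g⁻¹ * b * g ∈ 𝐍(X.A) :=
  cN X h.2.1 h.2.2.1 h.2.2.2 (by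
    rw [← mul_assoc, hk b (X.B_le_A hb), mul_assoc, X.z_eq, Bz X hb, mul_assoc])

theorem BKA (hk : k ∈ 𝐂(X.A)) (h : X.Pr g (k * X.z)) : X.B ≤ (𝐂(X.A) ⊔ X.A) ^ᶜ g := by
  rw [X.p1.B_five]
  exact F5_le fun b hb b5 => mem_cj.2 (X.five_KA (BN X hk h hb) (by rw [cp, b5]; simp))

theorem BK (hD : ¬ X.D X.z) (hk : k ∈ 𝐂(X.A)) (h : X.Pr g (k * X.z)) {b : G} (hb : b ∈ X.B)
    (hb' : g⁻¹ * b * g ∈ 𝐂(X.A)) : b = 1 := by
  by_contra b1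
  obtain ⟨s, s0, hs⟩ := X.p1.B_soc (X.B ⊓ 𝐂(X.A) ^ᶜ g) inf_le_left
    (le_normalizer_inf le_normalizer fun c hc => by
      rw [← cj_normalizer]
      exact mem_cj.2 (normalizer_le_normalizer_centralizer _ (BN X hk h hc)))
    fun e => b1 (mem_bot.1 (e ▸ (⟨hb, mem_cj.2 hb'⟩ : b ∈ X.B ⊓ 𝐂(X.A) ^ᶜ g)))
  refine hD (X.D_z s0 (g := g⁻¹) ⟨1, _, mem_cj.1 hs.2, ?_, fun e => s0 (X.vv_inj ?_), by simp⟩)
  · simp [mul_assoc, ← mul_assoc (X.vv s), X.vv_sq]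
  · rw [X.vv_zero]
    simpa using (conj_eq_one_iff (a := g⁻¹) (b := X.vv s)).1 (by simpa using e)

/-- the projection of `B` to a subgroup `C` of `A^g` is injective -/
theorem pi (hD : ¬ X.D X.z) (hk : k ∈ 𝐂(X.A)) (h : X.Pr g (k * X.z)) {a : G} (ha : a ∈ X.A)
    (hk' : k' ∈ 𝐂(X.A)) (he : g * (k' * a) * g⁻¹ ∈ 𝐂(X.A)) :
    ∃ f : X.B → (X.A ⊓ centralizer {a} : Subgroup G), Function.Injective f ∧
      ∀ b : X.B, ∃ κ ∈ 𝐂(X.A), g⁻¹ * b * g = κ * f b := by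
  have : ∀ b : X.B, ∃ β : (X.A ⊓ centralizer {a} : Subgroup G), ∃ κ ∈ 𝐂(X.A), g⁻¹ * b * g = κ * β := by
    intro b
    obtain ⟨κ, hκ, β, hβ, e⟩ := X.mem_KA.1 (mem_cj.1 (BKA X hk h b.2))
    have := cm (g := g) (he b (X.B_le_A b.2))
    rw [e, show g⁻¹ * (g * (k' * a) * g⁻¹) * g = k' * a by group] at this
    exact ⟨⟨β, hβ, mem_centralizer_singleton_iff.2 (X.pr_comm hκ hβ hk' ha this).2⟩, κ, hκ, e⟩
  choose f hf using this
  refine ⟨f, fun b b' e => ?_, hf⟩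
  obtain ⟨κ, hκ, e1⟩ := hf b
  obtain ⟨κ', hκ', e2⟩ := hf b'
  refine Subtype.ext (mul_inv_eq_one.1 (BK X hD hk h (mul_mem b.2 (inv_mem b'.2)) ?_))
  rw [show g⁻¹ * ((b : G) * (b' : G)⁻¹) * g = g⁻¹ * b * g * (g⁻¹ * b' * g)⁻¹ by group, e1, e2, e]
  simpa using mul_mem hκ (inv_mem hκ')

/-- the symmetric configuration -/
theorem sym (hD : ¬ X.D X.z) (hk : k ∈ 𝐂(X.A)) (h : X.Pr g (k * X.z)) :
    ∃ g, ∃ k' ∈ 𝐂(X.A), X.Pr g (k * X.z) ∧ X.Pr g⁻¹ (k' * X.z) ∧ ∃ T ≤ 𝐂(X.A), IsPGroup 2 T ∧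
      4 ≤ Nat.card T ∧ ∀ t ∈ T, t * (k * X.z) = k * X.z * t := by
  obtain ⟨T, TK, T2, T4, Tc, a1, ha1, k1, hk1, he, a2, a1', k2⟩ := X.exists_k h X.z_A hk
  obtain ⟨a, ha, rfl⟩ := mem_cj'.1 ha1
  obtain ⟨k', hk', rfl⟩ := mem_cj'.1 hk1
  rw [conj_mul] at he
  rw [conj_mul, conj_eq_one_iff] at a2 k2
  obtain ⟨f, fi, -⟩ := pi X hD hk h ha hk' (TK he)
  have c1 := Nat.card_le_card_of_injective f fi
  obtain ⟨c, hc, e | e⟩ := X.p2.cls a ha a2 fun e => a1' (by simp [e])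
  swap
  · rw [X.p1.card_B, ← card_cj _ c, cj_inf, cj_eq_of_mem hc, cj_centralizer_singleton, e, X.p2.card_cS] at c1
    omega
  have cN := le_normalizer hc
  have n : g * c⁻¹ ∉ 𝐍(X.A) := fun m => h.1 (by simpa using mul_mem m cN)
  refine ⟨g * c⁻¹, k', hk', ⟨n, ?_, h.2.2⟩, ⟨fun m => n (inv_mem_iff.1 m), mem_cj.2 ?_, ?_, fun e => ?_⟩,
    T, TK, T2, T4, Tc⟩
  · rw [← cj_cj, cj_eq_of_mem_normalizer (normalizer_le_normalizer_centralizer _ (inv_mem cN))]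
    exact h.2.1
  · convert TK he using 1
    rw [← e, ← mul_assoc k', ← mul_assoc k', ← hk' c hc]
    group
  · rw [X.pr_mul X.z_A hk', k2, X.z_sq, mul_one]
  · exact X.z_ne (X.ak X.z_A (eq_inv_of_mul_eq_one_right e ▸ inv_mem hk'))

variable (hD : ¬ X.D X.z) (hk : k ∈ 𝐂(X.A)) (hk' : k' ∈ 𝐂(X.A)) (h : X.Pr g (k * X.z))
  (h' : X.Pr g⁻¹ (k' * X.z))
include hD hk hk' h h'

theorem onto : (∀ b ∈ X.B, ∃ κ ∈ 𝐂(X.A), ∃ β ∈ X.B, g⁻¹ * b * g = κ * β) ∧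
    ∀ β ∈ X.B, ∃ κ ∈ 𝐂(X.A), ∃ b ∈ X.B, g⁻¹ * b * g = κ * β := by
  obtain ⟨f, fi, hf⟩ := pi X hD hk h X.z_A hk' (by simpa using mem_cj.1 h'.2.1)
  have fs := (fi.bijective_of_nat_card_le (by rw [X.cent_z])).2
  refine ⟨fun b hb => ?_, fun β hβ => ?_⟩
  · obtain ⟨κ, hκ, e⟩ := hf ⟨b, hb⟩
    exact ⟨κ, hκ, f ⟨b, hb⟩, X.cent_z.le (f _).2, e⟩
  · obtain ⟨b, e⟩ := fs ⟨β, X.cent_z.ge hβ⟩
    obtain ⟨κ, hκ, e'⟩ := hf b
    exact ⟨κ, hκ, b, b.2, by rw [e', e]⟩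

theorem gB : X.B ≤ X.B ^ᶜ g := by
  let S : Subgroup G :=
    { carrier := {b | ∃ κ ∈ 𝐂(X.A), g * κ * g⁻¹ ∈ 𝐂(X.A) ∧ ∃ β ∈ X.B, g⁻¹ * b * g = κ * β}
      one_mem' := ⟨1, one_mem _, by simp, 1, one_mem _, by simp⟩
      mul_mem' := by
        rintro b b' ⟨κ, m1, m2, β, m3, e⟩ ⟨κ', m1', m2', β', m3', e'⟩
        refine ⟨κ * κ', mul_mem m1 m1', conj_mul (b := g) ▸ mul_mem m2 m2', β * β', mul_mem m3 m3', ?_⟩
        rw [← X.pr_mul (X.B_le_A m3) m1', ← e, ← e']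
        group
      inv_mem' := by
        rintro b ⟨κ, m1, m2, β, m3, e⟩
        refine ⟨κ⁻¹, inv_mem m1, conj_inv (b := g) ▸ inv_mem m2, β⁻¹, inv_mem m3, ?_⟩
        rw [← mul_inv_rev β, m1 β (X.B_le_A m3), ← e]
        group }
  have hS : X.B ≤ S := by
    rw [X.p1.B_five]
    refine F5_le fun b hb b5 => ?_
    obtain ⟨κ, m1, β, m3, e⟩ := (onto X hD hk hk' h h').1 b hb
    refine ⟨κ, m1, ?_, β, m3, e⟩
    have κ5 := (X.pr_pow m1 (X.B_le_A m3) (n := 5) (by rw [← e, cp, b5]; simp)).1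
    have m4 : g * β * g⁻¹ ∈ 𝐂(X.A) ⊔ X.A := by simpa using mem_cj.1 (BKA X hk' h' m3)
    obtain ⟨k0, m5, a0, m6, e0⟩ := X.mem_KA.1 (mul_mem (mem_sup_right (X.B_le_A hb)) (inv_mem m4))
    have e1 : g * κ * g⁻¹ = k0 * a0 := by
      rw [← e0, eq_mul_inv_iff_mul_eq, conj_mul, ← e]; group
    have a5 := (X.pr_pow m5 m6 (n := 5) (by rw [← e1, conj_pow, κ5]; simp)).2
    obtain ⟨s, rfl⟩ := X.mem_V.1 (X.cent_B m6 fun β0 m7 => by
      obtain ⟨κ0, m8, b0, m9, e2⟩ := (onto X hD hk' hk h' (by simpa using h)).2 β0 m7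
      have := cm' (g := g) (m1 b0 (X.B_le_A m9))
      rw [inv_inv] at e2
      rw [e1, e2] at this
      exact (X.pr_comm m8 (X.B_le_A m7) m5 m6 this).2)
    rw [show 5 = 2 * 2 + 1 from rfl, pow_succ, pow_mul, pow_two (X.vv s), X.vv_sq, one_pow, one_mul] at a5
    rwa [e1, a5, mul_one]
  have x : ∀ {r : Fin 12}, r = 4 ∨ 6 ≤ r → ∀ t, X.x r t ∈ X.B ^ᶜ g := fun hr t => by
    obtain ⟨κ, m1, m2, β, m3, e⟩ := hS (X.x_B hr t)
    have κ2 := (X.pr_pow m1 (X.B_le_A m3) (n := 2) (by rw [← e, cp, pow_two, X.x_sq]; simp)).1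
    have := X.tg h.1 m2 (cj_mem g m1) (j := 1) (by rw [conj_pow, pow_one, κ2]; simp)
    rw [mem_cj, e, conj_eq_one_iff.1 this, one_mul]
    exact m3
  refine sup_le ((closure_le _).2 ?_) ((closure_le _).2 ?_)
  · rintro _ ⟨t, s, rfl⟩
    exact mul_mem (mul_mem (mul_mem (mul_mem (x (by decide) _) (x (by decide) _)) (x (by decide) _))
      (x (by decide) _)) (x (r := 11) (by decide) _)
  · rintro _ ⟨t, rfl | rfl⟩ <;> exact x (by decide) _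

theorem gNB : g ∈ 𝐍(X.B) :=
  inv_mem_iff.1 (mem_normalizer_of_cj_le (le_cj_iff.1 (gB X hD hk hk' h h')))

omit hD hk hk' h h' in
theorem NV (hg : g ∈ 𝐍(X.B)) : g ∈ 𝐍(X.V) := mem_normalizer_of_cj_le fun y hy => by
  have m := cj_le_of_mem_normalizer X.V_le_B hg hy
  refine X.cent_B (X.B_le_A m) fun b hb => ?_
  obtain ⟨u, hu, rfl⟩ := mem_cj'.1 hy
  have := cm' (g := g) (X.B_le_CV (conj_mem_of_mem_normalizer' hg hb) u hu)
  simpa [mul_assoc] using this.symm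

omit hD hk hk' h h' in
theorem NQ (hg : g ∈ 𝐍(X.B)) : g ∈ 𝐍(X.QA) := mem_normalizer_of_cj_le
  (X.p1.B_core _ (cj_le_of_mem_normalizer X.QA_le_B hg) (by
    rw [← cj_normalizer, ← cj_eq_of_mem_normalizer hg]
    exact cj_mono g X.B_norm_QA) (isPGroup_cj X.isP_QA g))

omit hD hk hk' h h' in
/-- an element of `K` which centralises an involution of `K^g` -/
theorem lam (hg : g ∈ 𝐍(X.B)) {d t : G} (hd : d ∈ 𝐂(X.A) ^ᶜ g) (d2 : d * d = 1) (d1 : d ≠ 1)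
    (ht : t ∈ 𝐂(X.A)) (hc : t * d = d * t) : ∃ s, t * X.vv s ∈ 𝐂(X.A) ^ᶜ g := by
  have c : ∀ b ∈ X.B, b * (g⁻¹ * t * g) = g⁻¹ * t * g * b := fun b hb => by
    simpa [mul_assoc] using cm (g := g) (ht _ (X.B_le_A (conj_mem_of_mem_normalizer hg hb)))
  obtain ⟨κ, m1, b, m2, e⟩ := X.cV_KB (cN X hd d2 d1 hc) fun u hu => c u (X.V_le_B hu)
  have m3 := X.cent_B (X.B_le_A m2) fun b' hb => by
    have := c b' hb
    rw [e, ← one_mul b'] at this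
    exact (X.pr_comm (one_mem _) (X.B_le_A hb) m1 (X.B_le_A m2) this).2
  obtain ⟨s, hs⟩ := X.mem_V.1 (conj_mem_of_mem_normalizer (NV X hg) m3)
  refine ⟨s, mem_cj.2 ?_⟩
  rw [← X.vv_inv, ← hs, show g⁻¹ * (t * (g * b * g⁻¹)⁻¹) * g = g⁻¹ * t * g * b⁻¹ by group, e]
  simpa using m1

omit hD hk hk' h h' in
theorem cq (s t : V6) (a b : F4) : ⁅X.qa s * X.vv a, X.qa t * X.vv b⁆ = X.vv (b4 s t) := by
  have m : X.qa t * X.vv b ∈ X.B := mul_mem (X.QA_le_B (X.qa_mem t)) (X.V_le_B (X.vv_mem b))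
  calc _ = X.qa s * (X.vv a * (X.qa t * X.vv b)) * (X.vv a)⁻¹ * (X.qa s)⁻¹ * (X.qa t * X.vv b)⁻¹ := by
        rw [commutatorElement_def]; group
    _ = X.qa s * X.qa t * (X.vv b * (X.qa s)⁻¹) * (X.qa t * X.vv b)⁻¹ := by rw [← Bz X m]; group
    _ = X.qa s * X.qa t * (X.qa s)⁻¹ * (X.qa t)⁻¹ := by
        rw [← Bz X (inv_mem (X.QA_le_B (X.qa_mem s)))]; group
    _ = _ := by rw [X.qa_conj, X.qa_v, mul_inv_cancel_right]

omit hD hk hk' h h' in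
theorem cqV {x y : G} (hx : x ∈ X.QA) (hy : y ∈ X.QA) : ∃ s, ⁅x, y⁆ = X.vv s := by
  obtain ⟨s, a, rfl⟩ := X.mem_QA.1 hx
  obtain ⟨t, b, rfl⟩ := X.mem_QA.1 hy
  exact ⟨_, cq X s t a b⟩

omit hD hk hk' h h' in
theorem key {η : G} {c c' : F4} (hη : η ∈ X.A) (cc : c' * c = 1) (h1 : ∀ s, η * X.vv s * η⁻¹ = X.vv (c * s))
    (h2 : ∀ t, η * X.qa t * η⁻¹ = X.qa (c' • t)) :
    η ∈ 𝐍(X.B) ∧ ∀ x ∈ X.QA, ∀ y ∈ X.QA, ⁅η * x * η⁻¹, y⁆ = η⁻¹ * ⁅x, y⁆ * η := by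
  refine ⟨mem_normalizer_of_cj_le fun y hy => ?_, fun x hx y hy => ?_⟩
  · obtain ⟨b, hb, rfl⟩ := mem_cj'.1 hy
    refine X.p2.cV _ (mul_mem (mul_mem hη (X.B_le_A hb)) (inv_mem hη)) (c * 1) (fun e => ?_) ?_
    · rw [mul_one] at e
      rw [e, mul_zero] at cc
      exact absurd cc (by decide)
    · rw [← h1]; exact cm' (Bz X hb 1)
  obtain ⟨s, a, rfl⟩ := X.mem_QA.1 hx
  obtain ⟨t, b, rfl⟩ := X.mem_QA.1 hy
  rw [← conj_mul, h1, h2, cq, cq, eq_comm, mul_assoc, inv_mul_eq_iff_eq_mul, ← eq_mul_inv_iff_mul_eq, h1]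
  congr 1
  simp only [b4, Pi.smul_apply, smul_eq_mul]
  linear_combination (-(s 2 * t 5 + s 5 * t 2 + (s 3 * t 4 + s 4 * t 3))) * cc

omit hD hk hk' h h' in
/-- the torus element of `A^g` -/
theorem theta (hg : g ∈ 𝐍(X.B)) : ∃ η ∈ X.A, η ∈ 𝐍(X.B) ∧
    (∀ s, g * η * g⁻¹ * X.vv s * (g * η * g⁻¹)⁻¹ = X.vv (v * s)) ∧
    ∀ x ∈ X.QA, ∀ y ∈ X.QA, ⁅η * x * η⁻¹, y⁆ = η⁻¹ * ⁅x, y⁆ * η := by
  choose φ hφ using fun s => X.mem_V.1 (conj_mem_of_mem_normalizer' (NV X hg) (X.vv_mem s))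
  have act : ∀ {η c}, (∀ s, η * X.vv s * η⁻¹ = X.vv (c * s)) → (∀ s, φ (v * s) = c * φ s) → ∀ s,
      g * η * g⁻¹ * X.vv s * (g * η * g⁻¹)⁻¹ = X.vv (v * s) := fun {η c} h1 h2 s => by
    calc _ = g * (η * (g⁻¹ * X.vv s * g) * η⁻¹) * g⁻¹ := by group
      _ = _ := by rw [hφ, h1, ← h2, ← hφ]; group
  rcases (by decide +kernel : ∀ φ : F4 → F4, (∀ a b, φ (a + b) = φ a + φ b) → (∀ a, φ a = 0 → a = 0) →
    (∀ s, φ (v * s) = v * φ s) ∨ ∀ s, φ (v * s) = w * φ s) φ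
    (fun a b => X.vv_inj (by rw [← X.vv_add, ← hφ, ← hφ, ← hφ, ← X.vv_add]; group))
    (fun a e => X.vv_inj (by
      have := hφ a
      rw [e, X.vv_zero] at this
      rw [X.vv_zero]
      simpa using (conj_eq_one_iff (a := g⁻¹) (b := X.vv a)).1 (by simpa using this))) with e | e
  · obtain ⟨k1, k2⟩ := key X X.th_mem (c := v) (c' := w) (by decide) X.th_vv X.th_qa
    exact ⟨_, X.th_mem, k1, act X.th_vv e, k2⟩
  · have h1 : ∀ s, X.th * X.th * X.vv s * (X.th * X.th)⁻¹ = X.vv (w * s) := fun s => by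
      rw [show w * s = v * (v * s) by revert s; decide, ← X.th_vv, ← X.th_vv]; group
    obtain ⟨k1, k2⟩ := key X (mul_mem X.th_mem X.th_mem) (c := w) (c' := v) (by decide) h1 fun t => by
      rw [show v • t = w • w • t by rw [smul_smul]; rfl, ← X.th_qa, ← X.th_qa]; group
    exact ⟨_, mul_mem X.th_mem X.th_mem, k1, act h1 e, k2⟩

omit hD hk hk' h h' in
/-- the elements which act trivially on `V` and on `Q_A / V` -/
def Tq : Subgroup G where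
  carrier := {g | g ∈ 𝐂(X.V) ∧ ∀ y ∈ X.QA, y⁻¹ * (g * y * g⁻¹) ∈ X.V}
  one_mem' := ⟨one_mem _, fun y _ => by simp⟩
  mul_mem' := by
    rintro g g' ⟨c, m⟩ ⟨c', m'⟩
    refine ⟨mul_mem c c', fun y hy => ?_⟩
    convert mul_mem (m y hy) (m' y hy) using 1
    conv_rhs => rw [← conj_eq_of_mem_centralizer c (m' y hy)]
    group
  inv_mem' := by
    rintro g ⟨c, m⟩
    refine ⟨inv_mem c, fun y hy => ?_⟩
    convert inv_mem (m y hy) using 1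
    conv_rhs => rw [← conj_eq_of_mem_centralizer (inv_mem c) (m y hy)]
    group

end OC

open OC

theorem St.fa (X : St G) (hD : ¬ X.D X.z) (h : ∃ g, ∃ k ∈ 𝐂(X.A), X.Pr g (k * X.z)) :
    ∃ Y : Fa G, Y.toSt = X := by
  obtain ⟨g, k, hk, h⟩ := h
  obtain ⟨g, k', hk', h, h', T, TK, T2, T4, Tc⟩ := sym X hD hk h
  have hg := gNB X hD hk hk' h h'
  have dv : ∀ {a b s}, a * X.vv s ∈ 𝐂(X.A) ^ᶜ g → b * X.vv s ∈ 𝐂(X.A) ^ᶜ g → a * b⁻¹ ∈ 𝐂(X.A) ^ᶜ g :=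
    fun ha hb => by simpa using mul_mem ha (inv_mem hb)
  have uq : ∀ {a b s}, a ∈ T → b ∈ T → a * X.vv s ∈ 𝐂(X.A) ^ᶜ g → b * X.vv s ∈ 𝐂(X.A) ^ᶜ g → a = b :=
    fun m m' ha hb => by
      obtain ⟨j, hj⟩ := T2 ⟨_, mul_mem m (inv_mem m')⟩
      exact mul_inv_eq_one.1 (X.tg h.1 (TK (mul_mem m (inv_mem m'))) (dv ha hb) (congrArg Subtype.val hj))
  choose f hf using fun t : T => lam X hg h.2.1 h.2.2.1 h.2.2.2 (TK t.2) (Tc t t.2)
  have fs := (Function.Injective.bijective_of_nat_card_le (f := f)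
    (fun a b e => Subtype.ext (uq a.2 b.2 (hf a) (e ▸ hf b))) (by
      rwa [Nat.card_eq_fintype_card, show Fintype.card F4 = 4 from rfl])).2
  obtain ⟨r, rT, hr⟩ : ∃ r : F4 → G, (∀ a, r a ∈ T) ∧ ∀ a, r a * X.vv a ∈ 𝐂(X.A) ^ᶜ g := by
    choose r hr using fs
    exact ⟨fun a => r a, fun a => (r a).2, fun a => by simpa only [hr] using hf (r a)⟩
  have rK := fun a => TK (rT a)
  have add : ∀ a b, r (a + b) = r a * r b := fun a b => uq (rT _) (mul_mem (rT _) (rT _)) (hr _) (by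
    rw [← X.vv_add, ← X.pr_mul (X.vv_A a) (rK b)]; exact mul_mem (hr a) (hr b))
  have r2 : ∀ a, r a * r a = 1 := fun a => by
    rw [← add, f4_self]; simpa using add 0 0
  have ne : ∀ a ≠ 0, r a ≠ 1 := fun a a0 e => a0 (X.vv_inj (by
    rw [X.vv_zero]
    exact BK X hD hk h (X.V_le_B (X.vv_mem a)) (mem_cj.1 (by simpa [e] using hr a))))
  obtain ⟨η, ηA, ηB, ηv, ηq⟩ := theta X hg
  obtain ⟨thB, thq⟩ := key X X.th_mem (c := v) (c' := w) (by decide) X.th_vv X.th_qa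
  have c1 : ∀ o ∈ 𝐂(X.A) ^ᶜ g, g * η * g⁻¹ * o * (g * η * g⁻¹)⁻¹ = o := fun o ho => by
    obtain ⟨o, ho', rfl⟩ := mem_cj'.1 ho
    rw [cm' (ho' η ηA), mul_inv_cancel_right]
  have θB := mul_mem (mul_mem hg ηB) (inv_mem hg)
  have θq : ∀ x ∈ X.QA, ∀ y ∈ X.QA, ⁅g * η * g⁻¹ * x * (g * η * g⁻¹)⁻¹, y⁆ =
      (g * η * g⁻¹)⁻¹ * ⁅x, y⁆ * (g * η * g⁻¹) := fun x hx y hy => by
    have := congrArg (fun u => g * u * g⁻¹) (ηq _ (conj_mem_of_mem_normalizer' (NQ X hg) hx) _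
      (conj_mem_of_mem_normalizer' (NQ X hg) hy))
    simp only [commutatorElement_def] at this ⊢
    convert this using 1 <;> group
  generalize g * η * g⁻¹ = θ at ηv c1 θB θq
  have nv : ∀ s, θ * X.th⁻¹ * X.vv s = X.vv s * (θ * X.th⁻¹) := fun s => by
    rw [← mul_inv_eq_iff_eq_mul, show s = v * (w * s) by revert s; decide]
    conv_lhs => rw [← X.th_vv]
    rw [← ηv]; group
  have nV := X.mem_CV.2 nv
  have nT : θ * X.th⁻¹ ∈ Tq X := ⟨nV, fun y hy => by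
    have hx := conj_mem_of_mem_normalizer' (NQ X thB) hy
    have m1 := conj_mem_of_mem_normalizer (NQ X θB) hx
    rw [show θ * X.th⁻¹ * y * (θ * X.th⁻¹)⁻¹ = θ * (X.th⁻¹ * y * X.th) * θ⁻¹ by group]
    refine X.p1.B_cent _ (X.QA_le_B (mul_mem (inv_mem hy) m1)) fun u hu => ?_
    have k1 := θq _ hx u hu
    have k2 := thq _ hx u hu
    obtain ⟨s, hs⟩ := cqV X hx hu
    rw [hs, (by decide : ∀ s, s = v * (w * s)) s] at k1 k2
    rw [← ηv] at k1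
    rw [← X.th_vv, show X.th * (X.th⁻¹ * y * X.th) * X.th⁻¹ = y by group] at k2
    have : ⁅θ * (X.th⁻¹ * y * X.th) * θ⁻¹, u⁆ = ⁅y, u⁆ := by rw [k1, k2]; group
    generalize θ * (X.th⁻¹ * y * X.th) * θ⁻¹ = x at this
    rw [commutatorElement_def, commutatorElement_def, mul_left_inj] at this
    calc u * (y⁻¹ * x) = y⁻¹ * (y * u * y⁻¹) * x := by group
      _ = _ := by rw [← this]; group⟩
  have QT : X.QA ≤ Tq X := fun q hq => ⟨X.B_le_CV (X.QA_le_B hq), fun y hy => by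
    obtain ⟨s, hs⟩ := cqV X (inv_mem hy) hq
    convert hs ▸ X.vv_mem s using 1
    rw [commutatorElement_def]; group⟩
  refine ⟨⟨X, r, 𝐂(X.A) ⊓ 𝐂(X.A) ^ᶜ g, θ * X.th⁻¹, add, rK, ne, X.odd_inf h.1, inf_le_left, fun a => ?_,
    fun a a0 k0 hk0 c => ?_, fun o ho => ?_, nv, fun a => ?_, fun t => ?_, fun l hl => ?_⟩, rfl⟩
  · refine mem_normalizer_of_cj_le fun y hy => ?_
    obtain ⟨o, ho, rfl⟩ := mem_cj'.1 hy
    refine mem_inf.2 ⟨mul_mem (mul_mem (rK a) ho.1) (inv_mem (rK a)), ?_⟩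
    convert mul_mem (mul_mem (hr a) ho.2) (inv_mem (hr a)) using 1
    rw [mul_assoc (r a) (X.vv a), ho.1 _ (X.vv_A a)]; group
  · obtain ⟨s, hs⟩ := lam X hg (hr a) (by rw [X.pr_mul (X.vv_A a) (rK a), r2, X.vv_sq, mul_one])
      (fun e => ne a a0 (X.pr_uq (rK a) (X.vv_A a) (one_mem _) (one_mem _) (e.trans (mul_one 1).symm)).1)
      hk0 (by rw [← mul_assoc, c, mul_assoc, ← hk0 _ (X.vv_A a), mul_assoc])
    exact ⟨_, mem_inf.2 ⟨mul_mem hk0 (inv_mem (rK s)), dv hs (hr s)⟩, s, by simp⟩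
  · rw [mul_assoc θ, ho.1 _ (inv_mem X.th_mem), ← mul_assoc θ, mul_inv_eq_iff_eq_mul.1 (c1 o ho.2), mul_assoc]
  · calc _ = θ * (X.th⁻¹ * r a) * X.th * θ⁻¹ := by group
      _ = θ * (r a * X.vv a) * θ⁻¹ * (θ * X.vv a * θ⁻¹) := by
          rw [rK a _ (inv_mem X.th_mem), conj_mul, mul_assoc (r a) (X.vv a), X.vv_sq]; group
      _ = _ := by rw [c1 _ (hr a), ηv, mul_assoc, X.vv_add, show a + v * a = w * a by revert a; decide]
  · obtain ⟨s, hs⟩ := X.mem_V.1 (nT.2 _ (X.qa_mem t))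
    exact ⟨s, inv_mul_eq_iff_eq_mul.1 hs⟩
  · have lB := X.L_le_B hl
    have nB := mul_mem θB (inv_mem thB)
    generalize θ * X.th⁻¹ = n at nT nB
    obtain ⟨t, s, l', hl', e⟩ := (X.p1.mem_B _).1 (mul_mem (inv_mem lB) (conj_mem_of_mem_normalizer nB lB))
    have q : X.qa t * X.vv s ∈ X.QA := X.mem_QA.2 ⟨t, s, rfl⟩
    have m1 : l⁻¹ * n * l ∈ Tq X := ⟨mul_mem (mul_mem (inv_mem (X.B_le_CV lB)) nT.1) (X.B_le_CV lB),
      fun y hy => by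
        have := nT.2 _ (conj_mem_of_mem_normalizer (X.L_norm hl) hy)
        convert this using 1
        rw [← conj_eq_of_mem_centralizer (inv_mem (X.B_le_CV lB)) this]
        group⟩
    have m2 : l' ∈ Tq X := by
      rw [← inv_mul_eq_iff_eq_mul] at e
      rw [← e]
      exact mul_mem (inv_mem (QT q)) (by simpa only [mul_assoc] using mul_mem m1 (inv_mem nT))
    rw [e, X.p1.L_faith l' hl' fun t => (X.mem_V.1 (m2.2 _ (X.qa_mem t))).imp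
      fun s hs => inv_mul_eq_iff_eq_mul.1 hs, mul_one]
    exact q

end H79.AS
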