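import Cfsg.Agent.Lib.ASG.Defs
import Cfsg.Agent.Lib.Co1.Crd

/-! A standard subgroup `G₂(4)`: the frames of the extraspecial group `Q = 2^(1+8)`. -/

set_option autoImplicit false

namespace H79.AS

open H30 H30.F4 H69 Subgroup Cfsg H16.P8
open H96.E8 (O8)

/-- coordinates on `Q` -/
structure Cd {G : Type*} [Group G] (Q : Subgroup G) (z : G) (π : G → V8) : Prop where
  mem : z ∈ Q
  ne_one : z ≠ 1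
  sq : z * z = 1
  central : ∀ x ∈ Q, x * z = z * x
  mul : ∀ x ∈ Q, ∀ y ∈ Q, π (x * y) = π x + π y
  surj : ∀ u, ∃ x ∈ Q, π x = u
  ker : ∀ x ∈ Q, π x = 0 ↔ x = 1 ∨ x = z
  sqr : ∀ x ∈ Q, x * x = H95.zp z (qf (π x))
  comm : ∀ x ∈ Q, ∀ y ∈ Q, x * y = y * x * H95.zp z (bf (π x) (π y))

/-- The group `Q` is normalised by `M`. -/
structure Ff (G : Type*) [Group G] extends Ft G where
  Q : Subgroup G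
  π : G → V8
  cd : Cd Q toRt.z π
  π_v : π (toRt.vv w) = v1
  Q_W : ∀ x s, bar x = x → toFb.ww x * toRt.vv s ∈ Q
  Q_0 : ∀ g ∈ Q, g * toRt.vv w = toRt.vv w * g → ∃ x s, bar x = x ∧ g = toFb.ww x * toRt.vv s
  Q_O : Q ≤ 𝐂(O)
  M_Q : toFb.M ≤ 𝐍(Q)

/-- `N(Q) / O Q ≅ Ω₈⁺(2)`. -/
structure Fg {G : Type*} [Group G] (z : G) (Q O : Subgroup G) (π : G → V8) : Prop where
  cd : Cd Q z π
  act : ∀ g ∈ 𝐍(Q), ∃ σ ∈ Om, Act Q z π g σ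
  ex : ∀ σ ∈ Om, ∃ g ∈ 𝐍(Q), Act Q z π g σ
  ker : ∀ g ∈ 𝐍(Q), Act Q z π g 1 → ∃ o ∈ O, ∃ q ∈ Q, g = o * q
  odd : Odd (Nat.card O)
  Q_O : Q ≤ 𝐂(O)
  P_O : 𝐍(Q) ≤ 𝐍(O)
  two : ∀ g ∈ 𝐍(Q), (∃ j, g ^ 2 ^ j = 1) → g ∈ 𝐂(O)
  sing : ∀ x ∈ Q, x * x = 1 → π x ≠ 0 → ∀ g, g * z = z * g →
    (g * x * g⁻¹ = x ∨ g * x * g⁻¹ = x * z) → g ∈ 𝐍(Q)
  fus : ∃ h ∈ 𝐍(O), h * z * h⁻¹ ∈ Q ∧ h * z * h⁻¹ ≠ z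
  inv : ∃ j ∈ 𝐍(Q), j * j = 1 ∧ ¬ Act Q z π j 1

end H79.AS
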