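import Cfsg.Agent.Lib.ASG.WC
import Cfsg.Agent.Lib.ASG.Def8

/-! The extraspecial group `Q`. -/

set_option autoImplicit false

namespace H79.AS

open H30 H30.F4 H69 Subgroup Cfsg Equiv
open H16.P8
open H96.E8 (O8)

variable {G : Type*} [Group G] [Finite G]

theorem qa_cd {Q : Subgroup G} {z : G} (q : ℕ → G) (hz : z * z = 1) (z1 : z ≠ 1) (hzQ : z ∈ Q)
    (hq : ∀ j, q j ∈ Q) (hc : Nat.card Q ≤ 512) (hs : ∀ j, j < 8 → q j * q j = 1)
    (cz : ∀ x ∈ Q, x * z = z * x)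
    (rel : ∀ i, i < 8 → ∀ j, j < 8 → q i * q j = q j * q i * H95.zp z (bb (2 ^ i) (2 ^ j)))
    (cent : ∀ g ∈ Q, (∀ x ∈ Q, x * g = g * x) → g = 1 ∨ g = z) :
    ∃ π, Cd Q z π ∧ ∀ j, j < 8 → π (q j) = vc (2 ^ j) := by
  classical
  obtain ⟨π, h, e⟩ := crd_of_gens (G := Q) (Q := ⊤) (z := ⟨z, hzQ⟩) (fun j => ⟨q j, hq j⟩)
    (Subtype.ext hz) (fun e => z1 (congrArg Subtype.val e)) trivial (fun _ _ => trivial)
    (by rwa [card_top]) (fun j hj => Subtype.ext (hs j hj))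
    (fun j _ => Subtype.ext (cz _ (hq j)))
    (fun i hi j hj => Subtype.ext ((rel i hi j hj).trans (by rw [← coe_zp hzQ]; rfl)))
    (fun g hg => (cent g g.2 fun x hx => congrArg Subtype.val (hg ⟨x, hx⟩ trivial)).imp
      Subtype.ext Subtype.ext)
    (fun g _ => mem_normalizer_iff.2 fun _ => Iff.rfl)
  refine ⟨fun g => if h : g ∈ Q then π ⟨g, h⟩ else 0, ⟨hzQ, z1, hz, cz, ?_, ?_, ?_, ?_, ?_⟩,
    fun j hj => (dif_pos (hq j)).trans (e j hj)⟩
  · intro x hx y hy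
    rw [dif_pos hx, dif_pos hy, dif_pos (mul_mem hx hy)]
    exact h.mul ⟨x, hx⟩ trivial ⟨y, hy⟩ trivial
  · intro u
    obtain ⟨x, -, rfl⟩ := h.surj u
    exact ⟨x, x.2, dif_pos x.2⟩
  · intro x hx
    rw [dif_pos hx]
    refine ⟨fun e => (h.ker _ trivial e).imp (congrArg Subtype.val) (congrArg Subtype.val), ?_⟩
    rintro (rfl | rfl)
    exacts [h.π_one, h.π_z]
  · intro x hx
    rw [dif_pos hx, ← coe_zp hzQ]
    exact congrArg Subtype.val (h.sqr ⟨x, hx⟩ trivial)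
  · intro x hx y hy
    rw [dif_pos hx, dif_pos hy, ← coe_zp hzQ]
    exact congrArg Subtype.val (h.comm' (x := ⟨x, hx⟩) (y := ⟨y, hy⟩) trivial trivial)

/-- a hyperbolic basis of the rational vectors -/
def qaB : ℕ → V6
  | 0 => e5 1
  | 2 => ![v, w, 0, v, w, 0]
  | 3 => ![w, v, 0, 1, 1, 0]
  | 4 => ![0, 0, 1, 0, 0, 0]
  | 6 => ![v, w, 0, w, v, 0]
  | 7 => ![1, 1, 0, 1, 1, 0]
  | _ => 0

def qaC (j : ℕ) : F4 := if j = 1 then w else 0

theorem qa_tab (i : ℕ) : bar (qaB i) = qaB i ∧ q6 (qaB i) = 0 := by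
  unfold qaB
  split <;> decide

theorem qa_tab1 : ∀ i, i < 8 → i ≠ 5 → (qaC i * qaC i + qaC i = 0 ∧ bb (2 ^ 5) (2 ^ i) = 0) ∨
    (qaC i * qaC i + qaC i = 1 ∧ bb (2 ^ 5) (2 ^ i) = 1) := by decide +kernel

theorem qa_tab2 : ∀ i, i < 8 → bb (2 ^ i) (2 ^ 5) = bb (2 ^ 5) (2 ^ i) := by decide +kernel

set_option synthInstance.maxSize 1024 in
theorem qa_tab3 : ∀ i, i < 8 → i ≠ 5 → ∀ j, j < 8 → j ≠ 5 →
    (b6 (qaB i) (qaB j) = 0 ∧ bb (2 ^ i) (2 ^ j) = 0) ∨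
      (b6 (qaB i) (qaB j) = 1 ∧ bb (2 ^ i) (2 ^ j) = 1) := by decide +kernel

theorem qa_dual (l : ℕ → F4) (h1 : l 1 = 0) (h5 : l 5 = 0) :
    ∃ y, ∀ j, j < 8 → b6 y (qaB j) = l j := by
  have key : ∀ i, i < 8 → ∀ j, j < 8 → b6 (qaB i) (qaB j) =
      if (i = j + 4 ∨ j = i + 4) ∧ j ≠ 1 ∧ j ≠ 5 then 1 else 0 := by decide +kernel
  refine ⟨l 0 • qaB 4 + l 2 • qaB 6 + l 3 • qaB 7 + l 4 • qaB 0 + l 6 • qaB 2 + l 7 • qaB 3,
    fun j hj => ?_⟩
  simp only [b6_add_left, b6_smul_left]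
  rw [key 4 (by decide) j hj, key 6 (by decide) j hj, key 7 (by decide) j hj,
    key 0 (by decide) j hj, key 2 (by decide) j hj, key 3 (by decide) j hj]
  interval_cases j <;> simp [h1, h5]

theorem qa_nd {y : V6} : (∀ j, j < 8 → b6 y (qaB j) = 0) → y = 0 := by
  revert y
  rw [forall_V6]
  decide +kernel

theorem qa_bar_add (x y : V6) : bar (x + y) = bar x + bar y := by
  have : ∀ a b : F4, (a + b) * (a + b) = a * a + b * b := by decide
  funext i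
  fin_cases i <;> exact this _ _

theorem qa_bar_bar (x : V6) : bar (bar x) = x := by
  have : ∀ a : F4, a * a * (a * a) = a := by decide
  funext i
  fin_cases i <;> exact this _

/-- `t` centralises `O` and acts like the semilinear involution -/
structure Ft.QaT (X : Ft G) (t : G) : Prop where
  o : t ∈ 𝐂(X.O)
  v : ∀ s, t * X.vv s * t⁻¹ = X.vv (s * s)
  ac : X.Ac t bar

namespace Ft

variable {X : Ft G} {t : G}

theorem QaT.nv (h : X.QaT t) : t ∈ 𝐍(X.V) := mem_normalizer_fintype fun g hg => by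
  obtain ⟨s, rfl⟩ := X.mem_V.1 hg
  exact h.v s ▸ X.vv_mem _

theorem QaT.mul (h : X.QaT t) {c : G} (h1 : c ∈ 𝐂(X.O)) (h2 : c ∈ 𝐂(X.V)) (h3 : X.Ac c id) :
    X.QaT (c * t) :=
  ⟨mul_mem h1 h.o, fun s => by
    rw [← X.cj_vv' h2 (s * s), ← h.v]
    group, X.ac_mul (f := id) (X.wc_CN h2) h3 h.ac⟩

theorem QaT.mulW (h : X.QaT t) {c : G} (h1 : c ∈ X.W) : X.QaT (c * t) :=
  h.mul (X.W_O h1) (X.W_le_CV h1) (X.ac_W h1)

theorem QaT.cv (h : X.QaT t) {k : G} (h' : X.QaT k) : t * k ∈ 𝐂(X.V) := X.mem_CV.2 fun s => by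
  have : ∀ a : F4, a * a * (a * a) = a := by decide
  rw [← mul_inv_eq_iff_eq_mul]
  calc _ = t * (k * X.vv s * k⁻¹) * t⁻¹ := by group
    _ = _ := by rw [h'.v, h.v, this]

theorem QaT.split (h : X.QaT t) {k : G} (h' : X.QaT k) : ∃ o ∈ X.O, ∃ y ∈ X.W, t * k = o * y :=
  X.M_ker _ ⟨mul_mem (X.ac_norm h.nv h.ac) (X.ac_norm h'.nv h'.ac), h.cv h'⟩
    (funext qa_bar_bar ▸ X.ac_mul h.nv h.ac h'.ac : X.Ac (t * k) fun x => x)

theorem QaT.cj (h : X.QaT t) {k : G} (hk : k ∈ X.M) (hO : k ∈ 𝐂(X.O)) : X.QaT (k * t * k⁻¹) := by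
  obtain ⟨σ, -, a⟩ := X.M_ac k hk
  refine ⟨mul_mem (mul_mem hO h.o) (inv_mem hO), fun s => ?_, ?_⟩
  · calc _ = k * (t * (k⁻¹ * X.vv s * k⁻¹⁻¹) * t⁻¹) * k⁻¹ := by group
      _ = _ := by rw [X.cj_vv' (inv_mem hk.2), h.v, X.cj_vv' hk.2]
  · have := X.ac_mul (mul_mem (X.M_NV hk) h.nv) (X.ac_mul (X.M_NV hk) a h.ac)
      (X.ac_act_inv (X.M_NV hk) a)
    rwa [show (act σ ∘ bar) ∘ act σ⁻¹ = bar from funext fun x => by
      rw [Function.comp_apply, Function.comp_apply, ← bar_act, ← act_mul, mul_inv_cancel,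
        act_one]] at this

theorem qa_t (X : Ft G) : ∃ t, X.QaT t ∧ t * t = 1 ∧
    ∀ j, j < 8 → t * X.ww (qaB j) = X.ww (qaB j) * t := by
  have h0 : X.QaT X.t := ⟨X.t_O, X.t_v, X.t_ac⟩
  choose l hl using X.t_ac
  have l0 : l 0 = 0 := by
    have := hl 0
    rw [show bar 0 = 0 by decide, X.ww_zero, mul_one, mul_inv_cancel, one_mul, ← X.vv_zero] at this
    exact (X.vv_inj this).symm
  obtain ⟨y, hy⟩ := qa_dual (fun j => l (qaB j)) l0 l0
  have h1 := h0.mulW (X.ww_mem y)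
  have c1 : ∀ j, j < 8 → Commute (X.ww y * X.t) (X.ww (qaB j)) := fun j hj => by
    refine mul_inv_eq_iff_eq_mul.1 ?_
    calc _ = X.ww y * (X.t * X.ww (qaB j) * X.t⁻¹) * (X.ww y)⁻¹ := by group
      _ = _ := by
        rw [hl, (qa_tab j).1, cj_mul, X.ww_conj, X.cj_vv' (X.W_le_CV (X.ww_mem y)), hy j hj,
          mul_assoc, X.vv_sq, mul_one]
  generalize X.ww y * X.t = t at h1 c1
  obtain ⟨o, ho, y, hy, e⟩ := h1.split h1
  obtain ⟨n, hn⟩ := X.O_odd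
  have oW := X.O_W (pow_mem ho n)
  have oO : o ∈ 𝐂(X.O) := by
    rw [← mul_inv_eq_iff_eq_mul] at e
    exact e ▸ mul_mem (mul_mem h1.o h1.o) (inv_mem (X.W_O hy))
  have h2 := h1.mul (pow_mem oO n) (X.O_le_M (pow_mem ho n)).2 (X.ac_of_cent oW)
  have c2 : ∀ j, j < 8 → Commute (o ^ n * t) (X.ww (qaB j)) := fun j hj =>
    Commute.mul_left (oW _ (X.ww_mem _)).symm (c1 j hj)
  have e2 : o ^ n * t * (o ^ n * t) = y := by
    have := pow_card_one ho
    rw [hn, pow_succ, two_mul, pow_add] at this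
    rw [mul_assoc, ← mul_assoc t, ← h1.o _ (pow_mem ho n), mul_assoc, e, ← mul_assoc, ← mul_assoc,
      this, one_mul]
  generalize o ^ n * t = t at h2 c2 e2
  obtain ⟨x, s, rfl⟩ := (X.mem_W y).1 hy
  obtain rfl : x = 0 := qa_nd fun j hj => (X.wv_comm_iff (s := s) (t := 0)).1 (by
    rw [X.vv_zero, mul_one, ← e2]
    exact (c2 j hj).mul_left (c2 j hj))
  rw [X.ww_zero, one_mul] at e2
  have e3 : s * s = s := X.vv_inj (by rw [← h2.v, ← e2]; group)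
  have e4 : ∀ s : F4, s * s = s → s = 0 ∨ w + w * w + s = 0 := by decide
  rcases e4 s e3 with rfl | e5
  · exact ⟨t, h2, e2.trans X.vv_zero, c2⟩
  refine ⟨_, h2.mulW (X.V_le_W (X.vv_mem w)), ?_, fun j hj =>
    Commute.mul_left (X.w_v _ _).symm (c2 j hj)⟩
  rw [← X.vv_zero, ← e5, ← X.vv_add, ← X.vv_add, ← h2.v, ← e2]
  group

theorem ff (X : Ft G) : ∃ Y : Ff G, Y.toFt = X := by
  classical
  obtain ⟨t, ht, t2, tc⟩ := X.qa_t
  have ti : t⁻¹ = t := inv_eq_of_mul_eq_one_right t2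
  obtain ⟨C, CW, VC, cC, mC⟩ :=
    X.exists_pre ((AddMonoidHom.mk' bar qa_bar_add).eqLocus (AddMonoidHom.id V6))
  replace mC : ∀ x s, X.ww x * X.vv s ∈ C ↔ bar x = x := mC
  replace cC : Nat.card C = 4 * 64 := cC.trans (congrArg _ card_rat)
  have nC : ∀ {g : G} {f : V6 → V6}, g ∈ 𝐍(X.V) → X.Ac g f → (∀ x, bar x = x → bar (f x) = f x) →
      ∀ c ∈ C, g * c * g⁻¹ ∈ C := fun hg a h c hc => by
    obtain ⟨x, s, rfl⟩ := (X.mem_W c).1 (CW hc)
    obtain ⟨u, e⟩ := X.ac_wv hg a x s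
    exact e ▸ (mC _ _).2 (h x ((mC _ _).1 hc))
  have tC : ∀ c ∈ C, t * c * t⁻¹ ∈ C := nC ht.nv ht.ac fun x hx => congrArg bar hx
  let Q : Subgroup G :=
    { carrier := {g | g ∈ C ∨ g * t ∈ C}
      one_mem' := Or.inl (one_mem _)
      mul_mem' := by
        rintro a b (ha | ha) (hb | hb)
        · exact Or.inl (mul_mem ha hb)
        · exact Or.inr (mul_assoc a b t ▸ mul_mem ha hb)
        · refine Or.inr ?_
          convert mul_mem ha (tC b hb) using 1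
          rw [mul_assoc a t, ← mul_assoc t, ← mul_assoc t, t2, ti]
          group
        · refine Or.inl ?_
          convert mul_mem ha (tC _ hb) using 1
          rw [mul_assoc a t, ← mul_assoc t, ← mul_assoc t, t2]
          group
      inv_mem' := by
        rintro a (ha | ha)
        · exact Or.inl (inv_mem ha)
        · refine Or.inr ?_
          convert tC _ (inv_mem ha) using 1
          conv_lhs => rw [← ti]
          group }
  have CQ : C ≤ Q := fun _ h => Or.inl h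
  have tQ : t ∈ Q := Or.inr (t2 ▸ one_mem _)
  have ind : ∀ {H : Subgroup G}, C ≤ H → t ∈ H → Q ≤ H := by
    rintro H h1 h2 g (hg | hg)
    exacts [h1 hg, (H.mul_mem_cancel_right h2).1 (h1 hg)]
  have cQ : Nat.card Q ≤ 512 := by
    have := wc_card_le (P := Q) (C := C) (fun g => decide (g.1 ∈ C)) fun g k e => by
      rw [decide_eq_decide] at e
      by_cases h : g.1 ∈ C
      · exact mul_mem (inv_mem h) (e.1 h)
      · convert tC _ (mul_mem (inv_mem (g.2.resolve_left h)) (k.2.resolve_left (mt e.2 h))) using 1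
        group
    rwa [cC, Nat.card_eq_fintype_card (α := Bool)] at this
  have Q0 : ∀ g ∈ Q, g * X.vv w = X.vv w * g → ∃ x s, bar x = x ∧ g = X.ww x * X.vv s := by
    rintro g (hg | hg) e
    · obtain ⟨x, s, rfl⟩ := (X.mem_W g).1 (CW hg)
      exact ⟨x, s, (mC _ _).1 hg, rfl⟩
    · have := X.mem_CV.1 (X.W_le_CV (CW hg)) w
      rw [← mul_assoc, ← e, mul_assoc, mul_assoc, mul_right_inj, ← mul_inv_eq_iff_eq_mul,
        ht.v] at this
      exact absurd (X.vv_inj this) (by decide)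
  have QO : Q ≤ 𝐂(X.O) := ind (CW.trans X.W_O) ht.o
  have zp : ∀ {s : F4} {n : ℕ}, (s = 0 ∧ n = 0) ∨ (s = 1 ∧ n = 1) → X.vv s = H95.zp X.z n := by
    rintro _ _ (⟨rfl, rfl⟩ | ⟨rfl, rfl⟩)
    exacts [X.vv_zero, rfl]
  have tv : ∀ s, t * X.vv s = X.vv (s * s) * t := fun s => mul_inv_eq_iff_eq_mul.1 (ht.v s)
  have qQ : ∀ j s, X.ww (qaB j) * X.vv s ∈ Q := fun j s => CQ ((mC _ _).2 (qa_tab j).1)
  have r5 : ∀ j, j < 8 → j ≠ 5 → t * (X.ww (qaB j) * X.vv (qaC j)) =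
      X.ww (qaB j) * X.vv (qaC j) * t * H95.zp X.z (bb (2 ^ 5) (2 ^ j)) := fun j hj h => by
    have : ∀ c : F4, c + (c * c + c) * (c * c + c) = c * c := by decide
    rw [← zp (qa_tab1 j hj h), ← mul_assoc, tc j hj, mul_assoc, mul_assoc, mul_assoc, tv, tv,
      ← mul_assoc (X.vv _), X.vv_add, this]
  obtain ⟨π, cd, hπ⟩ := qa_cd (Q := Q) (z := X.z)
    (fun j => if j = 5 then t else X.ww (qaB j) * X.vv (qaC j)) X.z_sq X.z_ne
    (CQ (VC (X.vv_mem 1))) (fun j => by split_ifs; exacts [tQ, qQ _ _]) cQ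
    (fun j _ => by
      split_ifs
      · exact t2
      · rw [X.wv_mul', X.w_sq, (qa_tab j).2, f4_self, X.vv_zero, mul_one])
    (fun x hx => mem_centralizer_singleton_iff.1 (ind (fun c hc => mem_centralizer_singleton_iff.2
      (X.mem_CV.1 (X.W_le_CV (CW hc)) 1)) (mem_centralizer_singleton_iff.2 (tv 1)) hx))
    (fun i hi j hj => by
      split_ifs with h h' h'
      · rw [h, h', show bb (2 ^ 5) (2 ^ 5) = 0 by decide +kernel, Nat.cast_zero, H95.zp_zero, mul_one]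
      · exact h ▸ r5 j hj h'
      · rw [h', qa_tab2 i hi, r5 i hi h, mul_assoc _ _ (H95.zp _ _), ← H95.zp_add X.z_sq,
          CharTwo.add_self_eq_zero, H95.zp_zero, mul_one]
      · rw [X.wv_comm, zp (qa_tab3 i hi h j hj h')])
    (fun g hg h => by
      obtain ⟨x, s, -, rfl⟩ := Q0 g hg (h _ (CQ (VC (X.vv_mem w)))).symm
      obtain rfl : x = 0 := qa_nd fun j _ => X.wv_comm_iff.1 (h _ (qQ j 0)).symm
      have := h t tQ
      rw [X.ww_zero, one_mul] at this ⊢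
      rw [tv, mul_left_inj] at this
      have e4 : ∀ s : F4, s * s = s → s = 0 ∨ s = 1 := by decide
      rcases e4 s (X.vv_inj this) with rfl | rfl
      exacts [Or.inl X.vv_zero, Or.inr rfl])
  refine ⟨⟨X, Q, π, cd, ?_, fun x s h => CQ ((mC x s).2 h), Q0, QO, fun m hm => ?_⟩, rfl⟩
  · have := hπ 1 (by decide)
    rwa [if_neg (by decide), show qaB 1 = 0 from rfl, X.ww_zero, one_mul] at this
  obtain ⟨o, ho, k, hk, kO, rfl⟩ := X.M_split hm
  refine mul_mem (centralizer_le_normalizer _ fun g hg => (QO hg o ho).symm)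
    (mem_normalizer_fintype fun g hg => ?_)
  obtain ⟨σ, -, a⟩ := X.M_ac k hk
  have kC := nC (X.M_NV hk) a fun x hx => by rw [bar_act, hx]
  refine hg.imp (kC g) fun hg => ?_
  obtain ⟨o, ho, y, hy, e⟩ := (ht.cj hk kO).split ht
  have e1 : t * (o * y) * t⁻¹ = (o * y)⁻¹ := by
    rw [← e, mul_inv_rev, mul_inv_rev, mul_inv_rev, ti, inv_inv, mul_assoc, mul_assoc _ t, t2]
    group
  obtain rfl : o = 1 := by
    have h1 := wc_conj (X.ac_norm ht.nv ht.ac) hy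
    have h2 : o * o ∈ X.W := by
      rw [← mul_assoc, ← ht.o o ho, eq_inv_iff_mul_eq_one, mul_assoc o, mul_assoc o, mul_assoc o,
        ← mul_assoc _ o, X.O_W ho _ h1, ← mul_assoc, ← mul_assoc, mul_assoc, mul_eq_one_iff_eq_inv] at e1
      exact e1 ▸ inv_mem (mul_mem h1 hy)
    exact eq_one_of_odd X.O_odd ho (j := 3) (by rw [← X.pow_four h2, ← sq, ← pow_mul]; rfl)
  rw [one_mul] at e e1
  obtain ⟨x, s, rfl⟩ := (X.mem_W y).1 hy
  obtain ⟨u, e2⟩ := X.ac_wv ht.nv ht.ac x s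
  obtain ⟨u', e3⟩ := X.wv_inv x s
  rw [e2, e3] at e1
  convert mul_mem (kC _ hg) ((mC x s).2 (X.w_inj _ _ _ _ e1).1) using 1
  calc _ = k * g * (t * t) * k⁻¹ * t := by rw [t2, mul_one]
    _ = _ := by rw [← e]; group

end Ft

end H79.AS
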