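import Cfsg.Agent.Lib.ASG.QB

/-! `N(Q) / O Q ≅ Ω₈⁺(2)`. -/

set_option autoImplicit false

namespace H79.AS

open H30 H30.F4 H69 Subgroup Cfsg Equiv
open H16.P8
open H96.E8 (O8)

variable {G : Type*} [Group G] [Finite G]

namespace Ff

variable (X : Ff G)

theorem qc_vv (s : F4) : X.vv s ∈ X.Q := by
  simpa [X.ww_zero] using X.Q_W 0 s (by decide)

theorem qc_nv {g : G} (hz : g * X.z = X.z * g)
    (h : g * X.vv w * g⁻¹ = X.vv w ∨ g * X.vv w * g⁻¹ = X.vv w * X.z) : g ∈ 𝐍(X.Q) := by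
  obtain ⟨m, hm, q, hq, rfl⟩ := X.nv hz h
  exact mul_mem (X.M_Q hm) (le_normalizer hq)

theorem qc_cent {g : G} (h : g ∈ 𝐂(X.Q)) : Act X.Q X.z X.π g 1 :=
  ⟨(h _ X.cd.mem).symm, fun x hx => by rw [conj_eq_of_mem_centralizer h hx, one_smul]⟩

theorem qc_O : X.O ≤ 𝐂(X.Q) := le_centralizer_iff.1 X.Q_O

theorem qc_perp {u : V8} (h : qf u = 0) (h0 : u ≠ 0) (h1 : bf u v1 = 0) :
    ∃ g ∈ 𝐍(X.Q), X.π (g * X.vv w * g⁻¹) = u := by
  obtain ⟨x, hx, rfl⟩ := X.cd.surj u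
  obtain ⟨a, s, ha, rfl⟩ := X.Q_0 x hx ((X.cd.commute_iff hx (X.qc_vv w)).2 (X.π_v ▸ h1))
  have h2 := (X.cd.sq_iff hx).2 h
  rw [X.wv_mul', f4_self, X.vv_zero, mul_one, X.w_sq, ← X.vv_zero] at h2
  by_cases a0 : a = 0
  · subst a0
    rw [X.ww_zero, one_mul] at h0 ⊢
    refine ⟨1, one_mem _, ?_⟩
    rw [one_mul, inv_one, mul_one, X.cd.eq_or (X.qc_vv w) (X.qc_vv s), X.z_eq, X.vv_add]
    rcases (by decide : ∀ s : F4, s = 0 ∨ s = 1 ∨ s = w ∨ s = w + 1) s with rfl | rfl | rfl | rfl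
    · exact (h0 (X.vv_zero ▸ X.cd.π_one)).elim
    · exact (h0 X.cd.π_z).elim
    · exact .inl rfl
    · exact .inr rfl
  obtain ⟨σ, hσ, e⟩ := rat_trans ha (X.vv_inj h2) a0
  obtain ⟨m, hm, -, am⟩ := X.M_ex σ hσ
  obtain ⟨t, ht⟩ := X.ac_wv (X.M_NV hm) am (e5 1) w
  obtain ⟨b, hb⟩ : ∃ b, b6 b a ≠ 0 := by
    by_contra! k
    exact a0 (b6_nondeg fun y => (b6_comm _ _).trans (k y))
  refine ⟨X.ww (((s + t) * (b6 b a)⁻¹) • b) * m * X.y, mul_mem (mul_mem (X.M_Q (X.W_le_M (X.ww_mem _)))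
    (X.M_Q hm)) X.y_mem, congrArg _ ?_⟩
  rw [show ∀ a b c d : G, a * b * c * d * (a * b * c)⁻¹ = a * (b * (c * d * c⁻¹) * b⁻¹) * a⁻¹ from
    fun _ _ _ _ => by group, X.y_v, ← X.ww_e5, ht, e, cj_mul, X.ww_conj,
    X.cj_vv' (X.W_le_CV (X.ww_mem _)), b6_smul_left, inv_mul_cancel_right₀ hb, mul_assoc, X.vv_add,
    add_assoc, f4_self, add_zero]

theorem qc_trans {u : V8} (h : qf u = 0) (h0 : u ≠ 0) :
    ∃ g ∈ 𝐍(X.Q), X.π (g * X.vv w * g⁻¹) = u := by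
  obtain ⟨s, a1, a2, a3, -, a4⟩ := exists_perp u
  obtain ⟨g, hg, e⟩ := X.qc_perp a1 a3 a2
  obtain ⟨σ, hσ⟩ := X.cd.exists_act hg
  rw [hσ.2 _ (X.qc_vv w), X.π_v] at e
  obtain ⟨k, hk, e'⟩ := X.qc_perp (u := σ⁻¹ • u) ((qf_O8 _ _).trans h) ((smul_ne_zero_iff_ne _).2 h0)
    (by rw [← bf_O8 σ, smul_inv_smul, e, bf_comm, a4])
  refine ⟨g * k, mul_mem hg hk, ?_⟩
  rw [show g * k * X.vv w * (g * k)⁻¹ = g * (k * X.vv w * k⁻¹) * g⁻¹ by group,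
    hσ.2 _ (conj_mem_of_mem_normalizer hk (X.qc_vv w)), e', smul_inv_smul]

theorem qc_card {f : X.M →* O8} (hf : ∀ g : X.M, Act X.Q X.z X.π g (f g)) :
    Nat.card f.range = 1290240 := by
  have k : ∀ (o : X.O) (x : {x : V6 // bar x = x}) (s : F4), o.1 * (X.ww x * X.vv s) ∈ X.M :=
    fun o x s => mul_mem (X.O_le_M o.2) (X.W_le_M (X.wv_mem _ _))
  have h1 : Nat.card (X.O × {x : V6 // bar x = x} × F4) = Nat.card f.ker := by
    refine Nat.card_eq_of_bijective (fun p => ⟨⟨_, k p.1 p.2.1 p.2.2⟩, X.cd.act_unique (hf _) ?_⟩)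
      ⟨?_, ?_⟩
    · simpa using X.cd.act_mul (le_normalizer (X.Q_W _ p.2.2 p.2.1.2)) (X.qc_cent (X.qc_O p.1.2))
        (X.cd.act_of_mem (X.Q_W _ p.2.2 p.2.1.2))
    · rintro ⟨o, x, s⟩ ⟨o', x', s'⟩ e
      replace e : o.1 * (X.ww x * X.vv s) = o'.1 * (X.ww x' * X.vv s') := congrArg (·.1.1) e
      have h2 : o'.1⁻¹ * o.1 = X.ww x' * X.vv s' * (X.ww x * X.vv s)⁻¹ := by
        rw [inv_mul_eq_iff_eq_mul, ← mul_assoc, ← e, mul_inv_cancel_right]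
      have h3 := eq_one_of_odd X.O_odd (mul_mem (inv_mem o'.2) o.2)
        (X.pow_four (h2 ▸ mul_mem (X.wv_mem _ _) (inv_mem (X.wv_mem _ _))))
      obtain rfl : o' = o := Subtype.ext (inv_mul_eq_one.1 h3)
      obtain ⟨h4, rfl⟩ := X.w_inj _ _ _ _ (mul_left_cancel e)
      rw [Subtype.ext h4]
    · rintro ⟨g, hg⟩
      obtain ⟨o, ho, q, hq, e⟩ := X.ker (X.M_Q g.2) ((show f g = 1 from hg) ▸ hf g)
      have h2 : q ∈ X.M := by simpa [e] using mul_mem (inv_mem (X.O_le_M ho)) g.2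
      obtain ⟨x, s, hx, rfl⟩ := X.Q_0 q hq (X.mem_CV.1 h2.2 w)
      exact ⟨(⟨o, ho⟩, ⟨x, hx⟩, s), Subtype.ext (Subtype.ext e.symm)⟩
  have h2 := f.ker.card_mul_index
  rw [index_ker, ← h1, Nat.card_prod, Nat.card_prod, card_rat, natCard_eq, X.card_M] at h2
  have := Nat.card_pos (α := X.O)
  refine Nat.eq_of_mul_eq_mul_left (show 0 < Nat.card X.O * (64 * 4) by omega) (h2.trans (by ring))

theorem qc_range {ρ : 𝐍(X.Q) →* O8} (hρ : ∀ g : 𝐍(X.Q), Act X.Q X.z X.π g (ρ g)) : ρ.range = Om := by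
  have k : ∀ g : 𝐍(X.Q), X.π (g * X.vv w * g⁻¹) = ρ g • v1 := fun g => by
    rw [← X.π_v]; exact (hρ g).2 _ (X.qc_vv w)
  have h1 : MulAction.orbit ρ.range v1 = {x | qf x = 0 ∧ x ≠ 0} := by
    ext u
    constructor
    · rintro ⟨σ, rfl⟩
      exact ⟨(qf_O8 σ _).trans qf_v1, (smul_ne_zero_iff_ne σ.1).2 v1_ne⟩
    · rintro ⟨a, b⟩
      obtain ⟨g, hg, e⟩ := X.qc_trans a b
      exact ⟨⟨_, ⟨g, hg⟩, rfl⟩, (k ⟨g, hg⟩).symm.trans e⟩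
  have h2 : (MulAction.stabilizer ρ.range v1).map ρ.range.subtype =
      (ρ.comp (inclusion X.M_Q)).range := by
    ext σ
    constructor
    · rintro ⟨⟨_, g, rfl⟩, hg, rfl⟩
      obtain ⟨m, hm, q, hq, e⟩ := X.nv (X.cd.cz g.2) ((X.cd.eq_or (X.qc_vv w)
        (conj_mem_of_mem_normalizer g.2 (X.qc_vv w))).1 (X.π_v.trans ((k g).trans hg).symm))
      refine ⟨⟨m, hm⟩, X.cd.act_unique ?_ (hρ g)⟩
      have := X.cd.act_mul (le_normalizer hq) (hρ ⟨m, X.M_Q hm⟩) (X.cd.act_of_mem hq)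
      rw [mul_one, ← e] at this
      exact this
    · rintro ⟨m, rfl⟩
      exact ⟨⟨_, _, rfl⟩, (k _).symm.trans ((congrArg _ (X.cj_vv' m.2.2 w)).trans X.π_v), rfl⟩
  refine eq_Om ?_
  rw [← (MulAction.stabilizer ρ.range v1).card_mul_index, MulAction.index_stabilizer, h1,
    ← card_map_of_injective ρ.range.subtype_injective, h2,
    X.qc_card (f := ρ.comp (inclusion X.M_Q)) fun g => hρ (inclusion X.M_Q g)]
  exact congrArg (1290240 * ·) card_sing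

theorem qc_PO : 𝐍(X.Q) ≤ 𝐍(X.O) := fun g hg => mem_normalizer_of_cj_le fun _ hy => by
  obtain ⟨o, ho, rfl⟩ := mem_cj'.1 hy
  have h1 := conj_mem_of_mem_normalizer (normalizer_le_normalizer_centralizer _ hg) (X.qc_O ho)
  obtain ⟨o', ho', q, hq, e⟩ := X.ker (centralizer_le_normalizer _ h1) (X.qc_cent h1)
  have h2 := congrArg (· ^ Nat.card X.O) e
  simp only [conj_pow, pow_card_one ho, (show Commute o' q from X.Q_O hq o' ho').mul_pow,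
    pow_card_one ho', mul_one, one_mul, mul_inv_cancel] at h2
  obtain ⟨j, hj⟩ := X.cd.isP ⟨q, hq⟩
  rw [e, mem_bot.1 (mem_of_odd_pow (g := q) (congrArg Subtype.val hj) X.O_odd (mem_bot.2 h2.symm)), mul_one]
  exact ho'

theorem qc_x7 : X.x 7 1 ∈ 𝐍(X.Q) ∧ ¬ Act X.Q X.z X.π (X.x 7 1) 1 := by
  have h1 := X.M_Q (X.L_le_M (X.x7_mem 1))
  refine ⟨h1, fun a => ?_⟩
  have h2 := X.Q_W ![0, 0, 1, 0, 0, 0] 0 (by decide)
  obtain ⟨t, e⟩ := X.ac_wv (X.M_NV (X.L_le_M (X.x7_mem 1))) (X.xa_ac 1) ![0, 0, 1, 0, 0, 0] 0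
  have h3 := (X.cd.eq_or h2 (conj_mem_of_mem_normalizer h1 h2)).1 ((a.2 _ h2).trans (one_smul _ _)).symm
  rw [e, mul_assoc, X.z_eq, X.vv_add] at h3
  exact absurd (h3.elim (fun e => (X.w_inj _ _ _ _ e).1) fun e => (X.w_inj _ _ _ _ e).1) (by decide)

end Ff

theorem Ff.fg (X : Ff G) : Fg X.z X.Q X.O X.π := by
  obtain ⟨ρ, hρ⟩ := X.cd.exists_hom
  have h1 := X.qc_range hρ
  refine ⟨X.cd, fun g hg => ⟨_, h1 ▸ ⟨⟨g, hg⟩, rfl⟩, hρ ⟨g, hg⟩⟩, fun σ hσ => ?_, fun g => X.ker, X.O_odd,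
    X.Q_O, X.qc_PO, fun g hg ⟨j, hj⟩ => ?_, fun x hx h2 h3 g h4 h5 => ?_,
    ⟨X.th, centralizer_le_normalizer _ (X.A_O X.th_mem), ?_⟩, _, X.qc_x7.1, X.x_sq 7 1, X.qc_x7.2⟩
  · obtain ⟨g, rfl⟩ := h1.ge hσ
    exact ⟨g, g.2, hρ g⟩
  · let f := ρ.codRestrict Om fun g => h1.le ⟨g, rfl⟩
    have hf : Function.Surjective f := fun σ => by
      obtain ⟨g, e⟩ := h1.ge σ.2
      exact ⟨g, Subtype.ext e⟩
    have h2 : (𝐂(X.O).subgroupOf 𝐍(X.Q)).Normal :=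
      normal_subgroupOf_of_le_normalizer (X.qc_PO.trans (normalizer_le_normalizer_centralizer _))
    rcases (h2.map f hf).eq_bot_or_eq_top with e | e
    · have h3 : ρ ⟨_, X.qc_x7.1⟩ = 1 := congrArg Subtype.val
        (mem_bot.1 (e.le ⟨⟨_, X.qc_x7.1⟩, X.A_O (X.x_mem 7 1), rfl⟩))
      exact (X.qc_x7.2 (h3 ▸ hρ ⟨_, X.qc_x7.1⟩)).elim
    obtain ⟨c, hc, e'⟩ := e.ge (mem_top (f ⟨g, hg⟩))
    have h3 : ρ (⟨g, hg⟩ * c⁻¹) = 1 := by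
      rw [map_mul, map_inv, mul_inv_eq_one]; exact congrArg Subtype.val e'.symm
    obtain ⟨o, ho, q, hq, h4⟩ := X.ker (mul_mem hg (inv_mem c.2)) (h3 ▸ hρ (⟨g, hg⟩ * c⁻¹))
    have h5 : q * c ∈ 𝐂(X.O) := mul_mem (X.Q_O hq) hc
    refine mem_of_odd_pow hj X.O_odd ?_
    rw [mul_inv_eq_iff_eq_mul.1 h4, mul_assoc, (show Commute o _ from h5 o ho).mul_pow, pow_card_one ho,
      one_mul]
    exact pow_mem h5 _
  · obtain ⟨h, hh, e⟩ := X.qc_trans ((X.cd.sq_iff hx).1 h2) h3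
    have h6 : Commute h X.z := X.cd.cz hh
    have h7 : Commute g X.z := h4
    have h8 : h⁻¹ * g * h ∈ 𝐍(X.Q) := by
      refine X.qc_nv ((h6.inv_left.mul_left h7).mul_left h6) ?_
      have h9 : g * (h * X.vv w * h⁻¹) * g⁻¹ = h * X.vv w * h⁻¹ ∨
          g * (h * X.vv w * h⁻¹) * g⁻¹ = h * X.vv w * h⁻¹ * X.z := by
        rcases (X.cd.eq_or hx (conj_mem_of_mem_normalizer hh (X.qc_vv w))).1 e.symm with a | a <;> rw [a]
        · exact h5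
        · rw [cj_mul, h7.eq, mul_inv_cancel_right]
          exact h5.imp (fun b => by rw [b]) fun b => by rw [b]
      rw [show h⁻¹ * g * h * X.vv w * (h⁻¹ * g * h)⁻¹ = h⁻¹ * (g * (h * X.vv w * h⁻¹) * g⁻¹) * h by group]
      refine h9.imp (fun b => by rw [b]; group) fun b => ?_
      rw [b, mul_assoc, mul_assoc, ← h6.eq]; group
    simpa [mul_assoc] using mul_mem (mul_mem hh h8) (inv_mem hh)
  · rw [X.z_eq, X.th_vv]
    exact ⟨X.qc_vv _, fun e => absurd (X.vv_inj e) (by decide)⟩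

end H79.AS
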