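import Cfsg.Agent.Lib.ASG.SA

/-! `C(V)` normalises `W`. -/

set_option autoImplicit false

namespace H79.AS

open H30 H30.F4 H69 Subgroup Cfsg Equiv

variable {G : Type*} [Group G] [Finite G]

theorem add6_eq {x y : V6} : x + y = 0 ↔ x = y := by
  rw [← add_self6 y, add_left_inj]

theorem Fe.sc (X : Fe G) {g t : G} (hg : g ∈ 𝐂(X.V)) (ht : t ∈ X.W ^ᶜ g) (tN : t ∈ 𝐍(X.W)) :
    t ∈ X.W := by
  by_contra tW
  have : Fact (Nat.Prime 2) := ⟨Nat.prime_two⟩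
  have tM : t ∈ X.M := ⟨tN, cj_le_of_mem X.W_le_CV hg ht⟩
  obtain ⟨σ, hσ, a⟩ := X.M_ac t tM
  obtain ⟨h2, hf, -⟩ := X.claimA hg ht tW tM hσ a
  let N : V6 →+ V6 := AddMonoidHom.mk' (fun x => act σ x + x) fun x y => by rw [act_add]; abel
  have kN : ∀ x, x ∈ N.ker ↔ act σ x = x := fun x => add6_eq
  have c1 : Nat.card N.ker = 256 :=
    (Nat.card_congr (Equiv.subtypeEquivRight kN)).trans (card_fix hσ h2 fun e => hf 0 (e ▸ rfl))
  have c2 : Nat.card N.range = 16 := by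
    have := N.ker.card_mul_index
    rw [AddSubgroup.index_ker, c1, card_V6] at this
    omega
  obtain ⟨C, CW, VC, cC, mC⟩ := X.exists_pre N.ker
  set F := X.V ⊔ zpowers t with hF
  have FW : F ≤ X.W ^ᶜ g := sup_le (X.V_cj hg) (zpowers_le.2 ht)
  have nm : ∀ e ∈ 𝐂(X.V), e * t * e⁻¹ * t⁻¹ ∈ X.V → e ∈ 𝐂(X.V) ⊓ 𝐍(F) := fun e h1 h2 =>
    ⟨h1, mem_normalizer_of_cj_le (by
      rw [hF, cj_sup, cj_zpowers, cj_eq_of_mem_centralizer h1]
      refine sup_le le_sup_left (zpowers_le.2 ?_)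
      simpa only [inv_mul_cancel_right] using mul_mem_sup h2 (mem_zpowers t))⟩
  obtain ⟨T, hT, l1⟩ := exists_isSylowIn_le (isPGroup_cj X.isP_W g) (L := 𝐂(X.V) ⊓ 𝐍(F))
    fun e he => nm e (cj_le_of_mem X.W_le_CV hg he) (X.comm_cj hg he ht)
  have l2 : T ≤ X.M ^ᶜ g := dt2 (X := 𝐂(X.V)) (cj_le_of_mem inf_le_right hg)
    (hT.le.trans inf_le_left) hT.isP (cj_mem g (X.W_le_M (X.wv_mem (er 1) 0))) (fun k hk h => by
      refine mem_cj.2 (X.uf (Dv_er one_ne_zero) 0 (mul_mem (mul_mem (inv_mem hg) hk) hg) ?_)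
      convert mem_cj.1 h using 1
      group) (l1 (cj_mem g (X.wv_mem (er 1) 0)))
  obtain ⟨y, hy, l3⟩ := hT.exists_cj_le (X.isP_W.to_le CW) fun e he => nm e (X.W_le_CV (CW he)) (by
    obtain ⟨x, s, rfl⟩ := (X.mem_W e).1 (CW he)
    convert inv_mem ((X.comm_V (s := s) (X.M_NV tM) a).2 ((kN x).1 ((mC x s).1 he))) using 1
    group)
  have hk := mul_mem (inv_mem (mem_inf.1 hy).1) hg
  have CM : C ≤ X.M ^ᶜ (y⁻¹ * g) := cj_cj X.M g y⁻¹ ▸ cj_le_iff.1 (l3.trans l2)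
  have tk : t ∈ X.W ^ᶜ (y⁻¹ * g) := cj_cj X.W g y⁻¹ ▸ mem_cj.2 (by
    rw [inv_inv]; exact FW (conj_mem_of_mem_normalizer hy.2 (mem_sup_right (mem_zpowers t))))
  generalize y⁻¹ * g = k at hk CM tk
  obtain ⟨-, -, h3⟩ := X.claimA hk tk tW tM hσ a
  obtain ⟨S, cS, mS⟩ := X.exists_im (C := X.W ⊓ X.W ^ᶜ k) inf_le_left (le_inf X.V_le_W (X.V_cj hk))
  have SN : S ≤ N.ker := fun x hx =>
    (kN x).2 ((X.comm_V (X.M_NV tM) a).1 (X.comm_cj hk tk ((mS x 0).2 hx).2))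
  have b1 : Nat.card S * 16 ≤ 256 := by
    rw [← c1, ← c2, ← Nat.card_prod]
    refine Nat.card_le_card_of_injective (fun p => ⟨p.1 + p.2, add_mem (SN p.1.2) (by
      obtain ⟨x, e⟩ := p.2.2
      rw [← e, kN]
      exact show act σ (act σ x + x) = act σ x + x by
        rw [act_add, ← act_mul, h2, act_one, add_comm])⟩) fun p q e => ?_
    have e : (p.1 + p.2 : V6) = q.1 + q.2 := congrArg Subtype.val e
    obtain ⟨x, k⟩ := add_mem p.2.2 q.2.2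
    have e1 : (p.1 + q.1 : V6) = p.2 + q.2 := by
      rw [← add6_eq, add_add_add_comm, e, add_self6]
    have := add6_eq.2 (h3 x (by
      have := ((mS _ 0).2 (add_mem p.1.2 q.1.2)).2
      rwa [X.vv_zero, mul_one, e1, ← k] at this))
    have e2 : (p.2 + q.2 : V6) = 0 := k ▸ this
    exact Prod.ext (Subtype.ext (add6_eq.1 (e1.trans e2))) (Subtype.ext (add6_eq.1 e2))
  obtain ⟨ρ, hρ⟩ := X.exists_hom
  let f : C →* Perm (Fin 8) := ρ.comp (((MulAut.conj k⁻¹).toMonoidHom.comp C.subtype).codRestrict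
    X.M fun c => by simpa using mem_cj.1 (CM c.2))
  have hf : ∀ c : C, Ev (f c) ∧ X.Ac (k⁻¹ * c * k⁻¹⁻¹) (act (f c)) := fun c => hρ _
  have fM : ∀ c : C, k⁻¹ * c * k⁻¹⁻¹ ∈ X.M := fun c => by simpa using mem_cj.1 (CM c.2)
  have b2 : Nat.card f.range ≤ 8 := card_semireg (by
    rintro _ ⟨c, rfl⟩ e
    exact (X.claimA (inv_mem hk) (cj_mem _ (CW c.2)) (fun h => e (X.ac_act_uniq (hf c).2
      (X.ac_act_one.2 (X.ac_W h)))) (fM c) (hf c).1 (hf c).2).2.1)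
  have b3 : Nat.card f.ker ≤ Nat.card (X.W ⊓ X.W ^ᶜ k : Subgroup G) :=
    Nat.card_le_card_of_injective (fun c => ⟨c.1, CW c.1.2, mem_cj.2 (by
      have a := (hf c).2
      rw [show f c = 1 from c.2, X.ac_act_one] at a
      simpa using X.two_ker (fM c) a (j := 2) (by
        rw [conj_pow, X.pow_four (CW c.1.2), mul_one, mul_inv_cancel]))⟩)
      fun p q e => Subtype.ext (Subtype.ext (Subtype.mk.inj e))
  have := f.ker.card_mul_index
  rw [index_ker, cC, c1] at this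
  have := Nat.mul_le_mul b3 b2
  omega

theorem Fe.cv (X : Fe G) : 𝐂(X.V) ≤ 𝐍(X.W) := by
  have rV : ∀ a ≠ 0, X.r a ∉ X.V := fun a ha h =>
    X.r_ne a ha (X.ak (X.V_le_A h) (X.r_K a))
  have ac : ∀ m ∈ X.M, (∀ e ∈ X.W, m * e * m⁻¹ * e⁻¹ ∈ X.V) → X.Ac m id := fun m hm h => by
    obtain ⟨f, a⟩ := X.exists_ac hm.1
    rwa [show f = id from funext fun x => (X.comm_V (X.M_NV hm) a).1 (h _ (X.wv_mem x 0))] at a
  refine ge X.V_le_W X.W_le_CV le_rfl X.isP_W (fun _ => X.sq_mem)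
    (fun g hg e he h => X.sc hg (cj_mem g he) h) (fun J h1 h2 h3 => ?_)
    (fun m hm ⟨_, h⟩ k => X.two_ker ⟨hm.2, hm.1⟩ (ac m ⟨hm.2, hm.1⟩ k) h)
    (X.ww_er 1 ▸ X.ww_mem _) (X.ww_er w ▸ X.ww_mem _) (rV 1 one_ne_zero) (rV w (by decide))
    (X.r_add 1 w ▸ rV _ (by decide)) fun e he g hg h => ?_
  · obtain ⟨ρ, hρ⟩ := X.exists_hom
    have JM : J ≤ X.M := fun j hj => ⟨(h2 hj).2, (h2 hj).1⟩
    rcases simple8 (H := (J.subgroupOf X.M).map ρ) (by rintro _ ⟨j, -, rfl⟩; exact (hρ j).1) (by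
      rintro τ hτ _ ⟨j, hj, rfl⟩
      obtain ⟨m, hm, -, a⟩ := X.M_ex τ hτ
      rw [X.ac_act_uniq a (hρ ⟨m, hm⟩).2, ← map_inv, ← map_mul, ← map_mul]
      exact mem_map_of_mem ρ (conj_mem_of_mem_normalizer (A := J) (h3 ⟨hm.2, hm.1⟩) hj)) with e | e
    · refine Or.inl fun j hj y hy => ?_
      obtain ⟨x, s, rfl⟩ := (X.mem_W y).1 hy
      have a := (hρ ⟨j, JM hj⟩).2
      have k := mem_map_of_mem ρ (show (⟨j, JM hj⟩ : X.M) ∈ J.subgroupOf X.M from hj)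
      rw [e, mem_bot] at k
      rw [k] at a
      exact (X.comm_V (X.M_NV (JM hj)) a).2 (act_one x)
    · obtain ⟨j, hj, k⟩ := e (swap 3 4 * swap 5 6) (by simp [Ev])
      have xM := X.L_le_M (X.x7_mem 1)
      have a := X.ac_act_mul (X.M_NV j.2) (hρ j).2 (act_xa1 ▸ X.xa_ac 1)
      rw [k, show swap 3 4 * swap 5 6 * (swap 3 4 * swap 5 6) = (1 : Perm (Fin 8)) by decide,
        X.ac_act_one] at a
      obtain ⟨o, ho, y, hy, e⟩ := X.M_ker _ (mul_mem j.2 xM) a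
      have oJ : o * X.x 7 1 ∈ J := by
        have := mul_mem (inv_mem (h1 hy)) hj
        rwa [coe_subtype, eq_mul_inv_of_mul_eq e, X.x_inv, X.W_O hy o ho, mul_assoc,
          inv_mul_cancel_left] at this
      refine Or.inr ⟨X.x 7 1, mem_of_odd_pow (j := 1) ((sq _).trans (X.x_sq 7 1)) X.O_odd ?_,
        X.x_sq 7 1 ▸ one_mem _, _, X.wv_mem ![0, 0, 1, 0, 0, 0] 0, fun h => ?_⟩
      · have := pow_mem oJ (Nat.card X.O)
        rwa [(show Commute o _ from X.A_O (X.x_mem 7 1) o ho).mul_pow, pow_card_one ho, one_mul] at this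
      · exact absurd ((X.comm_V (X.M_NV xM) (X.xa_ac 1)).1 h) (by decide)
  · obtain ⟨a, ha, rfl⟩ : ∃ a ≠ 0, e = X.r a := by
      rcases he with rfl | rfl | rfl
      exacts [⟨1, one_ne_zero, rfl⟩, ⟨w, by decide, rfl⟩, ⟨1 + w, by decide, (X.r_add 1 w).symm⟩]
    obtain ⟨s, k⟩ := X.mem_V.1 h
    exact (X.M_D _ (Dv_er ha) g hg ⟨s, by
      rw [X.ww_er, mul_inv_eq_iff_eq_mul.1 k, X.r_A a (X.vv_A s)]⟩).1

end H79.AS
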