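import Cfsg.Agent.Lib.ASG.Bas2
import Cfsg.Agent.Lib.ASG.Orb

/-! The elements `t` and `y`. -/

set_option autoImplicit false

namespace H79.AS

open H30 H30.F4 H69 Subgroup Cfsg Equiv

variable {G : Type*} [Group G] [Finite G]

namespace Fe

variable (X : Fe G)

section
omit [Finite G]

theorem ta_q {g : G} {f : V6 → V6} (a : X.Ac g f) (x : V6) :
    X.vv (q6 (f x)) = g * X.vv (q6 x) * g⁻¹ := by
  obtain ⟨b, e1⟩ := a x
  rw [← X.w_sq x, cj_mul, e1, X.wv_mul', f4_self, X.vv_zero, mul_one, X.w_sq]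

theorem ta_A5 {c : G} (hc : c ∈ 𝐂(X.V)) (h : ∃ s, c * X.r 1 * c⁻¹ = X.r 1 * X.vv s) :
    X.Ac (c ^ 30) id := by
  obtain ⟨o, ho, y, hy, l, hl, -, e⟩ := X.NR 1 one_ne_zero c hc h
  obtain ⟨σ, hσ, a⟩ := X.L_ac l hl
  have := X.ac_act_pow (centralizer_le_normalizer _ hc) (σ := σ) (e ▸ X.ac_mul (X.M_NV (mul_mem
    (X.O_le_M ho) (X.W_le_M hy))) (X.ac_mul (X.M_NV (X.O_le_M ho)) (X.ac_of_cent (X.O_W ho))
    (X.ac_W hy)) a) 30
  rwa [hσ.pow, X.ac_act_one] at this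

theorem ta_p0 (a : F4) :
    X.x 7 1 * X.ww (a • p0) * (X.x 7 1)⁻¹ = X.ww (a • p0) * X.vv (a * a) := by
  have c : X.x 10 a * X.x 9 a = X.x 9 a * X.x 10 a := by
    simpa [X.qa_10, X.qa_9, b4, X.vv_zero] using X.qa_comm ![0, 0, 0, 0, 0, a] ![0, 0, 0, 0, a, 0]
  have e : X.ww (a • p0) = X.r a * X.p a * (X.x 8 a * X.x 9 a) := by simp [Fb.ww, Rt.qa, p0, X.x_zero]
  rw [e, cj_mul, cj_mul, cj_mul, X.a8, X.a9, X.r_A a (X.x_mem 7 1), X.p_B a _ (X.L_le_B (X.x7_mem 1)),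
    mul_inv_cancel_right, mul_inv_cancel_right, one_mul, one_mul, mul_assoc (X.x 8 a * X.x 10 a),
    ← show _ = X.x 11 (a * a) * (X.x 9 a * X.x 10 a) from
      ((X.x_v (by decide) a _).mul_left (X.x_v (by decide) a _)).eq,
    ← c, show X.x 8 a * X.x 10 a * (X.x 10 a * X.x 9 a * X.vv (a * a)) =
      X.x 8 a * (X.x 10 a * X.x 10 a) * X.x 9 a * X.vv (a * a) by group, X.x_sq]
  group

theorem ta_u : ∃ u ∈ 𝐂(X.O), ∀ a s, u * (X.x 10 a * X.vv s) * u⁻¹ = X.x 10 a * X.vv (s + a * a) := by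
  obtain ⟨m, hm, mO, k⟩ := X.M_ex (swap 0 5 * swap 6 7) (by simp [Ev])
  refine ⟨m * X.x 7 1 * m⁻¹, mul_mem (mul_mem mO (X.A_O (X.x_mem 7 1))) (inv_mem mO), fun a s => ?_⟩
  obtain ⟨t, e⟩ := k (a • p0)
  rw [show act (swap 0 5 * swap 6 7) (a • p0) = e5 a by clear e; revert a; decide, X.ww_e5,
    ← mul_inv_eq_iff_eq_mul, X.vv_inv] at e
  have h7 := X.B_le_CV (X.L_le_B (X.x7_mem 1))
  rw [cj_mul, X.cj_vv' (mul_mem (mul_mem hm.2 h7) (inv_mem hm.2)), ← e, cj_mul,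
    X.cj_vv' (mul_mem (mul_mem hm.2 h7) (inv_mem hm.2)), show m * X.x 7 1 * m⁻¹ * (m * X.ww (a • p0) * m⁻¹) *
      (m * X.x 7 1 * m⁻¹)⁻¹ = m * (X.x 7 1 * X.ww (a • p0) * (X.x 7 1)⁻¹) * m⁻¹ by group, X.ta_p0,
    cj_mul m (X.ww _), X.cj_vv' hm.2]
  simp only [mul_assoc, X.vv_add]
  congr 4; ring

theorem ta_nb (a s : F4) : X.nb * (X.x 10 a * X.vv s) * X.nb⁻¹ = X.x 10 s * X.vv a := by
  rw [cj_mul, X.nb_x, show X.nb * X.vv s * X.nb⁻¹ = X.x 10 s from X.nb_x 11 s]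
  exact (X.x_v (by decide) s a).eq.symm

theorem ta_x6 (a s : F4) :
    X.x 6 1 * (X.x 10 a * X.vv s) * (X.x 6 1)⁻¹ = X.x 10 a * X.vv (s + a) := by
  have := X.qa_conj ![0, 0, 1, 0, 0, 0] ![0, 0, 0, 0, 0, a]
  rw [X.qa_6, X.qa_10] at this
  rw [cj_mul, this, X.cj_vv' (X.B_le_CV (X.x_B (by decide) 1)), mul_assoc, X.vv_add, add_comm]
  simp [b4]

end

theorem ta_NV {t : G} (tv : ∀ s, t * X.vv s * t⁻¹ = X.vv (s * s)) : t ∈ 𝐍(X.V) :=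
  mem_normalizer_of_cj_le fun y hy => by
    obtain ⟨y, hy', rfl⟩ := mem_cj'.1 hy
    obtain ⟨s, rfl⟩ := X.mem_V.1 hy'
    exact tv s ▸ X.vv_mem _

theorem ta_NW (h : 𝐂(X.V) ≤ 𝐍(X.W)) {t : G} (ht : t ∈ 𝐍(X.V)) : t ∈ 𝐍(X.W) := by
  have tC := normalizer_le_normalizer_centralizer _ ht
  have hM : ∀ g ∈ 𝐂(X.V), g ∈ X.M := fun g hg => ⟨h hg, hg⟩
  have JM : X.W ^ᶜ t ≤ X.M := fun g hg => hM g (cj_le_of_mem_normalizer X.W_le_CV tC hg)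
  have j4 : ∀ j ∈ X.W ^ᶜ t, j ^ 2 ^ 2 = 1 := fun j hj => by
    obtain ⟨y, hy, rfl⟩ := mem_cj'.1 hj
    rw [conj_pow, X.pow_four hy, mul_one, mul_inv_cancel]
  obtain ⟨ρ, hρ⟩ := X.exists_hom
  rcases simple8 (H := ((X.W ^ᶜ t).subgroupOf X.M).map ρ) (by rintro _ ⟨j, -, rfl⟩; exact (hρ j).1) (by
    rintro τ hτ _ ⟨j, hj, rfl⟩
    obtain ⟨m, hm, -, a⟩ := X.M_ex τ hτ
    rw [X.ac_act_uniq a (hρ ⟨m, hm⟩).2, ← map_inv, ← map_mul, ← map_mul]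
    refine mem_map_of_mem ρ (mem_cj.2 ?_)
    convert conj_mem_of_mem_normalizer (h (conj_mem_of_mem_normalizer' tC hm.2)) (mem_cj.1 hj) using 1
    simp only [coe_subtype, coe_mul, coe_inv]
    group) with e | e
  · refine mem_normalizer_of_cj_le fun j hj => ?_
    have a := (hρ ⟨j, JM hj⟩).2
    have k := mem_map_of_mem ρ (show (⟨j, JM hj⟩ : X.M) ∈ (X.W ^ᶜ t).subgroupOf X.M from hj)
    rw [e, mem_bot] at k
    rw [k, X.ac_act_one] at a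
    exact X.two_ker (JM hj) a (j4 j hj)
  · obtain ⟨j, hj, k⟩ := e (swap 0 1 * swap 1 2) (by simp [Ev])
    have := congrArg (· ^ 2 ^ 2) k
    simp only [← map_pow, show j ^ 2 ^ 2 = 1 from Subtype.ext (j4 j hj), map_one] at this
    exact absurd this (by decide)

theorem ta_r (h : 𝐂(X.V) ≤ 𝐍(X.W)) {t : G} (ht : t ∈ 𝐍(X.V)) :
    ∃ m ∈ X.M, m ∈ 𝐂(X.O) ∧ m * t * X.r 1 = X.r 1 * (m * t) := by
  obtain ⟨f, a⟩ := X.exists_ac (X.ta_NW h ht)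
  have fb := X.ac_bij ht a
  have a' := X.ac_inv ht a (Function.surjInv_eq fb.2)
  rcases sing_cases (x := f (er 1)) (X.vv_inj (by
      rw [X.ta_q a, show q6 (er 1) = 0 by decide, X.vv_zero, mul_one, mul_inv_cancel])) (fun e =>
      absurd (fb.1 (e.trans (show f 0 = 0 by simpa using X.ac_add ht a 0 0).symm)) (by decide)) with
    ⟨σ, hσ, e⟩ | ⟨τ, hτ, e, n⟩
  · obtain ⟨m, hm, mO, b⟩ := X.M_ex σ hσ
    obtain ⟨s, k⟩ := X.ac_mul (X.M_NV (inv_mem hm)) (X.ac_act_inv (X.M_NV hm) b) a (er 1)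
    rw [Function.comp, e, ← act_mul, inv_mul_cancel, act_one, X.ww_er] at k
    refine ⟨X.p s * m⁻¹, mul_mem (X.W_le_M (X.ww_p s ▸ X.ww_mem _)) (inv_mem hm),
      mul_mem (X.p_O s) (inv_mem mO), mul_inv_eq_iff_eq_mul.1 ?_⟩
    rw [show X.p s * m⁻¹ * t * X.r 1 * (X.p s * m⁻¹ * t)⁻¹ =
      X.p s * (m⁻¹ * t * X.r 1 * (m⁻¹ * t)⁻¹) * (X.p s)⁻¹ by group, k, cj_mul, X.p_r,
      X.cj_vv' (centralizer_anti X.V_le_B (X.p_B s)), one_mul, mul_assoc, X.vv_sq, mul_one]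
  · obtain ⟨m, hm, -, b⟩ := X.M_ex τ hτ
    have k := X.ac_mul (inv_mem ht) a' (X.ac_mul (X.M_NV hm) b a) (er 1)
    rw [Function.comp, Function.comp, e, Function.leftInverse_surjInv fb, X.ww_er, ← mul_assoc] at k
    have := X.ac_mul ht a (X.ac_mul (pow_mem (mul_mem (mul_mem (inv_mem ht) (X.M_NV hm)) ht) 30)
      (X.ta_A5 (conj_mem_of_mem_normalizer' (normalizer_le_normalizer_centralizer _ ht) hm.2) k) a')
    rw [← mul_assoc, ← conj_pow, show t * (t⁻¹ * m * t) * t⁻¹ = m by group,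
      show f ∘ id ∘ Function.surjInv fb.2 = id from funext (Function.surjInv_eq fb.2)] at this
    exact absurd (X.ac_act_uniq (X.ac_act_pow (X.M_NV hm) b 30) (X.ac_act_one.2 this)) n

theorem ta_frob {t : G} (hN : t ∈ 𝐍(X.W)) (hp : X.Phi t) (hr : t * X.r 1 = X.r 1 * t) :
    X.Ac t frob := by
  have tv : ∀ s, t * X.vv s * t⁻¹ = X.vv (s * s) := hp 11
  have ht := X.ta_NV tv
  obtain ⟨f, a⟩ := X.exists_ac hN
  have hb : ∀ x y, b6 (f x) (f y) = b6 x y * b6 x y := fun x y =>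
    X.vv_inj ((X.ac_b' a x y).trans (tv _))
  have hs : ∀ (c : F4) x, f (c • x) = (c * c) • f x := fun c x => by
    have : f (c • x) + (c * c) • f x = 0 := b6_nondeg fun y => by
      obtain ⟨y, rfl⟩ := (X.ac_bij ht a).2 y
      rw [b6_add_left, b6_smul_left, hb, hb, b6_smul_left, mul_mul_mul_comm, f4_self]
    rw [← add_left_inj ((c * c) • f x), this, add_self6]
  have h0 : f (er 1) = er 1 := by
    obtain ⟨s, e⟩ := a (er 1)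
    rw [X.ww_er, hr, mul_inv_cancel_right, ← X.ww_er, ← mul_one (X.ww _), ← X.vv_zero] at e
    exact (X.w_inj _ _ _ _ e).1.symm
  have hq : ∀ x : V6, x 0 = 0 → x 1 = 0 → f x = frob x := fun x x0 x1 => by
    obtain ⟨s, e⟩ := a x
    rw [X.ww_qa x0 x1, hp.qa, ← X.ww_qa (by simp [frob, x0]) (by simp [frob, x1]),
      ← mul_one (X.ww _), ← X.vv_zero] at e
    exact (X.w_inj _ _ _ _ e).1.symm
  have h1 : f ![0, 1, 0, 0, 0, 0] = ![0, 1, 0, 0, 0, 0] := by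
    have q := X.vv_inj ((X.ta_q a ![0, 1, 0, 0, 0, 0]).trans (tv _))
    have k1 := hb ![0, 1, 0, 0, 0, 0] (er 1)
    have k2 := hb ![0, 1, 0, 0, 0, 0] ![0, 0, 0, 0, 0, 1]
    have k3 := hb ![0, 1, 0, 0, 0, 0] ![0, 0, 0, 0, 1, 0]
    have k4 := hb ![0, 1, 0, 0, 0, 0] ![0, 0, 0, 1, 0, 0]
    have k5 := hb ![0, 1, 0, 0, 0, 0] ![0, 0, 1, 0, 0, 0]
    rw [h0] at k1
    rw [hq ![0, 0, _, _, _, _] rfl rfl] at k2 k3 k4 k5
    generalize f ![0, 1, 0, 0, 0, 0] = u at *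
    simp [b6, frob, er] at k1 k2 k3 k4 k5
    simp [q6, k1, k2, k3] at q
    ext i; fin_cases i <;> simpa
  rwa [show f = frob from funext fun x => by
    rw [show x = x 0 • er 1 + (x 1 • ![0, 1, 0, 0, 0, 0] + ![0, 0, x 2, x 3, x 4, x 5]) by
      ext i; fin_cases i <;> simp [er], X.ac_add ht a, X.ac_add ht a, hs, hs, h0, h1, hq _ rfl rfl]
    ext i; fin_cases i <;> simp [er, frob, Matrix.vecHead, Matrix.vecTail]] at a

end Fe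

theorem Fe.ft (X : Fe G) (h : 𝐂(X.V) ≤ 𝐍(X.W)) : ∃ Y : Ft G, Y.toFe = X := by
  obtain ⟨u, uO, hu⟩ := X.ta_u
  have cc : ∀ g k a : G, g * k * a * (g * k)⁻¹ = g * (k * a * k⁻¹) * g⁻¹ := fun g k a => by group
  have nO := X.A_O X.nb_mem
  obtain ⟨t, tO, tv⟩ : ∃ t ∈ 𝐂(X.O), ∀ s, t * X.vv s * t⁻¹ = X.vv (s * s) := by
    refine ⟨X.nb * (u * (X.nb * (u * (X.nb * u)))), mul_mem nO (mul_mem uO (mul_mem nO (mul_mem uO
      (mul_mem nO uO)))), fun s => ?_⟩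
    have e : ∀ s : F4, 0 + (s + 0 * 0) * (s + 0 * 0) = s * s ∧
      s + 0 * 0 + s * s * (s * s) = 0 := by decide
    rw [← one_mul (X.vv s), ← X.x_zero 10, cc, cc, cc, cc, cc, hu, X.ta_nb, hu, X.ta_nb, hu, X.ta_nb,
      (e s).1, (e s).2, X.x_zero, one_mul]
  obtain ⟨m, hm, mO, hr⟩ := X.ta_r h (X.ta_NV tv)
  have kv : ∀ s, m * t * X.vv s * (m * t)⁻¹ = X.vv (s * s) := fun s => by rw [cc, tv, X.cj_vv' hm.2]
  have kW := mul_mem hm.1 (X.ta_NW h (X.ta_NV tv))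
  have kO := mul_mem mO tO
  generalize m * t = k at hr kv kW kO
  obtain ⟨a, ha, hk⟩ := X.p3.aut k (X.cent_N (X.r_K 1) (X.r_sq 1) (X.r_ne 1 one_ne_zero) hr)
  have aB : a * k * X.vv 1 * (a * k)⁻¹ = X.vv 1 → a ∈ X.B := fun e =>
    X.p2.cV a ha 1 one_ne_zero (mul_inv_eq_iff_eq_mul.1 (by rwa [cc, kv, mul_one] at e))
  rcases hk with hk | hk
  · have := conj_eq_of_mem_centralizer hk (X.vv_A w)
    rw [cc, kv, X.cj_vv' (X.B_le_CV (aB (conj_eq_of_mem_centralizer hk (X.vv_A 1))))] at this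
    exact absurd (X.vv_inj this) (by decide)
  have aB := aB ((hk 11 1).trans (by rw [mul_one]; rfl))
  have b := X.ta_frob (mul_mem (X.B_le_M aB).1 kW) hk (by
    rw [mul_assoc, hr, ← mul_assoc, X.r_A 1 ha, mul_assoc])
  obtain ⟨n, hn, nO', c⟩ := X.M_ex (swap 1 2 * swap 5 6) (by simp [Ev])
  have hy : ∀ a s, X.nb * (u * (X.x 6 1 * X.nb)) * (X.x 10 a * X.vv s) *
      (X.nb * (u * (X.x 6 1 * X.nb)))⁻¹ = X.x 10 (a + s + s * s) * X.vv s := fun a s => by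
    rw [cc, cc, cc, X.ta_nb, X.ta_x6, hu, X.ta_nb]
  refine ⟨⟨X, a * k * n, X.nb * (u * (X.x 6 1 * X.nb)), h, mul_mem (mul_mem (X.A_O ha) kO) nO',
    fun s => by rw [cc, X.cj_vv' hn.2]; exact hk 11 s,
    (funext frob_sw : frob ∘ _ = bar) ▸ X.ac_mul (X.ta_NV (hk 11)) b c,
    mul_inv_eq_iff_eq_mul.1 ?_, ?_, mul_inv_eq_iff_eq_mul.1 ?_⟩, rfl⟩
  · simpa only [X.x_zero, one_mul, zero_add, f4_self, X.z_eq] using hy 0 1
  · simpa only [X.x_zero, one_mul, show 0 + w + w * w = 1 by decide] using hy 0 w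
  · simpa only [X.vv_zero, mul_one, mul_zero, add_zero] using hy 1 0

end H79.AS
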