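import Cfsg.Agent.Lib.ASG.Bas2

/-! The group `W`. -/

set_option autoImplicit false

namespace H79.AS

open H30 H30.F4 H69 Subgroup Cfsg Equiv

variable {G : Type*} [Group G] [Finite G]

namespace WB

omit [Finite G]

variable (X : Fb G)

theorem pB (c : F4) {b : G} (hb : b ∈ X.B) : b * X.p c = X.p c * b :=
  mem_centralizer_iff.1 (X.p_B c) b hb

theorem pv (c s : F4) : X.vv s * X.p c = X.p c * X.vv s := pB X c (X.V_le_B (X.vv_mem s))

theorem pq (c : F4) (t : V6) : X.qa t * X.p c = X.p c * X.qa t := pB X c (X.QA_le_B (X.qa_mem t))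

theorem rv (a s : F4) : X.vv s * X.r a = X.r a * X.vv s := X.r_A a (X.vv_A s)

theorem rq (a : F4) (t : V6) : X.qa t * X.r a = X.r a * X.qa t := X.r_A a (X.qa_A t)

theorem pr (c a : F4) : X.p c * X.r a = X.r a * X.p c * X.vv (a * c) := by
  have := X.p_r c a
  rw [mul_inv_eq_iff_eq_mul] at this
  rw [this, mul_assoc, pv, mul_assoc]

theorem p_sq_th {c s : F4} (h : X.p c * X.p c = X.vv s) :
    X.p (v * c) * X.p (v * c) = X.vv (v * s) := by
  obtain ⟨t, ht⟩ := X.p_th c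
  rw [← X.th_vv, ← h, cj_mul, ht]
  calc X.p (v * c) * X.p (v * c) = X.p (v * c) * X.p (v * c) * (X.vv t * X.vv t) := by
        rw [X.vv_sq, mul_one]
    _ = X.p (v * c) * (X.p (v * c) * X.vv t) * X.vv t := by group
    _ = X.p (v * c) * (X.vv t * X.p (v * c)) * X.vv t := by rw [pv]
    _ = _ := by group

theorem exists_c0 : ∃ c0, ∀ c, X.p c * X.p c = X.vv (c0 * c) := by
  obtain ⟨s, hs⟩ := X.p_add 1 1
  rw [f4_self, X.p_zero, one_mul] at hs
  have h1 := p_sq_th X hs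
  have h2 := p_sq_th X h1
  refine ⟨s, F4.forall_iff.2 ⟨?_, ?_, ?_, ?_⟩⟩
  · rw [X.p_zero, mul_zero, X.vv_zero, one_mul]
  · rw [mul_one, hs]
  · rw [show (w : F4) = v * (v * 1) by decide, h2]; congr 1; ring
  · rw [show (v : F4) = v * 1 by decide, h1]; congr 1; ring

theorem p_comm (c d : F4) : X.p c * X.p d = X.p d * X.p c := by
  obtain ⟨c0, h0⟩ := exists_c0 X
  obtain ⟨s, hs⟩ := X.p_add c d
  have h1 : X.p c * X.p d * (X.p c * X.p d) = X.p c * X.p c * (X.p d * X.p d) := by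
    rw [h0 c, h0 d, X.vv_add, ← mul_add, ← h0, hs]
    calc X.p (c + d) * X.vv s * (X.p (c + d) * X.vv s)
        = X.p (c + d) * (X.vv s * X.p (c + d)) * X.vv s := by group
      _ = X.p (c + d) * X.p (c + d) * (X.vv s * X.vv s) := by rw [pv]; group
      _ = _ := by rw [X.vv_sq, mul_one]
  have h2 : X.p c * (X.p d * X.p c) * X.p d = X.p c * (X.p c * X.p d) * X.p d := by
    simpa only [mul_assoc] using h1
  exact (mul_left_cancel (mul_right_cancel h2)).symm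

theorem wv (x : V6) (s : F4) : X.ww x * X.vv s = X.vv s * X.ww x := by
  unfold Fb.ww
  rw [mul_assoc, X.qa_v, ← mul_assoc, mul_assoc (X.r _), ← pv, ← mul_assoc, ← rv]; group

theorem nf (x y : V6) : X.ww x * X.ww y = X.r (x 0 + y 0) * (X.p (x 1) * X.p (y 1)) * X.qa (x + y) *
    X.vv (y 0 * x 1 + (x 5 * y 2 + x 4 * y 3)) := by
  unfold Fb.ww
  calc X.r (x 0) * X.p (x 1) * X.qa x * (X.r (y 0) * X.p (y 1) * X.qa y)
      = X.r (x 0) * X.p (x 1) * (X.qa x * X.r (y 0)) * X.p (y 1) * X.qa y := by group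
    _ = X.r (x 0) * (X.p (x 1) * X.r (y 0)) * (X.qa x * X.p (y 1)) * X.qa y := by rw [rq]; group
    _ = X.r (x 0) * X.r (y 0) * X.p (x 1) * (X.vv (y 0 * x 1) * X.p (y 1)) * (X.qa x * X.qa y) := by
        rw [pr, pq]; group
    _ = X.r (x 0 + y 0) * (X.p (x 1) * X.p (y 1)) * (X.vv (y 0 * x 1) * X.qa (x + y)) *
          X.vv (x 5 * y 2 + x 4 * y 3) := by
        rw [pv, X.qa_mul, X.r_add]; group
    _ = _ := by rw [← X.qa_v, ← X.vv_add (y 0 * x 1)]; group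

theorem wmul (x y : V6) : ∃ s, X.ww x * X.ww y = X.ww (x + y) * X.vv s := by
  obtain ⟨s, hs⟩ := X.p_add (x 1) (y 1)
  refine ⟨s + (y 0 * x 1 + (x 5 * y 2 + x 4 * y 3)), ?_⟩
  rw [nf, hs, ← X.vv_add s]
  unfold Fb.ww
  rw [Pi.add_apply, Pi.add_apply, ← mul_assoc (X.r _), mul_assoc _ (X.vv s), ← X.qa_v]
  group

theorem wcomm (x y : V6) : X.ww x * X.ww y = X.ww y * X.ww x * X.vv (b6 x y) := by
  rw [nf, nf, p_comm, add_comm (y 0), add_comm y, mul_assoc _ (X.vv _), X.vv_add]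
  congr 2
  unfold b6
  linear_combination (-(x 0 * y 1 + y 5 * x 2 + y 4 * x 3)) * F4.two_eq_zero

theorem wsq {c0 : F4} (h0 : ∀ c, X.p c * X.p c = X.vv (c0 * c)) (x : V6) :
    X.ww x * X.ww x = X.vv (q6 x + c0 * x 1) := by
  rw [nf, f4_self, add_self6, X.r_zero, X.qa_zero, h0, one_mul, mul_one, X.vv_add]
  congr 1
  unfold q6
  ring

theorem wr (x : V6) (s : F4) : X.ww x * X.vv s * X.r 1 = X.r 1 * X.vv (x 1) * (X.ww x * X.vv s) := by
  rw [← mul_assoc, mul_assoc (X.r 1), ← wv, mul_assoc (X.ww x), rv]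
  unfold Fb.ww
  calc X.r (x 0) * X.p (x 1) * X.qa x * (X.r 1 * X.vv s)
      = X.r (x 0) * X.p (x 1) * (X.qa x * X.r 1) * X.vv s := by group
    _ = X.r (x 0) * (X.p (x 1) * X.r 1) * X.qa x * X.vv s := by rw [rq]; group
    _ = X.r (x 0) * X.r 1 * X.p (x 1) * (X.vv (x 1) * X.qa x) * X.vv s := by
        rw [pr, one_mul]; group
    _ = _ := by rw [X.r_comm, ← X.qa_v]; group

theorem winj (x : V6) (s : F4) (y : V6) (t : F4) (h : X.ww x * X.vv s = X.ww y * X.vv t) :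
    x = y ∧ s = t := by
  have h1 : x 1 = y 1 := by
    have a := wr X x s
    rw [h, wr X y t] at a
    exact (X.vv_inj (mul_left_cancel (mul_right_cancel a))).symm
  have e : ∀ (x : V6) (s : F4), X.ww x * X.vv s = X.r (x 0) * (X.qa x * X.vv s) * X.p (x 1) := by
    intro x s
    unfold Fb.ww
    rw [mul_assoc _ (X.qa x * _), mul_assoc (X.qa x), pv, ← mul_assoc (X.qa x), pq]; group
  rw [e, e, h1] at h
  obtain ⟨a, b⟩ := X.pr_uq (X.r_K _) (mul_mem (X.qa_A _) (X.vv_A _)) (X.r_K _)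
    (mul_mem (X.qa_A _) (X.vv_A _)) (mul_right_cancel h)
  obtain ⟨h2, h3, h4, h5, h6⟩ := X.qa_inj b
  have h0 : x 0 = y 0 := by
    by_contra hn
    refine X.r_ne (x 0 + y 0) (fun e => hn ?_) (by rw [X.r_add, a, X.r_sq])
    linear_combination e - y 0 * F4.two_eq_zero
  refine ⟨funext fun i => ?_, h6⟩
  fin_cases i <;> assumption

theorem wv_mem (x : V6) (s : F4) : X.ww x * X.vv s ∈ X.W := subset_closure ⟨x, s, rfl⟩

theorem ww_zero : X.ww 0 = 1 := by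
  unfold Fb.ww
  rw [Pi.zero_apply, Pi.zero_apply, X.r_zero, X.p_zero, X.qa_zero, one_mul, one_mul]

theorem memW (g : G) : g ∈ X.W ↔ ∃ x s, g = X.ww x * X.vv s := by
  refine ⟨fun h => ?_, fun ⟨x, s, e⟩ => e ▸ wv_mem X x s⟩
  obtain ⟨c0, h0⟩ := exists_c0 X
  induction h using closure_induction with
  | mem g h => exact h
  | one => exact ⟨0, 0, by rw [ww_zero, X.vv_zero, one_mul]⟩
  | mul a b _ _ ha hb =>
    obtain ⟨x, s, rfl⟩ := ha
    obtain ⟨y, t, rfl⟩ := hb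
    obtain ⟨u, hu⟩ := wmul X x y
    refine ⟨x + y, u + (s + t), ?_⟩
    rw [← X.vv_add, ← X.vv_add, ← mul_assoc (X.ww (x + y)), ← hu, mul_assoc (X.ww x),
      ← mul_assoc (X.vv s), ← wv]
    group
  | inv a _ ha =>
    obtain ⟨x, s, rfl⟩ := ha
    refine ⟨x, s + (q6 x + c0 * x 1), inv_eq_of_mul_eq_one_right ?_⟩
    rw [mul_assoc (X.ww x), ← mul_assoc (X.vv s), ← wv, ← mul_assoc, ← mul_assoc,
      wsq X h0, X.vv_add, X.vv_add, ← X.vv_zero]
    congr 1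
    linear_combination (q6 x + c0 * x 1 + s) * F4.two_eq_zero

theorem qa00 (a c : F4) : X.qa ![a, c, 0, 0, 0, 0] = 1 := by
  rw [← X.qa_zero]; exact X.qa_congr rfl rfl rfl rfl

theorem r_mem (a : F4) : X.r a ∈ X.W := by
  have := wv_mem X ![a, 0, 0, 0, 0, 0] 0
  unfold Fb.ww at this
  rw [qa00, X.vv_zero] at this
  simpa [X.p_zero] using this

theorem p_mem (c : F4) : X.p c ∈ X.W := by
  have := wv_mem X ![0, c, 0, 0, 0, 0] 0
  unfold Fb.ww at this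
  rw [qa00, X.vv_zero] at this
  simpa [X.r_zero] using this

theorem q_mem (t : V6) (s : F4) : X.qa t * X.vv s ∈ X.W := by
  have := mul_mem (inv_mem (mul_mem (r_mem X (t 0)) (p_mem X (t 1)))) (wv_mem X t s)
  unfold Fb.ww at this
  convert this using 1
  group

theorem NR (a : F4) (ha : a ≠ 0) (g : G) (hg : g ∈ 𝐂(X.V)) (h : ∃ s, g * X.r a * g⁻¹ = X.r a * X.vv s) :
    ∃ o ∈ X.O, ∃ y ∈ X.W, ∃ l ∈ X.L, o * X.r a = X.r a * o ∧ g = o * y * l := by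
  obtain ⟨s, hs⟩ := h
  have e := X.p_r (a⁻¹ * s) a
  rw [mul_inv_cancel_left₀ ha, ← hs] at e
  set c := a⁻¹ * s
  have hc : (X.p c)⁻¹ * g * X.r a = X.r a * ((X.p c)⁻¹ * g) := by
    calc (X.p c)⁻¹ * g * X.r a = (X.p c)⁻¹ * (g * X.r a * g⁻¹) * g := by group
      _ = _ := by rw [← e]; group
  have hpV : X.p c ∈ 𝐂(X.V) := centralizer_le X.V_le_B (X.p_B c)
  obtain ⟨k, hk, b, hb, hkb⟩ := X.cV_KB (X.cent_N (X.r_K a) (X.r_sq a) (X.r_ne a ha) hc)
    (mul_mem (inv_mem hpV) hg)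
  have hkr : k * X.r a = X.r a * k := by
    rw [hkb, mul_assoc, X.r_A a (X.B_le_A hb), ← mul_assoc, ← mul_assoc] at hc
    exact mul_right_cancel hc
  obtain ⟨o, ho, β, rfl⟩ := X.cK a ha k hk hkr
  obtain ⟨t, u, l, hl, rfl⟩ := (X.p1.mem_B b).1 hb
  refine ⟨o, ho, X.p c * X.r β * (X.qa t * X.vv u),
    mul_mem (mul_mem (p_mem X c) (r_mem X β)) (q_mem X t u), l, hl, ?_, ?_⟩
  · rw [mul_assoc, X.r_comm β, ← mul_assoc, ← mul_assoc] at hkr
    exact mul_right_cancel hkr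
  · have := mem_centralizer_iff.1 (X.p_O c) o ho
    rw [inv_mul_eq_iff_eq_mul] at hkb
    rw [hkb, ← mul_assoc o, ← mul_assoc o, this]
    group

theorem ac_of {l : G} (hl : l ∈ X.B) {f : V6 → V6} (h0 : ∀ x, f x 0 = x 0) (h1 : ∀ x, f x 1 = x 1)
    (h : ∀ x, ∃ s, l * X.qa x * l⁻¹ = X.qa (f x) * X.vv s) : X.Ac l f := by
  intro x
  obtain ⟨s, hs⟩ := h x
  refine ⟨s, ?_⟩
  unfold Fb.ww
  rw [h0, h1, mul_assoc _ (X.qa (f x)), ← hs, ← mul_assoc l, ← mul_assoc l, X.r_A _ (X.B_le_A hl),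
    mul_assoc (X.r _) l, pB X _ hl]
  group

theorem ac_L {l : G} (hl : l ∈ X.L) {σ : Perm (Fin 8)} (hσ : A5 σ)
    (h : ∀ t : V6, t 0 = 0 → t 1 = 0 → ∃ s, l * X.qa t * l⁻¹ = X.qa (act σ t) * X.vv s) :
    X.Ac l (act σ) := by
  refine ac_of X (X.L_le_B hl) (fun x => (hσ.act_01 x).1) (fun x => (hσ.act_01 x).2) fun x => ?_
  obtain ⟨s, hs⟩ := h ![0, 0, x 2, x 3, x 4, x 5] rfl rfl
  have e : x = ![x 0, x 1, 0, 0, 0, 0] + ![0, 0, x 2, x 3, x 4, x 5] := by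
    funext i; fin_cases i <;> simp
  have e2 : act σ x = ![x 0, x 1, 0, 0, 0, 0] + act σ ![0, 0, x 2, x 3, x 4, x 5] := by
    conv_lhs => rw [e]
    rw [act_add, hσ.act_fix]
  refine ⟨s, ?_⟩
  rw [X.qa_congr (s := x) (t := ![0, 0, x 2, x 3, x 4, x 5]) rfl rfl rfl rfl, hs, e2]
  congr 1

theorem th_ac : X.Ac X.th thv := by
  intro x
  obtain ⟨s, hs⟩ := X.p_th (x 1)
  refine ⟨s, ?_⟩
  unfold Fb.ww
  rw [cj_mul, cj_mul, hs, X.th_qa, X.r_A _ X.th_mem, mul_inv_cancel_right,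
    X.qa_congr (s := w • x) (t := thv x) rfl rfl rfl rfl, ← mul_assoc (X.r _), mul_assoc _ (X.vv s),
    ← X.qa_v, ← mul_assoc]
  rfl

end WB

open WB

theorem Fb.fc (X : Fb G) : ∃ Y : Fc G, Y.toFb = X := by
  obtain ⟨c0, h0⟩ := exists_c0 X
  exact ⟨{ X with
    c0 := c0
    mem_W := memW X
    w_inj := winj X
    w_mul := wmul X
    w_comm := wcomm X
    w_sq0 := wsq X h0
    w_v := wv X
    NR := NR X
    L_ac := fun l hl => by
      obtain ⟨σ, hσ, h⟩ := X.p1.L_act l hl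
      exact ⟨σ, hσ, ac_L X hl hσ h⟩
    L_ac' := fun σ hσ => by
      obtain ⟨l, hl, h⟩ := X.p1.L_ex σ hσ
      exact ⟨l, hl, ac_L X hl hσ h⟩
    xa_ac := fun c => ac_of X (X.L_le_B (X.x7_mem c)) (fun _ => rfl) (fun _ => rfl) (X.xa_qa c)
    na_ac := ac_of X (X.L_le_B X.na_mem) (fun _ => rfl) (fun _ => rfl) X.na_qa
    ha_ac := ac_of X (X.L_le_B X.ha_mem) (fun _ => rfl) (fun _ => rfl) fun x =>
      ⟨0, by rw [X.ha_qa, X.vv_zero, mul_one]⟩
    th_ac := th_ac X }, rfl⟩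

end H79.AS
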