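import Cfsg.Agent.Lib.ASG.Mod

/-! Elementary consequences of the relations between the root elements. -/

set_option autoImplicit false

namespace H79.AS

open H30 H30.F4 H69 Subgroup Cfsg Equiv

variable {G : Type*} [Group G]

/-- the commutator form on `Q_A / V` -/
def b4 (s t : V6) : F4 := s 2 * t 5 + s 5 * t 2 + (s 3 * t 4 + s 4 * t 3)

theorem mem_F5 {S : Set G} {g : G} (h : g ∈ S) (h5 : g ^ 5 = 1) : g ∈ F5 S := subset_closure ⟨h, h5⟩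
theorem F5_le {S : Set G} {H : Subgroup G} (h : ∀ g ∈ S, g ^ 5 = 1 → g ∈ H) : F5 S ≤ H :=
  (closure_le _).2 fun g hg => h g hg.1 hg.2

theorem f4_self (t : F4) : t + t = 0 := by revert t; decide

theorem cj_mul (g a b : G) : g * (a * b) * g⁻¹ = g * a * g⁻¹ * (g * b * g⁻¹) := by group

/-- a condition for normalising the closure of a set -/
theorem cj_closure {S : Set G} {H : Subgroup G} {g a : G} (h : ∀ s ∈ S, g * s * g⁻¹ ∈ H)
    (ha : a ∈ closure S) : g * a * g⁻¹ ∈ H :=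
  ((closure_le (H.comap (MulAut.conj g).toMonoidHom)).2 h) ha

theorem cent_closure {S : Set G} {g : G} (h : ∀ s ∈ S, s * g = g * s) : g ∈ 𝐂(closure S) := by
  rw [centralizer_closure]; exact h

namespace Rt

variable (X : Rt G)

theorem x_zero (r : Fin 12) : X.x r 0 = 1 := by
  have := X.x_add r 0 0
  rwa [add_zero, left_eq_mul] at this
theorem x_sq (r : Fin 12) (t : F4) : X.x r t * X.x r t = 1 := by
  rw [← X.x_add, f4_self, x_zero]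
theorem x_inv (r : Fin 12) (t : F4) : (X.x r t)⁻¹ = X.x r t := inv_eq_of_mul_eq_one_right (X.x_sq r t)
theorem x_comm (r : Fin 12) (s t : F4) : X.x r s * X.x r t = X.x r t * X.x r s := by
  rw [← X.x_add, ← X.x_add, add_comm]
theorem x_inj (r : Fin 12) {t : F4} (h : X.x r t = 1) : t = 0 := by
  have a : ∀ r, X.x r t = 1 → X.x (![0, 5, 3, 2, 7, 1, 10, 4, 9, 8, 6, 11] r) t = 1 := fun r h => by
    rw [← X.na_x, h, mul_one, mul_inv_cancel]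
  have b : ∀ r, X.x r t = 1 → X.x (![1, 0, 2, 4, 3, 6, 5, 8, 7, 9, 11, 10] r) t = 1 := fun r h => by
    rw [← X.nb_x, h, mul_one, mul_inv_cancel]
  have h6 : X.x 6 t = 1 → t = 0 := fun h => (X.q_inj t 0 0 0 0 (by simp [h, x_zero])).1
  have h8 : X.x 8 t = 1 → t = 0 := fun h => (X.q_inj 0 t 0 0 0 (by simp [h, x_zero])).2.1
  fin_cases r
  exacts [h6 (b 5 (a 1 (b 0 h))), h6 (b 5 (a 1 h)), h8 (b 7 (a 4 (b 3 (a 2 h)))),
    h8 (b 7 (a 4 (b 3 h))), h8 (b 7 (a 4 h)), h6 (b 5 h), h6 h, h8 (b 7 h), h8 h, h8 (a 9 h),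
    h6 (a 10 h), h6 (a 10 (b 11 h))]
theorem vv_zero : X.vv 0 = 1 := X.x_zero 11
theorem vv_add (s t : F4) : X.vv s * X.vv t = X.vv (s + t) := (X.x_add 11 s t).symm
theorem vv_sq (s : F4) : X.vv s * X.vv s = 1 := X.x_sq 11 s
theorem vv_inv (s : F4) : (X.vv s)⁻¹ = X.vv s := X.x_inv 11 s
theorem vv_inj {s t : F4} (h : X.vv s = X.vv t) : s = t := by
  have : s + t = 0 := X.x_inj 11 ((X.vv_add s t).symm.trans (by rw [h, vv_sq]))
  revert this; clear h; revert s t; decide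
theorem vv_comm (s t : F4) : X.vv s * X.vv t = X.vv t * X.vv s := X.x_comm 11 s t
theorem z_eq : X.z = X.vv 1 := rfl
theorem z_sq : X.z * X.z = 1 := X.vv_sq 1
theorem z_ne : X.z ≠ 1 := fun h => one_ne_zero (X.x_inj 11 h)
theorem mem_V {g : G} : g ∈ X.V ↔ ∃ s, g = X.vv s := by
  refine ⟨fun h => ?_, fun h => subset_closure h⟩
  induction h using closure_induction with
  | mem x h => exact h
  | one => exact ⟨0, X.vv_zero.symm⟩
  | mul x y _ _ hx hy =>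
    obtain ⟨s, rfl⟩ := hx
    obtain ⟨t, rfl⟩ := hy
    exact ⟨_, X.vv_add s t⟩
  | inv x _ hx =>
    obtain ⟨s, rfl⟩ := hx
    exact ⟨_, X.vv_inv s⟩
theorem vv_mem (s : F4) : X.vv s ∈ X.V := X.mem_V.2 ⟨s, rfl⟩
theorem mem_CV {g : G} : g ∈ 𝐂(X.V) ↔ ∀ s, g * X.vv s = X.vv s * g :=
  ⟨fun h s => (h _ (X.vv_mem s)).symm, fun h a ha => by
    obtain ⟨s, rfl⟩ := X.mem_V.1 ha
    exact (h s).symm⟩
theorem card_V : Nat.card X.V = 4 := by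
  rw [← natCard_eq]
  refine (Nat.card_congr (Equiv.ofBijective (fun s => (⟨X.vv s, X.vv_mem s⟩ : X.V))
    ⟨fun s t h => X.vv_inj (congrArg Subtype.val h), fun g => ?_⟩)).symm
  obtain ⟨s, e⟩ := X.mem_V.1 g.2
  exact ⟨s, Subtype.ext e.symm⟩
theorem x_mem (r : Fin 12) (t : F4) : X.x r t ∈ X.A := subset_closure ⟨r, t, rfl⟩
theorem x7_mem (t : F4) : X.x 7 t ∈ X.L := subset_closure ⟨t, Or.inl rfl⟩
theorem x4_mem (t : F4) : X.x 4 t ∈ X.L := subset_closure ⟨t, Or.inr rfl⟩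
theorem na_mem : X.na ∈ X.L := X.na_eq ▸ mul_mem (mul_mem (X.x7_mem 1) (X.x4_mem 1)) (X.x7_mem 1)
theorem ha_mem : X.ha ∈ X.L :=
  X.ha_eq ▸ mul_mem (mul_mem (mul_mem (X.x7_mem _) (X.x4_mem _)) (X.x7_mem _)) X.na_mem
theorem nb_mem : X.nb ∈ X.A :=
  X.nb_eq ▸ mul_mem (mul_mem (X.x_mem _ _) (X.x_mem _ _)) (X.x_mem _ _)
theorem th_mem : X.th ∈ X.A :=
  X.th_eq ▸ mul_mem (mul_mem (mul_mem (X.x_mem _ _) (X.x_mem _ _)) (X.x_mem _ _))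
    (mul_mem (mul_mem (X.x_mem _ _) (X.x_mem _ _)) (X.x_mem _ _))
theorem nb_inv : X.nb⁻¹ = X.nb := inv_eq_of_mul_eq_one_right X.nb_sq
theorem na_inv : X.na⁻¹ = X.na := inv_eq_of_mul_eq_one_right X.na_sq
theorem qa_zero : X.qa 0 = 1 := by simp [qa, x_zero]
theorem qa_congr {s t : V6} (h2 : s 2 = t 2) (h3 : s 3 = t 3) (h4 : s 4 = t 4) (h5 : s 5 = t 5) :
    X.qa s = X.qa t := by rw [qa, qa, h2, h3, h4, h5]
theorem qa_mul (s t : V6) : X.qa s * X.qa t = X.qa (s + t) * X.vv (s 5 * t 2 + s 4 * t 3) :=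
  X.q_mul s t
theorem x_v {r : Fin 12} (h : r = 4 ∨ 6 ≤ r) (t s : F4) : Commute (X.x r t) (X.vv s) :=
  X.v_comm r s t h
theorem qa_v (t : V6) (s : F4) : X.qa t * X.vv s = X.vv s * X.qa t :=
  (((X.x_v (by decide) _ s).mul_left (X.x_v (by decide) _ s)).mul_left
    (X.x_v (by decide) _ s)).mul_left (X.x_v (by decide) _ s)
theorem qa_comm (s t : V6) : X.qa s * X.qa t = X.qa t * X.qa s * X.vv (b4 s t) := by
  rw [qa_mul, qa_mul, add_comm t s, mul_assoc, vv_add, b4]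
  congr 2
  linear_combination (-(t 5 * s 2) - t 4 * s 3) * two_eq_zero
theorem qa_conj (s t : V6) : X.qa s * X.qa t * (X.qa s)⁻¹ = X.qa t * X.vv (b4 s t) := by
  rw [qa_comm, mul_assoc (X.qa t), qa_v, ← mul_assoc, mul_inv_cancel_right]
theorem qa_sq (t : V6) : X.qa t * X.qa t = X.vv (t 2 * t 5 + t 3 * t 4) := by
  rw [qa_mul, add_self6, qa_zero, one_mul, mul_comm (t 5), mul_comm (t 4)]
theorem qv_mul (s t : V6) (a b : F4) : X.qa s * X.vv a * (X.qa t * X.vv b) =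
    X.qa (s + t) * X.vv (s 5 * t 2 + s 4 * t 3 + (a + b)) := by
  rw [mul_assoc, ← mul_assoc (X.vv a), ← qa_v, ← mul_assoc, ← mul_assoc, qa_mul, mul_assoc, mul_assoc,
    vv_add, vv_add]
theorem qv_inv (t : V6) (a : F4) : (X.qa t * X.vv a)⁻¹ = X.qa t * X.vv (t 5 * t 2 + t 4 * t 3 + a) := by
  refine inv_eq_of_mul_eq_one_right ?_
  rw [qv_mul, add_self6, qa_zero, one_mul, ← X.vv_zero]
  congr 1
  linear_combination (t 5 * t 2 + t 4 * t 3 + a) * two_eq_zero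
theorem qa_inj {s t : V6} {a b : F4} (h : X.qa s * X.vv a = X.qa t * X.vv b) :
    s 2 = t 2 ∧ s 3 = t 3 ∧ s 4 = t 4 ∧ s 5 = t 5 ∧ a = b := by
  have e : ∀ a b : F4, a + b = 0 → a = b := by decide
  have k := mul_inv_eq_one.2 h
  rw [qv_inv, qv_mul] at k
  obtain ⟨h2, h3, h4, h5, -⟩ := X.q_inj _ _ _ _ _ k
  have h2 := e _ _ h2
  have h3 := e _ _ h3
  have h4 := e _ _ h4
  have h5 := e _ _ h5
  rw [X.qa_congr h2 h3 h4 h5, mul_right_inj] at h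
  exact ⟨h2, h3, h4, h5, X.vv_inj h⟩
theorem qa_6 (a b t : F4) : X.qa ![a, b, t, 0, 0, 0] = X.x 6 t := by simp [qa, x_zero]
theorem qa_8 (a b t : F4) : X.qa ![a, b, 0, t, 0, 0] = X.x 8 t := by simp [qa, x_zero]
theorem qa_9 (a b t : F4) : X.qa ![a, b, 0, 0, t, 0] = X.x 9 t := by simp [qa, x_zero]
theorem qa_10 (a b t : F4) : X.qa ![a, b, 0, 0, 0, t] = X.x 10 t := by simp [qa, x_zero]
theorem mem_QA {g : G} : g ∈ X.QA ↔ ∃ t s, g = X.qa t * X.vv s := by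
  refine ⟨fun h => ?_, fun h => subset_closure h⟩
  induction h using closure_induction with
  | mem x h => exact h
  | one => exact ⟨0, 0, by rw [qa_zero, vv_zero, mul_one]⟩
  | mul x y _ _ hx hy =>
    obtain ⟨s, a, rfl⟩ := hx
    obtain ⟨t, b, rfl⟩ := hy
    exact ⟨_, _, X.qv_mul s t a b⟩
  | inv x _ hx =>
    obtain ⟨s, a, rfl⟩ := hx
    exact ⟨_, _, X.qv_inv s a⟩
theorem qa_mem (t : V6) : X.qa t ∈ X.QA := X.mem_QA.2 ⟨t, 0, by rw [vv_zero, mul_one]⟩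
theorem isP_QA : IsPGroup 2 X.QA := fun g => ⟨2, Subtype.ext (by
  obtain ⟨t, s, e⟩ := X.mem_QA.1 g.2
  rw [coe_pow, e, show 2 ^ 2 = 2 * 2 from rfl, pow_mul, sq, sq, qv_mul, add_self6, qa_zero, one_mul,
    vv_sq, coe_one])⟩
theorem card_QA : Nat.card X.QA = 1024 := by
  have : Nat.card (F4 × F4 × F4 × F4 × F4) = 1024 := by simp only [Nat.card_prod, natCard_eq]
  rw [← this]
  refine (Nat.card_congr (Equiv.ofBijective (fun s : F4 × F4 × F4 × F4 × F4 =>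
    (⟨X.qa ![0, 0, s.1, s.2.1, s.2.2.1, s.2.2.2.1] * X.vv s.2.2.2.2, X.mem_QA.2 ⟨_, _, rfl⟩⟩ : X.QA))
    ⟨fun s t h => ?_, fun g => ?_⟩)).symm
  · obtain ⟨a, b, c, d, e⟩ := X.qa_inj (congrArg Subtype.val h)
    exact Prod.ext a (Prod.ext b (Prod.ext c (Prod.ext d e)))
  · obtain ⟨t, s, e⟩ := X.mem_QA.1 g.2
    exact ⟨(t 2, t 3, t 4, t 5, s), Subtype.ext e.symm⟩
theorem V_le_QA : X.V ≤ X.QA := fun g h => by
  obtain ⟨s, rfl⟩ := X.mem_V.1 h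
  exact X.mem_QA.2 ⟨0, s, by rw [qa_zero, one_mul]⟩
theorem QA_le_B : X.QA ≤ X.B := le_sup_left
theorem L_le_B : X.L ≤ X.B := le_sup_right
theorem qa_A (t : V6) : X.qa t ∈ X.A :=
  mul_mem (mul_mem (mul_mem (X.x_mem _ _) (X.x_mem _ _)) (X.x_mem _ _)) (X.x_mem _ _)
theorem vv_A (s : F4) : X.vv s ∈ X.A := X.x_mem 11 s
theorem z_A : X.z ∈ X.A := X.x_mem 11 1
theorem B_le_A : X.B ≤ X.A := by
  refine sup_le ((closure_le _).2 ?_) ((closure_le _).2 ?_)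
  · rintro _ ⟨t, s, rfl⟩
    exact mul_mem (X.qa_A t) (X.vv_A s)
  · rintro _ ⟨t, rfl | rfl⟩ <;> exact X.x_mem _ _
theorem L_le_A : X.L ≤ X.A := X.L_le_B.trans X.B_le_A
theorem V_le_B : X.V ≤ X.B := X.V_le_QA.trans X.QA_le_B
theorem V_le_A : X.V ≤ X.A := X.V_le_B.trans X.B_le_A
theorem B_le_CV : X.B ≤ 𝐂(X.V) := by
  refine sup_le ((closure_le _).2 ?_) ((closure_le _).2 ?_)
  · rintro _ ⟨t, s, rfl⟩
    exact mul_mem (X.mem_CV.2 (X.qa_v t)) (X.mem_CV.2 (X.vv_comm s))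
  · rintro _ ⟨t, rfl | rfl⟩ <;> exact X.mem_CV.2 fun s => X.x_v (by decide) t s
theorem x_B {r : Fin 12} (h : r = 4 ∨ 6 ≤ r) (t : F4) : X.x r t ∈ X.B := by
  have q := fun u => X.QA_le_B (X.qa_mem u)
  rcases h with rfl | h
  · exact X.L_le_B (X.x4_mem t)
  · fin_cases r <;> simp at h
    exacts [X.qa_6 0 0 t ▸ q _, X.L_le_B (X.x7_mem t), X.qa_8 0 0 t ▸ q _, X.qa_9 0 0 t ▸ q _,
      X.qa_10 0 0 t ▸ q _, X.V_le_B (X.vv_mem t)]

/-- `g` lies in the coset of `V` with coordinates `t` -/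
def Qe (g : G) (t : V6) : Prop := ∃ s, g = X.qa t * X.vv s

theorem Qe.mul {X : Rt G} {g k : G} {s t : V6} (a : X.Qe g s) (b : X.Qe k t) : X.Qe (g * k) (s + t) := by
  obtain ⟨c, rfl⟩ := a
  obtain ⟨d, rfl⟩ := b
  exact ⟨_, X.qv_mul s t c d⟩
theorem Qe.congr {X : Rt G} {g : G} {s t : V6} (a : X.Qe g s) (h2 : s 2 = t 2) (h3 : s 3 = t 3)
    (h4 : s 4 = t 4) (h5 : s 5 = t 5) : X.Qe g t := by
  rw [Qe, ← X.qa_congr h2 h3 h4 h5]; exact a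
theorem qe6 (t : F4) : X.Qe (X.x 6 t) ![0, 0, t, 0, 0, 0] := ⟨0, by rw [qa_6, vv_zero, mul_one]⟩
theorem qe8 (t : F4) : X.Qe (X.x 8 t) ![0, 0, 0, t, 0, 0] := ⟨0, by rw [qa_8, vv_zero, mul_one]⟩
theorem qe9 (t : F4) : X.Qe (X.x 9 t) ![0, 0, 0, 0, t, 0] := ⟨0, by rw [qa_9, vv_zero, mul_one]⟩
theorem qe10 (t : F4) : X.Qe (X.x 10 t) ![0, 0, 0, 0, 0, t] := ⟨0, by rw [qa_10, vv_zero, mul_one]⟩
theorem qe11 (t : F4) : X.Qe (X.x 11 t) 0 := ⟨t, by rw [qa_zero, one_mul, vv]⟩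

theorem xa_qa (c : F4) (t : V6) : ∃ s, X.x 7 c * X.qa t * (X.x 7 c)⁻¹ = X.qa (xav c t) * X.vv s := by
  rw [qa, cj_mul, cj_mul, cj_mul, X.a6, X.a8, X.a9, X.a10, mul_inv_cancel_right]
  refine ((((((((X.qe6 _).mul (X.qe8 _)).mul (X.qe9 _)).mul (X.qe10 _)).mul (X.qe11 _)).mul
    (((X.qe8 _).mul (X.qe10 _)).mul (X.qe11 _))).mul ((X.qe9 _).mul (X.qe10 _))).mul
    (X.qe10 _)).congr ?_ ?_ ?_ ?_ <;> simp [xav] <;> ring
theorem na_qa (t : V6) : ∃ s, X.na * X.qa t * X.na⁻¹ = X.qa (nav t) * X.vv s := by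
  rw [qa, cj_mul, cj_mul, cj_mul, X.na_x, X.na_x, X.na_x, X.na_x]
  refine ((((X.qe10 _).mul (X.qe9 _)).mul (X.qe8 _)).mul (X.qe6 _)).congr ?_ ?_ ?_ ?_ <;> simp [nav]
theorem th_qa (t : V6) : X.th * X.qa t * X.th⁻¹ = X.qa (w • t) := by
  rw [qa, cj_mul, cj_mul, cj_mul, X.th_x, X.th_x, X.th_x, X.th_x]; rfl
theorem th_vv (s : F4) : X.th * X.vv s * X.th⁻¹ = X.vv (v * s) := X.th_x 11 s
theorem ha_qa (t : V6) :
    X.ha * X.qa t * X.ha⁻¹ = X.qa ![t 0, t 1, t 2, v * t 3, w * t 4, t 5] := by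
  rw [qa, cj_mul, cj_mul, cj_mul, X.ha_x, X.ha_x, X.ha_x, X.ha_x]
  simp [qa]
theorem th_L {l : G} (h : l ∈ X.L) : X.th * l = l * X.th := by
  refine (cent_closure ?_ l h).symm
  rintro _ ⟨t, rfl | rfl⟩
  · exact (mul_inv_eq_iff_eq_mul.1 ((X.th_x 7 t).trans (by simp))).symm
  · exact (mul_inv_eq_iff_eq_mul.1 ((X.th_x 4 t).trans (by simp))).symm
/-- an involution which maps `Q_A` into itself -/
theorem norm_QA {g : G} (h2 : g⁻¹ = g) (hv : g ∈ X.B) (h : ∀ t, ∃ u, X.Qe (g * X.qa t * g⁻¹) u) :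
    g ∈ 𝐍(X.QA) := by
  have k : ∀ a ∈ X.QA, g * a * g⁻¹ ∈ X.QA := fun a ha => by
    obtain ⟨t, s, rfl⟩ := X.mem_QA.1 ha
    obtain ⟨u, c, e⟩ := h t
    rw [cj_mul, e, X.mem_CV.1 (X.B_le_CV hv), mul_inv_cancel_right]
    exact mul_mem (X.mem_QA.2 ⟨u, c, rfl⟩) (X.V_le_QA (X.vv_mem s))
  refine mem_normalizer_iff.2 fun a => ⟨k a, fun ha => ?_⟩
  have := k _ ha
  rwa [show g * (g * a * g⁻¹) * g⁻¹ = g⁻¹ * (g * a * g⁻¹) * g by rw [h2],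
    show g⁻¹ * (g * a * g⁻¹) * g = a by group] at this
theorem L_norm : X.L ≤ 𝐍(X.QA) := by
  have h7 := fun c => X.norm_QA (X.x_inv 7 c) (X.L_le_B (X.x7_mem c)) fun t => ⟨_, X.xa_qa c t⟩
  have hn := X.norm_QA X.na_inv (X.L_le_B X.na_mem) fun t => ⟨_, X.na_qa t⟩
  refine (closure_le _).2 ?_
  rintro _ ⟨t, rfl | rfl⟩
  · exact h7 t
  · exact (X.na_x 7 t : _ = X.x 4 t) ▸ mul_mem (mul_mem hn (h7 t)) (inv_mem hn)
theorem B_norm_QA : X.B ≤ 𝐍(X.QA) := sup_le le_normalizer X.L_norm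
theorem Phi.qa {X : Rt G} {n : G} (h : X.Phi n) (t : V6) : n * X.qa t * n⁻¹ = X.qa (frob t) := by
  rw [Rt.qa, cj_mul, cj_mul, cj_mul, h, h, h, h]; rfl
theorem Phi.sq {X : Rt G} {n : G} (h : X.Phi n) : n * n ∈ 𝐂(X.A) := by
  refine cent_closure ?_
  rintro _ ⟨r, t, rfl⟩
  have e : ∀ t : F4, t * t * (t * t) = t := by decide
  have := h r (t * t)
  rw [e, ← h] at this
  exact (mul_inv_eq_iff_eq_mul.1 (by rw [← this]; nth_rw 1 [this]; group)).symm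
theorem D.conj {X : Rt G} {d : G} (h : X.D d) (g : G) : X.D (g * d * g⁻¹) := by
  obtain ⟨c, k, h1, h2, h3, rfl⟩ := h
  exact ⟨g * c, k, h1, h2, h3, by group⟩
/-- every long root element is conjugate to `z` -/
theorem D_z {s : F4} (hs : s ≠ 0) {g : G} (h : X.D (g * X.vv s * g⁻¹)) : X.D X.z := by
  have k := h.conj g⁻¹
  rw [show g⁻¹ * (g * X.vv s * g⁻¹) * g⁻¹⁻¹ = X.vv s by group] at k
  have a : ∀ t, X.D (X.vv t) → X.D (X.vv (v * t)) := fun t h => X.th_vv t ▸ h.conj _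
  have e : ∀ s : F4, s ≠ 0 → s = 1 ∨ v * s = 1 ∨ v * (v * s) = 1 := by decide
  rcases e s hs with e | e | e
  exacts [X.z_eq ▸ e ▸ k, X.z_eq ▸ e ▸ a _ k, X.z_eq ▸ e ▸ a _ (a _ k)]

end Rt

end H79.AS
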