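import Cfsg.Agent.Lib.ASG.Bas

/-! The group `W` and actions on `W / V`. -/

set_option autoImplicit false

namespace H79.AS

open H30 H30.F4 H69 Subgroup Cfsg Equiv

variable {G : Type*} [Group G] [Finite G]

namespace Fa

variable (X : Fa G)

omit [Finite G]

theorem r_zero : X.r 0 = 1 := by
  have := X.r_add 0 0
  rwa [add_zero, left_eq_mul] at this
theorem r_sq (a : F4) : X.r a * X.r a = 1 := by rw [← X.r_add, f4_self, r_zero]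
theorem r_inv (a : F4) : (X.r a)⁻¹ = X.r a := inv_eq_of_mul_eq_one_right (X.r_sq a)
theorem r_comm (a b : F4) : X.r a * X.r b = X.r b * X.r a := by rw [← X.r_add, ← X.r_add, add_comm]
theorem r_A (a : F4) {g : G} (hg : g ∈ X.A) : g * X.r a = X.r a * g := X.r_K a g hg
theorem r_uq {a b : F4} {k g : G} (hk : k ∈ 𝐂(X.A)) (hg : g ∈ X.A)
    (e : k * X.r a * k⁻¹ = X.r b * g) : k * X.r a * k⁻¹ = X.r b ∧ g = 1 := by
  have := X.pr_uq (mul_mem (mul_mem hk (X.r_K a)) (inv_mem hk)) (one_mem _) (X.r_K b) hg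
    ((mul_one _).trans e)
  exact ⟨this.1, this.2.symm⟩

end Fa

omit [Finite G] in
theorem Rt.cj_vv (X : Rt G) {g : G} (hg : g ∈ 𝐍(X.V)) (s : F4) : ∃ t, g * X.vv s * g⁻¹ = X.vv t :=
  X.mem_V.1 (conj_mem_of_mem_normalizer hg (X.vv_mem s))

omit [Finite G] in
theorem Rt.cj_vv' (X : Rt G) {g : G} (hg : g ∈ 𝐂(X.V)) (s : F4) : g * X.vv s * g⁻¹ = X.vv s :=
  conj_eq_of_mem_centralizer hg (X.vv_mem s)

namespace Fc

variable (X : Fc G) {g k : G} {f f' : V6 → V6}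

section
omit [Finite G]

theorem ww_zero : X.ww 0 = 1 := by simp [Fb.ww, X.r_zero, X.p_zero, X.qa_zero]
theorem ww_er (a : F4) : X.ww (er a) = X.r a := by simp [Fb.ww, er, X.p_zero, Rt.qa, X.x_zero]
theorem ww_p (c : F4) : X.ww ![0, c, 0, 0, 0, 0] = X.p c := by
  simp [Fb.ww, X.r_zero, Rt.qa, X.x_zero]
theorem ww_qa {t : V6} (h0 : t 0 = 0) (h1 : t 1 = 0) : X.ww t = X.qa t := by
  simp [Fb.ww, h0, h1, X.r_zero, X.p_zero]
theorem ww_e5 (t : F4) : X.ww (e5 t) = X.x 10 t := (X.ww_qa rfl rfl).trans (X.qa_10 0 0 t)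
theorem wv_mem (x : V6) (s : F4) : X.ww x * X.vv s ∈ X.W := (X.mem_W _).2 ⟨x, s, rfl⟩
theorem ww_mem (x : V6) : X.ww x ∈ X.W := by simpa [X.vv_zero] using X.wv_mem x 0
theorem wv_mem_V {x : V6} {s : F4} : X.ww x * X.vv s ∈ X.V ↔ x = 0 := by
  refine ⟨fun h => ?_, fun h => by rw [h, ww_zero, one_mul]; exact X.vv_mem s⟩
  obtain ⟨t, e⟩ := X.mem_V.1 h
  exact (X.w_inj x s 0 t (by rw [e, ww_zero, one_mul])).1
theorem ww_inv (x : V6) : ∃ s, (X.ww x)⁻¹ = X.ww x * X.vv s :=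
  ⟨_, inv_eq_of_mul_eq_one_right (by rw [← mul_assoc, X.w_sq0, X.vv_sq])⟩
theorem ww_conj (y x : V6) : X.ww y * X.ww x * (X.ww y)⁻¹ = X.ww x * X.vv (b6 y x) := by
  rw [X.w_comm, mul_assoc (X.ww x), X.w_v, ← mul_assoc, mul_inv_cancel_right]
theorem wv_mul' (x y : V6) (s t : F4) :
    X.ww x * X.vv s * (X.ww y * X.vv t) = X.ww x * X.ww y * X.vv (s + t) := by
  rw [mul_assoc, ← mul_assoc (X.vv s), ← X.w_v, mul_assoc, X.vv_add, mul_assoc]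
theorem wv_mul (x y : V6) (s t : F4) :
    ∃ u, X.ww x * X.vv s * (X.ww y * X.vv t) = X.ww (x + y) * X.vv u := by
  obtain ⟨u, e⟩ := X.w_mul x y
  exact ⟨_, by rw [wv_mul', e, mul_assoc, X.vv_add]⟩
theorem wv_inv (x : V6) (s : F4) : ∃ u, (X.ww x * X.vv s)⁻¹ = X.ww x * X.vv u := by
  obtain ⟨u, e⟩ := X.ww_inv x
  exact ⟨_, by rw [mul_inv_rev, e, X.vv_inv, ← mul_assoc, ← X.w_v, mul_assoc, X.vv_add]⟩
theorem wv_sq (x : V6) (s : F4) :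
    X.ww x * X.vv s * (X.ww x * X.vv s) = X.vv (q6 x + X.c0 * x 1) := by
  rw [wv_mul', f4_self, X.vv_zero, mul_one, X.w_sq0]
theorem wv_comm (x y : V6) (s t : F4) : X.ww x * X.vv s * (X.ww y * X.vv t) =
    X.ww y * X.vv t * (X.ww x * X.vv s) * X.vv (b6 x y) := by
  rw [wv_mul', wv_mul', X.w_comm, mul_assoc, mul_assoc (_ * _), X.vv_comm, add_comm]
theorem wv_comm_iff {x y : V6} {s t : F4} : X.ww x * X.vv s * (X.ww y * X.vv t) =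
    X.ww y * X.vv t * (X.ww x * X.vv s) ↔ b6 x y = 0 := by
  rw [wv_comm, mul_eq_left]
  exact ⟨X.x_inj 11, fun h => h ▸ X.vv_zero⟩
theorem V_le_W : X.V ≤ X.W := fun g h => by
  obtain ⟨s, rfl⟩ := X.mem_V.1 h
  simpa [X.ww_zero] using X.wv_mem 0 s
theorem QA_le_W : X.QA ≤ X.W := fun g h => by
  obtain ⟨t, s, rfl⟩ := X.mem_QA.1 h
  exact (X.mem_W _).2 ⟨![0, 0, t 2, t 3, t 4, t 5], s, by rw [X.ww_qa rfl rfl]; rfl⟩
theorem W_le_CV : X.W ≤ 𝐂(X.V) := fun g h => by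
  obtain ⟨x, s, rfl⟩ := (X.mem_W g).1 h
  exact mul_mem (X.mem_CV.2 (X.w_v x)) (X.mem_CV.2 (X.vv_comm s))
theorem W_le_M : X.W ≤ X.M := le_inf le_normalizer X.W_le_CV
theorem sq_mem (h : g ∈ X.W) : g * g ∈ X.V := by
  obtain ⟨x, s, rfl⟩ := (X.mem_W g).1 h
  exact X.wv_sq x s ▸ X.vv_mem _
theorem comm_mem (h : g ∈ X.W) (h' : k ∈ X.W) : g * k * g⁻¹ * k⁻¹ ∈ X.V := by
  obtain ⟨x, s, e⟩ := (X.mem_W g).1 h
  obtain ⟨y, t, e'⟩ := (X.mem_W k).1 h'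
  have := X.wv_comm x y s t
  rw [← e, ← e', X.mem_CV.1 (X.W_le_CV (mul_mem h' h))] at this
  rw [this, show X.vv (b6 x y) * (k * g) * g⁻¹ * k⁻¹ = X.vv (b6 x y) by group]
  exact X.vv_mem _
theorem pow_four (h : g ∈ X.W) : g ^ 2 ^ 2 = 1 := by
  obtain ⟨s, e⟩ := X.mem_V.1 (X.sq_mem h)
  rw [show 2 ^ 2 = 2 * 2 from rfl, pow_mul, sq, sq, e, X.vv_sq]
theorem isP_W : IsPGroup 2 X.W := fun g => ⟨2, Subtype.ext (X.pow_four g.2)⟩
theorem card_pre {C : Subgroup G} (h : C ≤ X.W) {S : AddSubgroup V6}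
    (e : ∀ x s, X.ww x * X.vv s ∈ C ↔ x ∈ S) : Nat.card C = 4 * Nat.card S := by
  rw [← natCard_eq, ← Nat.card_prod]
  refine (Nat.card_congr (Equiv.ofBijective (fun a : F4 × S =>
    (⟨X.ww a.2 * X.vv a.1, (e _ _).2 a.2.2⟩ : C)) ⟨fun s t h => ?_, fun g => ?_⟩)).symm
  · obtain ⟨a, b⟩ := X.w_inj _ _ _ _ (congrArg Subtype.val h)
    exact Prod.ext b (Subtype.ext a)
  · obtain ⟨x, s, k⟩ := (X.mem_W g).1 (h g.2)
    exact ⟨(s, ⟨x, (e x s).1 (k ▸ g.2)⟩), Subtype.ext k.symm⟩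
theorem card_W : Nat.card X.W = 16384 := by
  rw [X.card_pre le_rfl (S := ⊤) fun x s => by simp [X.wv_mem], AddSubgroup.card_top, card_V6]
/-- the preimage in `W` of an additive subgroup -/
theorem exists_pre (S : AddSubgroup V6) : ∃ C ≤ X.W, X.V ≤ C ∧ Nat.card C = 4 * Nat.card S ∧
    ∀ x s, X.ww x * X.vv s ∈ C ↔ x ∈ S := by
  let C : Subgroup G :=
    { carrier := {g | ∃ x ∈ S, ∃ s, g = X.ww x * X.vv s}
      one_mem' := ⟨0, zero_mem _, 0, by rw [ww_zero, X.vv_zero, mul_one]⟩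
      mul_mem' := by
        rintro _ _ ⟨x, hx, s, rfl⟩ ⟨y, hy, t, rfl⟩
        exact ⟨_, add_mem hx hy, X.wv_mul x y s t⟩
      inv_mem' := by
        rintro _ ⟨x, hx, s, rfl⟩
        exact ⟨_, hx, X.wv_inv x s⟩ }
  have h1 : C ≤ X.W := by
    rintro _ ⟨x, -, s, rfl⟩
    exact X.wv_mem x s
  have h2 : ∀ x s, X.ww x * X.vv s ∈ C ↔ x ∈ S := fun x s =>
    ⟨fun ⟨y, hy, t, e⟩ => (X.w_inj _ _ _ _ e).1 ▸ hy, fun h => ⟨x, h, s, rfl⟩⟩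
  refine ⟨C, h1, fun g h => ?_, X.card_pre h1 h2, h2⟩
  obtain ⟨s, rfl⟩ := X.mem_V.1 h
  exact ⟨0, zero_mem _, s, by rw [ww_zero, one_mul]⟩
/-- the image of a subgroup of `W` containing `V` -/
theorem exists_im {C : Subgroup G} (h : C ≤ X.W) (hV : X.V ≤ C) : ∃ S : AddSubgroup V6,
    Nat.card C = 4 * Nat.card S ∧ ∀ x s, X.ww x * X.vv s ∈ C ↔ x ∈ S := by
  have k : ∀ x s, X.ww x * X.vv s ∈ C ↔ X.ww x ∈ C := fun x s =>
    mul_mem_cancel_right (hV (X.vv_mem s))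
  let S : AddSubgroup V6 :=
    { carrier := {x | X.ww x ∈ C}
      zero_mem' := show X.ww 0 ∈ C from X.ww_zero ▸ one_mem _
      add_mem' := fun {x y} hx hy => by
        obtain ⟨s, e⟩ := X.w_mul x y
        exact (k _ s).1 (e ▸ mul_mem hx hy)
      neg_mem' := fun {x} hx => by rwa [neg_eq_of_add_eq_zero_right (add_self6 x)] }
  exact ⟨S, X.card_pre h k, k⟩
theorem ac_of_cent (h : g ∈ 𝐂(X.W)) : X.Ac g id := fun x =>
  ⟨0, by rw [conj_eq_of_mem_centralizer h (X.ww_mem x), X.vv_zero, mul_one, id]⟩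
theorem ac_one : X.Ac 1 id := X.ac_of_cent (one_mem _)
theorem ac_W (h : g ∈ X.W) : X.Ac g id := fun x => by
  obtain ⟨s, e⟩ := X.mem_V.1 (X.comm_mem h (X.ww_mem x))
  exact ⟨s, by rw [id, X.w_v, ← e, inv_mul_cancel_right]⟩
theorem ac_uniq (a : X.Ac g f) (b : X.Ac g f') : f = f' := funext fun x => by
  obtain ⟨s, e⟩ := a x
  obtain ⟨t, e'⟩ := b x
  exact (X.w_inj _ _ _ _ (e.symm.trans e')).1
theorem ac_wv (hg : g ∈ 𝐍(X.V)) (a : X.Ac g f) (x : V6) (s : F4) :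
    ∃ t, g * (X.ww x * X.vv s) * g⁻¹ = X.ww (f x) * X.vv t := by
  obtain ⟨t, e⟩ := a x
  obtain ⟨u, e'⟩ := X.cj_vv hg s
  exact ⟨_, by rw [cj_mul, e, e', mul_assoc, X.vv_add]⟩
theorem ac_mul (hg : g ∈ 𝐍(X.V)) (a : X.Ac g f) (b : X.Ac k f') : X.Ac (g * k) (f ∘ f') := fun x => by
  obtain ⟨s, e⟩ := b x
  obtain ⟨t, e'⟩ := X.ac_wv hg a (f' x) s
  exact ⟨t, by rw [Function.comp, ← e', ← e]; group⟩
theorem ac_bij (hg : g ∈ 𝐍(X.V)) (a : X.Ac g f) : Function.Bijective f := by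
  refine Finite.injective_iff_bijective.1 fun x y h => ?_
  obtain ⟨s, e⟩ := a x
  obtain ⟨t, e'⟩ := a y
  obtain ⟨u, k⟩ := X.cj_vv (inv_mem hg) s
  obtain ⟨u', k'⟩ := X.cj_vv (inv_mem hg) t
  have : g * (X.ww x * X.vv u) * g⁻¹ = g * (X.ww y * X.vv u') * g⁻¹ := by
    rw [cj_mul, cj_mul, e, e', ← k, ← k', h, show ∀ a, g * (g⁻¹ * a * g⁻¹⁻¹) * g⁻¹ = a by intro; group,
      show ∀ a, g * (g⁻¹ * a * g⁻¹⁻¹) * g⁻¹ = a by intro; group, mul_assoc, mul_assoc, X.vv_sq, X.vv_sq]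
  exact (X.w_inj _ _ _ _ (mul_left_cancel (mul_right_cancel this))).1
theorem ac_inv (hg : g ∈ 𝐍(X.V)) (a : X.Ac g f) (h : ∀ x, f (f' x) = x) : X.Ac g⁻¹ f' := fun x => by
  obtain ⟨s, e⟩ := a (f' x)
  obtain ⟨u, k⟩ := X.cj_vv (inv_mem hg) s
  rw [h, ← mul_inv_eq_iff_eq_mul, X.vv_inv] at e
  exact ⟨u, by rw [← e, ← k]; group⟩
theorem exists_ac (h : g ∈ 𝐍(X.W)) : ∃ f, X.Ac g f := by
  choose f hf using fun x => (X.mem_W _).1 (conj_mem_of_mem_normalizer h (X.ww_mem x))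
  exact ⟨f, hf⟩
theorem ac_add (hg : g ∈ 𝐍(X.V)) (a : X.Ac g f) (x y : V6) : f (x + y) = f x + f y := by
  obtain ⟨s, e⟩ := X.w_mul x y
  obtain ⟨t, e'⟩ := X.ac_wv hg a (x + y) s
  obtain ⟨b, e1⟩ := a x
  obtain ⟨c, e2⟩ := a y
  obtain ⟨u, k⟩ := X.wv_mul (f x) (f y) b c
  rw [← e, cj_mul, e1, e2, k] at e'
  exact (X.w_inj _ _ _ _ e').1.symm
/-- the commutator form under an element normalising `V` -/
theorem ac_b' (a : X.Ac g f) (x y : V6) : X.vv (b6 (f x) (f y)) = g * X.vv (b6 x y) * g⁻¹ := by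
  obtain ⟨b, e1⟩ := a x
  obtain ⟨c, e2⟩ := a y
  have := X.wv_comm (f x) (f y) b c
  rw [← e1, ← e2, ← cj_mul, ← cj_mul, X.w_comm, cj_mul] at this
  exact (mul_left_cancel this).symm
theorem ac_q' (a : X.Ac g f) (x : V6) :
    X.vv (q6 (f x) + X.c0 * f x 1) = g * X.vv (q6 x + X.c0 * x 1) * g⁻¹ := by
  obtain ⟨b, e1⟩ := a x
  rw [← X.wv_sq _ b, ← e1, ← cj_mul, X.w_sq0]
theorem ac_b (hg : g ∈ 𝐂(X.V)) (a : X.Ac g f) (x y : V6) : b6 (f x) (f y) = b6 x y :=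
  X.vv_inj ((X.ac_b' a x y).trans (X.cj_vv' hg _))
theorem ac_q0 (hg : g ∈ 𝐂(X.V)) (a : X.Ac g f) (x : V6) :
    q6 (f x) + X.c0 * f x 1 = q6 x + X.c0 * x 1 := X.vv_inj ((X.ac_q' a x).trans (X.cj_vv' hg _))
theorem ac_smul (hg : g ∈ 𝐂(X.V)) (a : X.Ac g f) (c : F4) (x : V6) : f (c • x) = c • f x := by
  have : f (c • x) + c • f x = 0 := b6_nondeg fun y => by
    obtain ⟨y, rfl⟩ := (X.ac_bij (centralizer_le_normalizer _ hg) a).2 y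
    rw [b6_add_left, b6_smul_left, X.ac_b hg a, X.ac_b hg a, b6_smul_left, f4_self]
  rw [← add_left_inj (c • f x), this, add_self6]
theorem ac_act_mul (hg : g ∈ 𝐍(X.V)) {σ τ : Perm (Fin 8)} (a : X.Ac g (act σ))
    (b : X.Ac k (act τ)) : X.Ac (g * k) (act (σ * τ)) :=
  (funext (act_mul σ τ) : act (σ * τ) = act σ ∘ act τ) ▸ X.ac_mul hg a b
theorem ac_act_inv (hg : g ∈ 𝐍(X.V)) {σ : Perm (Fin 8)} (a : X.Ac g (act σ)) :
    X.Ac g⁻¹ (act σ⁻¹) := X.ac_inv hg a fun x => by rw [← act_mul, mul_inv_cancel, act_one]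
theorem ac_act_one : X.Ac g (act 1) ↔ X.Ac g id := by rw [(funext act_one : act 1 = id)]
theorem ac_act_pow (hg : g ∈ 𝐍(X.V)) {σ : Perm (Fin 8)} (a : X.Ac g (act σ)) (n : ℕ) :
    X.Ac (g ^ n) (act (σ ^ n)) := by
  induction n with
  | zero => rw [pow_zero, pow_zero, ac_act_one]; exact X.ac_one
  | succ n ih => rw [pow_succ', pow_succ']; exact X.ac_act_mul hg a ih
theorem ac_act_uniq {σ τ : Perm (Fin 8)} (a : X.Ac g (act σ)) (b : X.Ac g (act τ)) : σ = τ :=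
  (inv_mul_eq_one.1 (act_faith fun x _ => by
    rw [act_mul, ← X.ac_uniq a b, ← act_mul, inv_mul_cancel, act_one]))
theorem L_ker {l : G} (h : l ∈ X.L) (a : X.Ac l id) : l = 1 :=
  X.p1.L_faith l h fun t => by
    have := a ![0, 0, t 2, t 3, t 4, t 5]
    rwa [id, X.ww_qa rfl rfl] at this
theorem comm_V (hg : g ∈ 𝐍(X.V)) (a : X.Ac g f) {x : V6} {s : F4} :
    g * (X.ww x * X.vv s) * g⁻¹ * (X.ww x * X.vv s)⁻¹ ∈ X.V ↔ f x = x := by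
  obtain ⟨t, e⟩ := X.ac_wv hg a x s
  obtain ⟨u, e'⟩ := X.wv_inv x s
  obtain ⟨c, k⟩ := X.wv_mul (f x) x t u
  rw [e, e', k, wv_mem_V, ← add_left_inj x (b := f x), add_self6]
theorem u_CV (c : F4) : X.u c ∈ 𝐂(X.V) := X.mem_CV.2 fun s => by
  rw [← show _ = X.vv s from X.nb_x 10 s, Fb.u, ← cj_mul, ← cj_mul, X.p_B c _ (X.x_B (by decide) s)]
theorem A_O : X.A ≤ 𝐂(X.O) := le_centralizer_iff.1 X.O_K
theorem u_O (c : F4) : X.u c ∈ 𝐂(X.O) :=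
  mul_mem (mul_mem (X.A_O X.nb_mem) (X.p_O c)) (inv_mem (X.A_O X.nb_mem))

end

theorem ac_norm (hg : g ∈ 𝐍(X.V)) (a : X.Ac g f) : g ∈ 𝐍(X.W) :=
  mem_normalizer_of_cj_le fun y hy => by
    obtain ⟨y, hy', rfl⟩ := mem_cj'.1 hy
    obtain ⟨x, s, rfl⟩ := (X.mem_W y).1 hy'
    exact (X.mem_W _).2 ⟨_, X.ac_wv hg a x s⟩
theorem L_le_M : X.L ≤ X.M := fun l h => by
  obtain ⟨σ, -, a⟩ := X.L_ac l h
  have := X.B_le_CV (X.L_le_B h)
  exact ⟨X.ac_norm (centralizer_le_normalizer _ this) a, this⟩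
theorem B_le_M : X.B ≤ X.M := sup_le (X.QA_le_W.trans X.W_le_M) X.L_le_M

end Fc

omit [Finite G] in
theorem Fd.ac_q (X : Fd G) {g : G} {f : V6 → V6} (hg : g ∈ 𝐂(X.V)) (a : X.Ac g f) (x : V6) :
    q6 (f x) = q6 x := by
  obtain ⟨b, e1⟩ := a x
  refine X.vv_inj ?_
  rw [← X.cj_vv' hg (q6 x), ← X.w_sq x, cj_mul, e1, X.wv_mul', f4_self, X.vv_zero, mul_one, X.w_sq]

namespace Fe

variable (X : Fe G) {m : G}

section
omit [Finite G]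

theorem O_le_M : X.O ≤ X.M :=
  le_inf (X.O_W.trans (centralizer_le_normalizer _)) (X.O_W.trans (centralizer_anti X.V_le_W))
theorem W_O : X.W ≤ 𝐂(X.O) := le_centralizer_iff.1 X.O_W
theorem two_ker (hm : m ∈ X.M) (a : X.Ac m id) {j : ℕ} (h2 : m ^ 2 ^ j = 1) : m ∈ X.W := by
  obtain ⟨o, ho, y, hy, rfl⟩ := X.M_ker m hm a
  refine mem_of_odd_pow h2 X.O_odd ?_
  rw [(show Commute o y from X.W_O hy o ho).mul_pow, pow_card_one ho, one_mul]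
  exact pow_mem hy _
theorem M_NV : X.M ≤ 𝐍(X.V) := fun _ h => centralizer_le_normalizer _ h.2
theorem M_split (hm : m ∈ X.M) : ∃ o ∈ X.O, ∃ k ∈ X.M, k ∈ 𝐂(X.O) ∧ m = o * k := by
  obtain ⟨σ, h, a⟩ := X.M_ac m hm
  obtain ⟨k, hk, kO, b⟩ := X.M_ex σ h
  have := X.ac_act_mul (X.M_NV hm) a (X.ac_act_inv (X.M_NV hk) b)
  rw [mul_inv_cancel, X.ac_act_one] at this
  obtain ⟨o, ho, y, hy, e⟩ := X.M_ker _ (mul_mem hm (inv_mem hk)) this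
  exact ⟨o, ho, y * k, mul_mem (X.W_le_M hy) hk, mul_mem (X.W_O hy) kO, by
    rw [← mul_assoc, ← e, inv_mul_cancel_right]⟩
theorem M_O : X.M ≤ 𝐍(X.O) := fun m hm => by
  obtain ⟨o, ho, k, -, hk, rfl⟩ := X.M_split hm
  exact mul_mem (le_normalizer ho) (centralizer_le_normalizer _ hk)
theorem exists_hom : ∃ ρ : X.M →* Perm (Fin 8), ∀ m : X.M, Ev (ρ m) ∧ X.Ac m (act (ρ m)) := by
  choose σ h a using fun m : X.M => X.M_ac m m.2
  exact ⟨MonoidHom.mk' σ fun g k => X.ac_act_uniq (a _) (X.ac_act_mul (X.M_NV g.2) (a g) (a k)),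
    fun m => ⟨h m, a m⟩⟩

end

omit [Finite G] in
theorem card_M : Nat.card X.M = Nat.card X.O * 16384 * 20160 := by
  obtain ⟨ρ, h⟩ := X.exists_hom
  have h1 : Nat.card ρ.range = 20160 := by
    rw [← card_Ev]
    refine Nat.card_congr (Equiv.subtypeEquivRight fun σ => ⟨?_, fun e => ?_⟩)
    · rintro ⟨m, rfl⟩; exact (h m).1
    · obtain ⟨m, hm, -, a⟩ := X.M_ex σ e
      exact ⟨⟨m, hm⟩, X.ac_act_uniq (h _).2 a⟩
  have h2 : Nat.card ρ.ker = Nat.card X.O * 16384 := by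
    rw [← X.card_W, ← Nat.card_prod]
    refine (Nat.card_congr (Equiv.ofBijective (fun a : X.O × X.W => (⟨⟨a.1 * a.2,
      mul_mem (X.O_le_M a.1.2) (X.W_le_M a.2.2)⟩, X.ac_act_uniq (h _).2 (X.ac_act_one.2
        (X.ac_mul (X.M_NV (X.O_le_M a.1.2)) (X.ac_of_cent (X.O_W a.1.2)) (X.ac_W a.2.2)))⟩ : ρ.ker))
      ⟨fun a b e => ?_, fun g => ?_⟩)).symm
    · have e : (a.1 * a.2 : G) = b.1 * b.2 := congrArg (fun x : ρ.ker => (x.1 : G)) e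
      have e1 : ((b.1 : G)⁻¹ * a.1 : G) = b.2 * (a.2 : G)⁻¹ := by
        rw [inv_mul_eq_iff_eq_mul, ← mul_assoc, ← e, mul_inv_cancel_right]
      have := eq_one_of_odd X.O_odd (mul_mem (inv_mem b.1.2) a.1.2)
        (X.pow_four (e1 ▸ mul_mem b.2.2 (inv_mem a.2.2)))
      rw [inv_mul_eq_one] at this
      exact Prod.ext (Subtype.ext this.symm) (Subtype.ext (mul_left_cancel (this ▸ e)))
    · have a := (h g).2
      rw [show ρ g = 1 from g.2, X.ac_act_one] at a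
      obtain ⟨o, ho, y, hy, e⟩ := X.M_ker _ g.1.2 a
      exact ⟨(⟨o, ho⟩, ⟨y, hy⟩), Subtype.ext (Subtype.ext e.symm)⟩
  rw [← h2, ← h1, ← index_ker, card_mul_index]

end Fe

end H79.AS
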