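import Mathlib
import Cfsg.Prelude.Def_Local
import Cfsg.Prelude.Def_ChevG2
import Cfsg.Agent.Lib.ClGeo.F4
import Cfsg.Agent.Lib.LocStruct.SylowIn

/-! A standard subgroup `G₂(4)` whose centraliser has 2-rank at least two: the frames. -/

set_option autoImplicit false

namespace H79.AS

open H30 H30.F4 H69 Subgroup Cfsg Equiv

/-! ### The orthogonal space `F₄ ⊗ O₆⁺(2)` with its action of `S₈` -/

/-- coordinates `(r, r', b, a+b, 2a+b, 3a+b)` -/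
abbrev V6 : Type := Fin 6 → F4

def q6 (x : V6) : F4 := x 0 * x 1 + x 2 * x 5 + x 3 * x 4

def b6 (x y : V6) : F4 :=
  x 0 * y 1 + x 1 * y 0 + (x 2 * y 5 + x 5 * y 2) + (x 3 * y 4 + x 4 * y 3)

/-- a vector as a function on eight points with sum zero, modulo constants -/
def enc (x : V6) : Fin 8 → F4 :=
  ![x 0 + x 1 + x 2, v * x 0 + w * x 1 + x 2, w * x 0 + v * x 1 + x 2, x 2 + x 5,
    x 3 + x 4 + x 5, v * x 3 + w * x 4 + x 5, w * x 3 + v * x 4 + x 5, 0]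

def dec (f : Fin 8 → F4) : V6 :=
  ![f 0 + w * f 1 + v * f 2, f 0 + v * f 1 + w * f 2, f 3 + f 4 + f 5 + f 6,
    f 4 + w * f 5 + v * f 6, f 4 + v * f 5 + w * f 6, f 0 + f 1 + f 2 + f 3]

def act (σ : Perm (Fin 8)) (x : V6) : V6 := dec fun i => enc x (σ⁻¹ i)

/-- the semilinear involution whose fixed vectors are the rational ones -/
def bar (x : V6) : V6 := ![x 1 * x 1, x 0 * x 0, x 2 * x 2, x 4 * x 4, x 3 * x 3, x 5 * x 5]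

/-- the field automorphism -/
def frob (x : V6) : V6 := fun i => x i * x i

/-- the action of the torus element `θ` -/
def thv (x : V6) : V6 := ![x 0, v * x 1, w * x 2, w * x 3, w * x 4, w * x 5]

/-- the action of `x_a(c)` -/
def xav (c : F4) (x : V6) : V6 :=
  ![x 0, x 1, x 2, x 3 + c * x 2, x 4 + c * c * x 2, x 5 + c * c * x 3 + c * x 4 + c * c * c * x 2]

/-- the action of `n_a` -/
def nav (x : V6) : V6 := ![x 0, x 1, x 5, x 4, x 3, x 2]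

/-- the action of `n_b r'(γ) n_b⁻¹` -/
def uv (b γ : F4) (x : V6) : V6 :=
  ![x 0 + b * γ * γ * x 2, x 1 + γ * x 2, x 2, x 3, x 4,
    x 5 + γ * x 0 + b * γ * γ * x 1 + b * γ * γ * γ * x 2]

def er (α : F4) : V6 := ![α, 0, 0, 0, 0, 0]
def e5 (t : F4) : V6 := ![0, 0, 0, 0, 0, t]
/-- a rational singular vector fixed by `x_a(1)` -/
def p0 : V6 := ![1, 1, 0, 1, 1, 0]

/-- even permutations -/
def Ev (σ : Perm (Fin 8)) : Prop := Perm.sign σ = 1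

/-- the alternating group on the last five points -/
def A5 (σ : Perm (Fin 8)) : Prop := Perm.sign σ = 1 ∧ σ 0 = 0 ∧ σ 1 = 1 ∧ σ 2 = 2

/-- the orbit of `r` -/
def Dv (x : V6) : Prop := ∃ σ, Ev σ ∧ x = act σ (er 1)

/-! ### The group `G₂(4)` -/

/-- the subgroup generated by the elements of order five of a set -/
def F5 {G : Type*} [Group G] (S : Set G) : Subgroup G := closure {g | g ∈ S ∧ g ^ 5 = 1}

/-- Root elements (numbered as in `chevG2`: `4 = -a`, `5 = -b`, `6 = b`, `7 = a`, `8 = a+b`,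
`9 = 2a+b`, `10 = 3a+b`, `11 = 3a+2b`) and their relations. -/
structure Rt (G : Type*) [Group G] where
  x : Fin 12 → F4 → G
  na : G
  nb : G
  th : G
  ha : G
  x_add : ∀ r s t, x r (s + t) = x r s * x r t
  na_eq : na = x 7 1 * x 4 1 * x 7 1
  nb_eq : nb = x 6 1 * x 5 1 * x 6 1
  ha_eq : ha = x 7 w * x 4 v * x 7 w * na
  ha_sq : ha * ha = x 7 v * x 4 w * x 7 v * na
  ha_cube : ha * ha * ha = 1
  th_eq : th = x 11 w * x 0 v * x 11 w * (x 11 1 * x 0 1 * x 11 1)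
  q_mul : ∀ s t : V6, x 6 (s 2) * x 8 (s 3) * x 9 (s 4) * x 10 (s 5) *
    (x 6 (t 2) * x 8 (t 3) * x 9 (t 4) * x 10 (t 5)) =
    x 6 (s 2 + t 2) * x 8 (s 3 + t 3) * x 9 (s 4 + t 4) * x 10 (s 5 + t 5) *
      x 11 (s 5 * t 2 + s 4 * t 3)
  q_inj : ∀ a b c d s, x 6 a * x 8 b * x 9 c * x 10 d * x 11 s = 1 →
    a = 0 ∧ b = 0 ∧ c = 0 ∧ d = 0 ∧ s = 0
  v_comm : ∀ r s t, r = 4 ∨ 6 ≤ r → x r t * x 11 s = x 11 s * x r t
  a6 : ∀ c t, x 7 c * x 6 t * (x 7 c)⁻¹ =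
    x 6 t * x 8 (c * t) * x 9 (c * c * t) * x 10 (c * c * c * t) * x 11 (c * c * c * t * t)
  a8 : ∀ c t, x 7 c * x 8 t * (x 7 c)⁻¹ = x 8 t * x 10 (c * c * t) * x 11 (c * t * t)
  a9 : ∀ c t, x 7 c * x 9 t * (x 7 c)⁻¹ = x 9 t * x 10 (c * t)
  a10 : ∀ c t, x 7 c * x 10 t = x 10 t * x 7 c
  na_x : ∀ r t, na * x r t * na⁻¹ = x (![0, 5, 3, 2, 7, 1, 10, 4, 9, 8, 6, 11] r) t
  nb_x : ∀ r t, nb * x r t * nb⁻¹ = x (![1, 0, 2, 4, 3, 6, 5, 8, 7, 9, 11, 10] r) t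
  th_x : ∀ r t, th * x r t * th⁻¹ = x r (![w, v, v, v, 1, v, w, 1, w, w, w, v] r * t)
  ha_x : ∀ r t, ha * x r t * ha⁻¹ = x r (![1, 1, v, w, w, 1, 1, v, v, w, 1, 1] r * t)
  na_sq : na * na = 1
  nb_sq : nb * nb = 1
  th_cube : th * th * th = 1
  ha_nb : ha * nb = nb * ha
  nb_th : nb * th * nb⁻¹ = th * th * ha * ha

namespace Rt

variable {G : Type*} [Group G] (X : Rt G)

/-- the long root group `V` -/
def vv (s : F4) : G := X.x 11 s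
def z : G := X.x 11 1
/-- the section of `Q_A / V` -/
def qa (t : V6) : G := X.x 6 (t 2) * X.x 8 (t 3) * X.x 9 (t 4) * X.x 10 (t 5)
def A : Subgroup G := closure {g | ∃ r t, g = X.x r t}
def V : Subgroup G := closure {g | ∃ s, g = X.vv s}
def QA : Subgroup G := closure {g | ∃ t s, g = X.qa t * X.vv s}
def L : Subgroup G := closure {g | ∃ t, g = X.x 7 t ∨ g = X.x 4 t}
def B : Subgroup G := X.QA ⊔ X.L
/-- `n` acts on `A` as the field automorphism -/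
def Phi (n : G) : Prop := ∀ r t, n * X.x r t * n⁻¹ = X.x r (t * t)
/-- the conjugates of the involutions of the centraliser of `A` -/
def D (d : G) : Prop := ∃ g k, k ∈ 𝐂(X.A) ∧ k * k = 1 ∧ k ≠ 1 ∧ d = g * k * g⁻¹

/-- `d` is an involution of a conjugate of `C(A)` other than `C(A)` -/
def Pr (g d : G) : Prop := g ∉ 𝐍(X.A) ∧ d ∈ 𝐂(X.A) ^ᶜ g ∧ d * d = 1 ∧ d ≠ 1

/-- the root elements come from the Chevalley group -/
structure Md (e : Lie.chevG2.group F4 →* G) : Prop where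
  inj : Function.Injective e
  x : ∀ (r : Fin 12) (t : F4) (g : Lie.chevG2.group F4),
    ((g : GL Lie.chevG2.Idx F4) : Matrix Lie.chevG2.Idx Lie.chevG2.Idx F4) =
      Lie.chevG2.xMat F4 r t → e g = X.x r t

/-- The facts on the Levi factor `L ≅ A₅` and on `B = C_A(z)`. -/
structure P1 : Prop where
  L_act : ∀ l ∈ X.L, ∃ σ, A5 σ ∧
    ∀ t : V6, t 0 = 0 → t 1 = 0 → ∃ s, l * X.qa t * l⁻¹ = X.qa (act σ t) * X.vv s
  L_ex : ∀ σ, A5 σ → ∃ l ∈ X.L,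
    ∀ t : V6, t 0 = 0 → t 1 = 0 → ∃ s, l * X.qa t * l⁻¹ = X.qa (act σ t) * X.vv s
  L_faith : ∀ l ∈ X.L, (∀ t, ∃ s, l * X.qa t * l⁻¹ = X.qa t * X.vv s) → l = 1
  L_two : ∀ P ≤ X.L, IsPGroup 2 P → ∃ l ∈ X.L, ∀ g ∈ P, ∃ c, l * g * l⁻¹ = X.x 7 c
  card_L : Nat.card X.L = 60
  mem_B : ∀ b, b ∈ X.B ↔ ∃ t s, ∃ l ∈ X.L, b = X.qa t * X.vv s * l
  card_B : Nat.card X.B = 61440
  B_five : X.B = F5 X.B
  L_five : X.L = F5 X.L
  B_norm : ∀ J ≤ X.B, X.B ≤ 𝐍(J) → J ≤ X.V ∨ ∃ t ≠ 0, X.x 10 t ∈ J ∧ X.vv t ∈ J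
  B_soc : ∀ J ≤ X.B, X.B ≤ 𝐍(J) → J ≠ ⊥ → ∃ s ≠ 0, X.vv s ∈ J
  B_cent : ∀ b ∈ X.B, b ∈ 𝐂(X.QA) → b ∈ X.V
  B_core : ∀ J ≤ X.B, X.B ≤ 𝐍(J) → IsPGroup 2 J → J ≤ X.QA
  A_gen : X.A = X.B ⊔ zpowers X.nb

/-- The facts on the involutions of `A`. -/
structure P2 : Prop where
  simple : IsSimpleGroup X.A
  cV : ∀ a ∈ X.A, ∀ s ≠ 0, a * X.vv s = X.vv s * a → a ∈ X.B
  cls : ∀ a ∈ X.A, a * a = 1 → a ≠ 1 → ∃ g ∈ X.A, g * a * g⁻¹ = X.z ∨ g * a * g⁻¹ = X.x 9 1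
  card_cS : Nat.card (X.A ⊓ centralizer {X.x 9 1} : Subgroup G) = 3840
  cS_long : ∀ a ∈ F5 ((X.A ⊓ centralizer {X.x 9 1} : Subgroup G) : Set G), a * a = 1 → a ≠ 1 →
    ∃ g ∈ X.A, g * a * g⁻¹ = X.z
  cS_z : X.z ∈ F5 ((X.A ⊓ centralizer {X.x 9 1} : Subgroup G) : Set G)

/-- The facts on the automorphisms of `A`. -/
structure P3 : Prop where
  aut : ∀ n ∈ 𝐍(X.A), ∃ a ∈ X.A, a * n ∈ 𝐂(X.A) ∨ X.Phi (a * n)
  aut2 : ∀ n ∈ 𝐍(X.A), n * n ∈ 𝐂(X.A) →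
    (∃ a ∈ X.A, a * n ∈ 𝐂(X.A)) ∨ ∃ a ∈ X.A, X.Phi (a * n * a⁻¹)

end Rt

/-- `A` is a standard subgroup whose centraliser contains a four-group. -/
structure St (G : Type*) [Group G] extends Rt G where
  p1 : toRt.P1
  p2 : toRt.P2
  p3 : toRt.P3
  std : IsStandardSubgroup toRt.A
  four : ∃ a ∈ 𝐂(toRt.A), ∃ b ∈ 𝐂(toRt.A), a * a = 1 ∧ b * b = 1 ∧ a * b = b * a ∧
    a ≠ 1 ∧ b ≠ 1 ∧ a ≠ b

/-- After the opening: the four-group `R`, the odd group `O = K ∩ K₁`, the element `n = θ₁ θ⁻¹`. -/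
structure Fa (G : Type*) [Group G] extends St G where
  r : F4 → G
  O : Subgroup G
  n : G
  r_add : ∀ a b, r (a + b) = r a * r b
  r_K : ∀ a, r a ∈ 𝐂(toRt.A)
  r_ne : ∀ a ≠ 0, r a ≠ 1
  O_odd : Odd (Nat.card O)
  O_K : O ≤ 𝐂(toRt.A)
  r_O : ∀ a, r a ∈ 𝐍(O)
  cK : ∀ a ≠ 0, ∀ k ∈ 𝐂(toRt.A), k * r a = r a * k → ∃ o ∈ O, ∃ b, k = o * r b
  n_O : n ∈ 𝐂(O)
  n_v : ∀ s, n * toRt.vv s = toRt.vv s * n
  n_r : ∀ a, n * r a * n⁻¹ = r a * toRt.vv (w * a)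
  n_q : ∀ t, ∃ s, n * toRt.qa t * n⁻¹ = toRt.qa t * toRt.vv s
  n_L : ∀ l ∈ toRt.L, l⁻¹ * (n * l * n⁻¹) ∈ toRt.QA

/-- The elements `r'(γ)`. -/
structure Fb (G : Type*) [Group G] extends Fa G where
  p : F4 → G
  p_B : ∀ c, p c ∈ 𝐂(toRt.B)
  p_O : ∀ c, p c ∈ 𝐂(O)
  p_r : ∀ c a, p c * r a * (p c)⁻¹ = r a * toRt.vv (a * c)
  p_add : ∀ c d, ∃ s, p c * p d = p (c + d) * toRt.vv s
  p_zero : p 0 = 1
  p_th : ∀ c, ∃ s, th * p c * th⁻¹ = p (v * c) * toRt.vv s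

namespace Fb

variable {G : Type*} [Group G] (X : Fb G)

/-- the section of `W / V` -/
def ww (x : V6) : G := X.r (x 0) * X.p (x 1) * X.qa x
def W : Subgroup G := closure {g | ∃ x s, g = X.ww x * X.vv s}
def M : Subgroup G := 𝐍(X.W) ⊓ 𝐂(X.V)
/-- `g` acts on `W / V` as `f` -/
def Ac (g : G) (f : V6 → V6) : Prop := ∀ x, ∃ s, g * X.ww x * g⁻¹ = X.ww (f x) * X.vv s
/-- `u(γ) = n_b r'(γ) n_b⁻¹` -/
def u (c : F4) : G := X.nb * X.p c * X.nb⁻¹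

end Fb

/-- The group `W = 2^(2+12)`. -/
structure Fc (G : Type*) [Group G] extends Fb G where
  c0 : F4
  mem_W : ∀ g, g ∈ toFb.W ↔ ∃ x s, g = toFb.ww x * toRt.vv s
  w_inj : ∀ x s y t, toFb.ww x * toRt.vv s = toFb.ww y * toRt.vv t → x = y ∧ s = t
  w_mul : ∀ x y, ∃ s, toFb.ww x * toFb.ww y = toFb.ww (x + y) * toRt.vv s
  w_comm : ∀ x y, toFb.ww x * toFb.ww y = toFb.ww y * toFb.ww x * toRt.vv (b6 x y)
  w_sq0 : ∀ x, toFb.ww x * toFb.ww x = toRt.vv (q6 x + c0 * x 1)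
  w_v : ∀ x s, toFb.ww x * toRt.vv s = toRt.vv s * toFb.ww x
  NR : ∀ a ≠ 0, ∀ g ∈ 𝐂(toRt.V), (∃ s, g * r a * g⁻¹ = r a * toRt.vv s) →
    ∃ o ∈ O, ∃ y ∈ toFb.W, ∃ l ∈ toRt.L, o * r a = r a * o ∧ g = o * y * l
  L_ac : ∀ l ∈ toRt.L, ∃ σ, A5 σ ∧ toFb.Ac l (act σ)
  L_ac' : ∀ σ, A5 σ → ∃ l ∈ toRt.L, toFb.Ac l (act σ)
  xa_ac : ∀ c, toFb.Ac (x 7 c) (xav c)
  na_ac : toFb.Ac na nav
  ha_ac : toFb.Ac ha fun y => ![y 0, y 1, y 2, v * y 3, w * y 4, y 5]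
  th_ac : toFb.Ac th thv

/-- The quadratic form on `W / V` and the parameter `b`. -/
structure Fd (G : Type*) [Group G] extends Fc G where
  b : F4
  w_sq : ∀ x, toFb.ww x * toFb.ww x = toRt.vv (q6 x)
  u_ac : ∀ c, toFb.Ac (toFb.u c) (uv b c)

/-- `M / O W ≅ A₈`. -/
structure Fe (G : Type*) [Group G] extends Fd G where
  O_W : O ≤ 𝐂(toFb.W)
  M_ac : ∀ m ∈ toFb.M, ∃ σ, Ev σ ∧ toFb.Ac m (act σ)
  M_ex : ∀ σ, Ev σ → ∃ m ∈ toFb.M, m ∈ 𝐂(O) ∧ toFb.Ac m (act σ)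
  M_ker : ∀ m ∈ toFb.M, toFb.Ac m id → ∃ o ∈ O, ∃ y ∈ toFb.W, m = o * y
  M_D : ∀ x, Dv x → ∀ g ∈ 𝐂(toRt.V), (∃ s, g * toFb.ww x * g⁻¹ = toFb.ww x * toRt.vv s) →
    g ∈ toFb.M

/-- `C(V) = M`, an element `t` inducing the semilinear involution, an element `y` moving `V`. -/
structure Ft (G : Type*) [Group G] extends Fe G where
  t : G
  y : G
  CV : 𝐂(toRt.V) ≤ 𝐍(toFb.W)
  t_O : t ∈ 𝐂(O)
  t_v : ∀ s, t * toRt.vv s * t⁻¹ = toRt.vv (s * s)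
  t_ac : toFb.Ac t bar
  y_z : y * toRt.z = toRt.z * y
  y_v : y * toRt.vv w * y⁻¹ = x 10 1 * toRt.vv w
  y_x : y * x 10 1 = x 10 1 * y

end H79.AS
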