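import Cfsg.Agent.Lib.ASG.GW

/-! The root elements of `G₂(4)`. -/

set_option autoImplicit false

namespace H40.GW

open H30 H30.F4 Subgroup Cfsg

theorem q_abs {G : Type*} [Group G] {a b c d a' b' c' d' y z : G} (hy : d * a' = a' * d * y)
    (hz : c * b' = b' * c * z) (h1 : Commute b a') (h2 : Commute c a') (h3 : Commute d b')
    (h4 : Commute d c') (y1 : Commute y b') (y2 : Commute y c') (y3 : Commute y d')
    (z1 : Commute z c') (z2 : Commute z d) (z3 : Commute z d') (z4 : Commute z y) :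
    a * b * c * d * (a' * b' * c' * d') = a * a' * (b * b') * (c * c') * (d * d') * (y * z) := by
  calc a * b * c * d * (a' * b' * c' * d') = a * b * c * (d * a') * (b' * c' * d') := by group
    _ = a * (b * (c * a')) * d * (y * (b' * c' * d')) := by rw [hy]; group
    _ = a * a' * b * c * (d * (b' * c')) * d' * y := by
      rw [h2.eq, ← mul_assoc b, h1.eq, ((y1.mul_right y2).mul_right y3).eq]; group
    _ = a * a' * b * (c * b') * (c' * d * d') * y := by rw [(h3.mul_right h4).eq]; group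
    _ = a * a' * b * b' * c * (z * (c' * d * d' * y)) := by rw [hz]; group
    _ = _ := by rw [(((z1.mul_right z2).mul_right z3).mul_right z4).eq]; group

abbrev wna : Wd := [(7, 1), (4, 1), (7, 1)]
abbrev wnb : Wd := [(6, 1), (5, 1), (6, 1)]
abbrev wha : Wd := [(7, w), (4, v), (7, w), (7, 1), (4, 1), (7, 1)]
abbrev wth : Wd := [(11, w), (0, v), (11, w), (11, 1), (0, 1), (11, 1)]

theorem ck1 : (∀ (r : Fin 12) (s t : F4), eqw [(r, s + t)] [(r, s), (r, t)] = true) ∧
    eqw (wha ++ wha) ([(7, v), (4, w), (7, v)] ++ wna) = true ∧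
    eqw (wha ++ wha ++ wha) [] = true ∧ eqw (wna ++ wna) [] = true ∧ eqw (wnb ++ wnb) [] = true ∧
    eqw (wth ++ wth ++ wth) [] = true ∧ eqw (wha ++ wnb) (wnb ++ wha) = true ∧
    eqw (wnb ++ wth) (wth ++ wth ++ wha ++ wha ++ wnb) = true := by decide +kernel

theorem ck2 : (∀ (r : Fin 12) (s t : F4), r = 4 ∨ 6 ≤ r →
      eqw [(r, t), (11, s)] [(11, s), (r, t)] = true) ∧
    (∀ s t : F4, eqw [(10, s), (6, t)] [(6, t), (10, s), (11, s * t)] = true ∧
      eqw [(9, s), (8, t)] [(8, t), (9, s), (11, s * t)] = true ∧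
      eqw [(8, s), (6, t)] [(6, t), (8, s)] = true ∧ eqw [(9, s), (6, t)] [(6, t), (9, s)] = true ∧
      eqw [(10, s), (8, t)] [(8, t), (10, s)] = true ∧
      eqw [(10, s), (9, t)] [(9, t), (10, s)] = true) ∧
    ∀ c t : F4, eqw [(7, c), (6, t)] [(6, t), (8, c * t), (9, c * c * t), (10, c * c * c * t),
        (11, c * c * c * t * t), (7, c)] = true ∧
      eqw [(7, c), (8, t)] [(8, t), (10, c * c * t), (11, c * t * t), (7, c)] = true ∧
      eqw [(7, c), (9, t)] [(9, t), (10, c * t), (7, c)] = true ∧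
      eqw [(7, c), (10, t)] [(10, t), (7, c)] = true := by decide +kernel

theorem ck3 : ∀ a b c d s : F4, eqw [(6, a), (8, b), (9, c), (10, d), (11, s)] [] = true →
    a = 0 ∧ b = 0 ∧ c = 0 ∧ d = 0 ∧ s = 0 := by decide +kernel

theorem ck4 : ∀ (r : Fin 12) (t : F4),
    eqw (wna ++ [(r, t)]) ([(![0, 5, 3, 2, 7, 1, 10, 4, 9, 8, 6, 11] r, t)] ++ wna) = true ∧
    eqw (wnb ++ [(r, t)]) ([(![1, 0, 2, 4, 3, 6, 5, 8, 7, 9, 11, 10] r, t)] ++ wnb) = true ∧
    eqw (wth ++ [(r, t)]) ([(r, ![w, v, v, v, 1, v, w, 1, w, w, w, v] r * t)] ++ wth) = true ∧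
    eqw (wha ++ [(r, t)]) ([(r, ![1, 1, v, w, w, 1, 1, v, v, w, 1, 1] r * t)] ++ wha) = true := by
  decide +kernel

end H40.GW

namespace H79.AS

open H30 H30.F4 H69 Subgroup Cfsg Equiv H40.GW

variable {G : Type*} [Group G] [Finite G]

theorem exists_rt {A : Subgroup G} {F : Type*} [Field F] [Fintype F] (hF : Fintype.card F = 4)
    (h : Nonempty (A ≃* Lie.chevG2.group F)) : ∃ X : Rt G, X.A = A ∧ ∃ e, X.Md e := by
  obtain ⟨φ⟩ := h
  obtain ⟨f⟩ := F4.nonempty_ringEquiv hF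
  obtain ⟨e, hi, hr⟩ : ∃ e : Gm →* G, Function.Injective e ∧ e.range = A := by
    let ψ := (φ.trans (H37.tabG2.fieldEquiv f)).symm
    refine ⟨A.subtype.comp ψ.toMonoidHom, A.subtype_injective.comp ψ.injective, ?_⟩
    rw [MonoidHom.range_comp, MonoidHom.range_eq_top.2 ψ.surjective, ← MonoidHom.range_eq_map,
      range_subtype]
  obtain ⟨x, hx⟩ : ∃ x : Fin 12 → F4 → G, ∀ r t, e (xg r t) = x r t := ⟨_, fun _ _ => rfl⟩
  have E : ∀ {u v : Wd}, eqw u v = true → ev x u = ev x v := (eqw_iff hi hx _ _).1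
  have one : ∀ r t, ev x [(r, t)] = x r t := fun r t => mul_one _
  have two : ∀ {r s r' s' t u t' u'}, eqw [(r, t), (s, u)] [(r', t'), (s', u')] = true →
      x r t * x s u = x r' t' * x s' u' := fun h => by simpa only [ev, mul_one] using E h
  have add : ∀ r s t, x r (s + t) = x r s * x r t := fun r s t => by
    simpa only [ev, mul_one] using E (ck1.1 r s t)
  have vc : ∀ r s t, r = 4 ∨ 6 ≤ r → x r t * x 11 s = x 11 s * x r t := fun r s t h =>
    two (ck2.1 r s t h)
  obtain ⟨-, c1, c2, c3, c4, c5, c6, c7⟩ := ck1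
  refine ⟨⟨x, ev x wna, ev x wnb, ev x wth, ev x wha, add, by simp only [ev, mul_one, mul_assoc],
    by simp only [ev, mul_one, mul_assoc], by simp only [ev, mul_one, mul_assoc],
    by simpa only [ev_append, ev, mul_one, mul_assoc] using E c1,
    by simpa only [ev_append, ev_nil] using E c2, by simp only [ev, mul_one, mul_assoc],
    fun s t => ?_, fun a b c d s h => ck3 a b c d s ((eqw_iff hi hx _ _).2 ?_), vc,
    fun c t => mul_inv_eq_iff_eq_mul.2 ?_, fun c t => mul_inv_eq_iff_eq_mul.2 ?_,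
    fun c t => mul_inv_eq_iff_eq_mul.2 ?_, fun c t => two (ck2.2.2 c t).2.2.2,
    fun r t => mul_inv_eq_iff_eq_mul.2 ?_, fun r t => mul_inv_eq_iff_eq_mul.2 ?_,
    fun r t => mul_inv_eq_iff_eq_mul.2 ?_, fun r t => mul_inv_eq_iff_eq_mul.2 ?_,
    by simpa only [ev_append, ev_nil] using E c3, by simpa only [ev_append, ev_nil] using E c4,
    by simpa only [ev_append, ev_nil] using E c5, by simpa only [ev_append] using E c6,
    mul_inv_eq_iff_eq_mul.2 (by simpa only [ev_append] using E c7)⟩, ?_, e, hi, fun r t g hg => ?_⟩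
  · rw [add, add, add, add, add]
    refine q_abs ?_ ?_ (two (ck2.2.1 _ _).2.2.1) (two (ck2.2.1 _ _).2.2.2.1)
      (two (ck2.2.1 _ _).2.2.2.2.1) (two (ck2.2.1 _ _).2.2.2.2.2) (vc _ _ _ (by decide)).symm
      (vc _ _ _ (by decide)).symm (vc _ _ _ (by decide)).symm (vc _ _ _ (by decide)).symm
      (vc _ _ _ (by decide)).symm (vc _ _ _ (by decide)).symm (vc _ _ _ (by decide))
    · simpa only [ev, mul_one, mul_assoc] using E (ck2.2.1 _ _).1
    · simpa only [ev, mul_one, mul_assoc] using E (ck2.2.1 _ _).2.1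
  · simpa only [ev, mul_one, mul_assoc] using h
  · simpa only [ev, mul_one, mul_assoc] using E (ck2.2.2 c t).1
  · simpa only [ev, mul_one, mul_assoc] using E (ck2.2.2 c t).2.1
  · simpa only [ev, mul_one, mul_assoc] using E (ck2.2.2 c t).2.2.1
  · simpa only [ev_append, one] using E (ck4 r t).1
  · simpa only [ev_append, one] using E (ck4 r t).2.1
  · simpa only [ev_append, one] using E (ck4 r t).2.2.1
  · simpa only [ev_append, one] using E (ck4 r t).2.2.2
  · rw [← hr, MonoidHom.range_eq_map, ← xg_top, MonoidHom.map_closure, Rt.A]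
    exact congrArg Subgroup.closure (Set.ext fun g => ⟨fun ⟨r, t, h⟩ => ⟨_, ⟨r, t, rfl⟩,
      (hx r t).trans h.symm⟩, fun ⟨_, ⟨r, t, h⟩, h'⟩ => ⟨r, t, by rw [← h', h, hx]⟩⟩)
  · rw [xg_eq hg]
    exact hx r t

end H79.AS
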