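import Cfsg.Agent.Lib.ASG.Lin
import Cfsg.Agent.Lib.ASG.Bas

/-! The singular elements of `Q` fix a unique conjugate of `Q` under `C(z)`. -/

set_option autoImplicit false

namespace H79.AS

open H30 H30.F4 H69 Subgroup Cfsg Equiv
open H16.P8
open H96.E8 (O8)

variable {G : Type*} [Group G] [Finite G]

namespace HA

/-- an involution other than `z` -/
def Sg (z x : G) : Prop := x * x = 1 ∧ x ≠ 1 ∧ x ≠ z

/-- the part of `Fg` used for both conjugates -/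
structure Fh (z : G) (Q : Subgroup G) (π : G → V8) : Prop where
  cd : Cd Q z π
  nm : ∀ s ∈ Q, Sg z s → ∀ k, k * z = z * k → k * s * k⁻¹ ∈ Q → k ∈ 𝐍(Q)
  ker : ∀ g ∈ 𝐍(Q), Act Q z π g 1 → g * g = 1 → g ∈ Q

/-- lifts of a singular plane which normalise `Q'` -/
structure Pl (z : G) (Q Q' : Subgroup G) (x : (Fin 3 → ZMod 2) → G) : Prop where
  mem : ∀ i, x i ∈ Q
  nor : ∀ i, x i ∈ 𝐍(Q')
  sg : ∀ i ≠ 0, Sg z (x i)
  mul : ∀ i j, x (i + j) = x i * x j ∨ x (i + j) = x i * x j * z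

variable {z : G} {Q Q' O : Subgroup G} {π π' : G → V8}

omit [Finite G] in
theorem Sg.cj {x g : G} (h : Sg z x) (hg : g * z = z * g) : Sg z (g * x * g⁻¹) :=
  ⟨by rw [← cj_mul, h.1, mul_one, mul_inv_cancel], fun e => h.2.1 (by simpa using e),
    fun e => h.2.2 (mul_left_cancel ((mul_inv_eq_iff_eq_mul.1 e).trans hg.symm))⟩

omit [Finite G] in
theorem Sg.ne {x : G} (h : Sg z x) (c : Cd Q z π) (hx : x ∈ Q) : π x ≠ 0 :=
  fun e => ((c.ker x hx).1 e).elim h.2.1 h.2.2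

theorem fh (h : Fg z Q O π) : Fh z Q π := by
  refine ⟨h.cd, fun s hs a k hk b => ?_, fun g hg a b => ?_⟩
  · have a' := a.cj hk
    obtain ⟨σ, hσ, e⟩ := exists_smul_v1 ((h.cd.sq_iff hs).1 a.1) (a.ne h.cd hs)
    obtain ⟨τ, hτ, e'⟩ := exists_smul_v1 ((h.cd.sq_iff b).1 a'.1) (a'.ne h.cd b)
    obtain ⟨g, hg, c⟩ := h.ex _ (mul_mem hσ (inv_mem hτ))
    have h1 := (h.cd.eq_or hs (conj_mem_of_mem_normalizer hg b)).1 (by
      rw [c.2 _ b, ← e', mul_smul, inv_smul_smul, e])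
    have h2 := h.sing s hs a.1 (a.ne h.cd hs) (g * k) ((show Commute g z from c.1).mul_left hk)
      (by simpa only [mul_inv_rev, mul_assoc] using h1)
    simpa using mul_mem (inv_mem hg) h2
  · obtain ⟨o, ho, q, hq, e⟩ := h.ker g hg a
    refine mem_of_odd_pow (j := 1) (by rw [pow_one, sq, b]) h.odd ?_
    rw [e, (show Commute o q from h.Q_O hq o ho).mul_pow, pow_card_one ho, one_mul]
    exact pow_mem hq _

theorem Fh.cj (h : Fh z Q π) {g : G} (hg : g * z = z * g) : Fh z (Q ^ᶜ g) fun x => π (g⁻¹ * x * g) := by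
  have h1 : Commute g z := hg
  refine ⟨h.cd.cj hg, fun s hs a k hk b => ?_, fun k hk a b => ?_⟩
  · rw [← cj_normalizer, mem_cj]
    refine h.nm _ (mem_cj.1 hs) (by simpa using a.cj h1.inv_left) _
      ((h1.inv_left.mul_left hk).mul_left h1) ?_
    convert mem_cj.1 b using 1
    group
  · rw [← cj_normalizer, mem_cj] at hk
    refine mem_cj.2 (h.ker _ hk ⟨(h1.inv_left.mul_left a.1).mul_left h1, fun x hx => ?_⟩ ?_)
    · have := a.2 _ (cj_mem g hx)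
      simp only [one_smul] at this ⊢
      convert this using 2 <;> group
    · rw [show g⁻¹ * k * g * (g⁻¹ * k * g) = g⁻¹ * (k * k) * g by group, b]; group

theorem Fh.fix (h : Fh z Q π) (h' : Fh z Q' π') {x d : G} (hx : x ∈ Q') (a : Sg z x) (hn : x ∈ 𝐍(Q))
    {σ : O8} (b : Act Q z π x σ) (hd : d ∈ Q) (e : σ • π d = π d) : d ∈ 𝐍(Q') := by
  refine h'.nm x hx a d (h.cd.central d hd) ?_
  have h1 := (h.cd.eq_or hd (conj_mem_of_mem_normalizer hn hd)).1 ((b.2 d hd).trans e).symm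
  have h2 : d * x * d⁻¹ = (x * d * x⁻¹ * d⁻¹)⁻¹ * x := by group
  rcases h1 with c | c <;> rw [h2, c]
  · simpa using hx
  · rw [h.cd.central d hd, mul_inv_cancel_right]
    exact mul_mem (inv_mem h'.cd.mem) hx

theorem Fh.plane (h : Fh z Q π) (h' : Fh z Q' π') {x : G} (hx : x ∈ Q') (a : Sg z x) (hn : x ∈ 𝐍(Q)) :
    ∃ y, Pl z Q Q' y := by
  obtain ⟨σ, b⟩ := h.cd.exists_act hn
  obtain ⟨u, hu, c⟩ := exists_plane (σ := σ)
    (h.cd.act_unique (h.cd.act_mul hn b b) (a.1 ▸ h.cd.act_of_mem (one_mem _)))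
  choose t ht e using h.cd.surj
  refine ⟨fun i => t (u i), fun i => ht _, fun i => h.fix h' hx a hn b (ht _) (by rw [e, (c i).2]),
    fun i hi => ?_, fun i j => (h.cd.eq_or (mul_mem (ht _) (ht _)) (ht _)).1 (by
      rw [h.cd.mul _ (ht _) _ (ht _), e, e, e, map_add])⟩
  have h1 := (h.cd.ker _ (ht (u i))).not.1 (by rw [e]; exact fun k => hi (hu (k.trans (map_zero u).symm)))
  exact ⟨(h.cd.sq_iff (ht _)).2 (by rw [e, (c i).1]), fun k => h1 (.inl k), fun k => h1 (.inr k)⟩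

/-- the image of a subgroup of `Q` -/
def im (c : Cd Q z π) (D : Subgroup G) : AddSubgroup V8 where
  carrier := {u | ∃ d ∈ Q, d ∈ D ∧ π d = u}
  add_mem' := by
    rintro _ _ ⟨a, h1, h2, rfl⟩ ⟨b, h3, h4, rfl⟩
    exact ⟨_, mul_mem h1 h3, mul_mem h2 h4, c.mul a h1 b h3⟩
  zero_mem' := ⟨1, one_mem _, one_mem _, c.π_one⟩
  neg_mem' := by
    rintro _ ⟨a, h1, h2, rfl⟩
    exact ⟨a, h1, h2, (funext fun _ => ZMod.neg_eq_self_mod_two _).symm⟩

theorem Fh.cub (h : Fh z Q π) (h' : Fh z Q' π') (hd : ∀ s ∈ Q, s ∈ Q' → ¬ Sg z s)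
    {x : (Fin 3 → ZMod 2) → G} (hx : Pl z Q' Q x) :
    (∀ a ∈ Q, a ∈ 𝐍(Q') → ∀ b ∈ Q, b ∈ 𝐍(Q') → a * b = b * a) ∧ ∃ i ≠ 0, ∃ j ≠ 0, ∃ σ κ τ, τ ∈ Om ∧
      Act Q z π (x i) σ ∧ Act Q z π (x j) κ ∧ τ * σ = σ * τ ∧
      (∀ x : V8, σ • x = x → ∃ y, σ • y + y = x) ∧ τ * κ * τ⁻¹ * κ ≠ 1 ∧
      ∃ d ∈ Q, d ∉ 𝐍(Q') ∧ (τ * κ * τ⁻¹ * κ) • π d = π d := by
  choose φ hφ using fun i => h.cd.exists_act (hx.nor i)
  have k : ∀ i, ∀ d ∈ Q, φ i • π d + π d = π (x i * d * (x i)⁻¹ * d⁻¹) := fun i d hd => by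
    rw [h.cd.mul _ (conj_mem_of_mem_normalizer (hx.nor i) hd) _ (inv_mem hd), h.cd.π_inv hd, (hφ i).2 d hd]
  obtain ⟨h1, i, hi, j, hj, τ, a1, a2, a3, a4, u, a5, a6⟩ := cube (E := im h.cd Q') (B := im h.cd 𝐍(Q'))
    (by
      rintro _ ⟨s, a, b, rfl⟩ c
      by_contra e
      exact hd s a b ⟨(h.cd.sq_iff a).2 c, fun k => e ((h.cd.ker s a).2 (.inl k)),
        fun k => e ((h.cd.ker s a).2 (.inr k))⟩) φ
    (fun i j => by
      have := h.cd.act_mul (hx.nor j) (hφ i) (hφ j)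
      refine h.cd.act_unique (hφ _) ?_
      rcases hx.mul i j with e | e <;> rw [e]
      · exact this
      · simpa using h.cd.act_mul (le_normalizer h.cd.mem) this (h.cd.act_of_mem h.cd.mem))
    (fun i hi e => hd _ (h.ker _ (hx.nor i) (e ▸ hφ i) (hx.sg i hi).1) (hx.mem i) (hx.sg i hi))
    (by
      rintro i _ ⟨s, a, b, rfl⟩
      exact ((hφ i).2 s a).symm.trans ((h.cd.eq_or a (conj_mem_of_mem_normalizer (hx.nor i) a)).2
        (h'.cd.conj_or (hx.mem i) b)).symm)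
    (fun i hi u => by
      constructor
      · obtain ⟨d, hd, rfl⟩ := h.cd.surj u
        rintro ⟨s, a, b, e⟩
        have c : x i * d * (x i)⁻¹ * d⁻¹ ∈ Q' := by
          rcases (h.cd.eq_or a (mul_mem (conj_mem_of_mem_normalizer (hx.nor i) hd) (inv_mem hd))).1
            (e.trans (k i d hd)) with c | c <;> rw [c]
          exacts [b, mul_mem b h'.cd.mem]
        refine ⟨d, hd, h'.nm _ (hx.mem i) (hx.sg i hi) d (h.cd.central d hd) ?_, rfl⟩
        convert mul_mem (inv_mem c) (hx.mem i) using 1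
        group
      · rintro ⟨d, a, b, rfl⟩
        refine ⟨_, mul_mem (conj_mem_of_mem_normalizer (hx.nor i) a) (inv_mem a), ?_, (k i d a).symm⟩
        simpa [mul_assoc] using mul_mem (hx.mem i) (conj_mem_of_mem_normalizer b (inv_mem (hx.mem i))))
  obtain ⟨d, hd, rfl⟩ := h.cd.surj u
  exact ⟨fun a b c a' b' c' => (h.cd.commute_iff b b').2 (h1 _ ⟨a, b, c, rfl⟩ _ ⟨a', b', c', rfl⟩),
    i, hi, j, hj, _, _, τ, a1, hφ i, hφ j, a2, a3, a4, d, hd, fun e => a5 ⟨d, hd, e, rfl⟩, a6⟩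

theorem main (H : Fg z Q O π) (h' : Fh z Q' π') (hd : ∀ s ∈ Q, s ∈ Q' → ¬ Sg z s) {s : G} (hs : s ∈ Q')
    (a : Sg z s) (hn : s ∈ 𝐍(Q)) : False := by
  have h := fh H
  have c := h.cd
  obtain ⟨y, hy⟩ := h.plane h' hs a hn
  obtain ⟨x, hx⟩ := h'.plane h (hy.mem 1) (hy.sg 1 (by decide)) (hy.nor 1)
  have ab := (h'.cub h (fun s a b => hd s b a) hy).1
  obtain ⟨-, i, hi, j, hj, σ, κ, τ, a1, b1, b2, a2, a3, a4, d, a5, a6, a7⟩ := h.cub h' hd hx
  obtain ⟨g, hg, b3⟩ := H.ex τ a1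
  have n1 := hx.nor i
  have n2 := hx.nor j
  have s1 := hx.sg i hi
  have h1 := c.act_mul (inv_mem n1) (c.act_mul (inv_mem hg) (c.act_mul n1 b3 b1) (c.act_inv hg b3))
    (c.act_inv n1 b1)
  rw [a2, mul_inv_cancel_right, mul_inv_cancel] at h1
  obtain ⟨o, ho, q, hq, e⟩ := H.ker _ (mul_mem (mul_mem (mul_mem hg n1) (inv_mem hg)) (inv_mem n1)) h1
  rw [mul_inv_eq_iff_eq_mul, mul_assoc o] at e
  have h2 : Commute o (q * x i) :=
    mul_mem (H.Q_O hq) (H.two _ n1 ⟨1, by rw [pow_one, sq, s1.1]⟩) o ho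
  have h3 : q * x i * (q * x i) = q * (x i * q * (x i)⁻¹) := by
    rw [inv_eq_of_mul_eq_one_right s1.1]; group
  have h4 := (s1.cj b3.1).1
  rw [e, ← sq, h2.mul_pow, sq (q * _), h3] at h4
  have h5 := mul_mem hq (conj_mem_of_mem_normalizer n1 hq)
  obtain rfl : o = 1 := by
    obtain ⟨n, hn⟩ := c.isP ⟨_, eq_inv_of_mul_eq_one_left h4 ▸ inv_mem h5⟩
    exact eq_one_of_odd H.odd ho (j := n + 1) (by
      rw [pow_succ', pow_mul]; exact congrArg Subtype.val hn)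
  rw [one_pow, one_mul] at h4
  rw [one_mul] at e
  have h6 := congrArg π h4
  rw [c.mul _ hq _ (conj_mem_of_mem_normalizer n1 hq), b1.2 q hq, c.π_one, add_eq_zero_iff_eq_neg,
    show -(σ • π q) = σ • π q from funext fun _ => ZMod.neg_eq_self_mod_two _] at h6
  obtain ⟨u, hu⟩ := a3 _ h6.symm
  obtain ⟨t, ht, rfl⟩ := c.surj u
  have h7 := mul_mem (le_normalizer ht) hg
  have b4 := c.act_mul hg (c.act_of_mem ht) b3
  rw [one_mul] at b4
  have h8 : t * g ∈ 𝐍(Q') := by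
    refine h'.nm _ (hx.mem i) s1 _ b4.1 ?_
    have h9 := conj_mem_of_mem_normalizer n1 (inv_mem ht)
    rw [show t * g * x i * (t * g)⁻¹ = t * (g * x i * g⁻¹) * t⁻¹ by group, e,
      show t * (q * x i) * t⁻¹ = t * q * (x i * t⁻¹ * (x i)⁻¹) * x i by group]
    refine mul_mem ?_ (hx.mem i)
    rcases (c.ker _ (mul_mem (mul_mem ht hq) h9)).1 (by
      rw [c.mul _ (mul_mem ht hq) _ h9, c.mul _ ht _ hq, b1.2 _ (inv_mem ht), c.π_inv ht, ← hu]
      exact funext fun k => (by decide : ∀ a b : ZMod 2, b + (a + b) + a = 0) _ _) with k | k <;> rw [k]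
    exacts [one_mem _, h'.cd.mem]
  have m1 := conj_mem_of_mem_normalizer h8 (hx.mem j)
  have m2 := mul_mem (mul_mem h7 n2) (inv_mem h7)
  have b5 := c.act_mul n2 (c.act_mul (inv_mem h7) (c.act_mul n2 b4 b2) (c.act_inv h7 b4)) b2
  refine a6 (h.fix h' (mul_mem m1 (hx.mem j)) ⟨?_, fun k => a4 ?_, fun k => a4 ?_⟩ (mul_mem m2 n2) b5 a5 a7)
  · rw [← sq, (show Commute _ _ from ab _ m1 m2 _ (hx.mem j) n2).mul_pow, sq, sq,
      ((hx.sg j hj).cj b4.1).1, (hx.sg j hj).1, one_mul]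
  · exact c.act_unique b5 (k ▸ c.act_of_mem (one_mem _))
  · exact c.act_unique b5 (k ▸ c.act_of_mem c.mem)

end HA

theorem Fg.uf {z : G} {Q O : Subgroup G} {π : G → V8} (h : Fg z Q O π) {x : G} (hx : x ∈ Q)
    (h2 : x * x = 1) (h0 : π x ≠ 0) {g : G} (hg : g * z = z * g) (e : g⁻¹ * x * g ∈ 𝐍(Q)) :
    g ∈ 𝐍(Q) := by
  by_contra hn
  have h1 : Commute g z := hg
  have h3 : HA.Sg z x := ⟨h2, fun k => h0 ((h.cd.ker x hx).2 (.inl k)),
    fun k => h0 ((h.cd.ker x hx).2 (.inr k))⟩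
  refine HA.main h ((HA.fh h).cj h1.inv_left) (fun s a b c => hn ((HA.fh h).nm s a c g hg ?_))
    (s := g⁻¹ * x * g) ?_ (by simpa using h3.cj h1.inv_left) e
  · simpa using mem_cj.1 b
  · simpa using cj_mem g⁻¹ hx

end H79.AS
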