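import Cfsg.Agent.Lib.ASG.LW1

/-! Conjugates of `r` under `C(V)` which normalise `W` lie in `W`. -/

set_option autoImplicit false

namespace H79.AS

open H30 H30.F4 H69 Subgroup Cfsg Equiv

variable {G : Type*} [Group G] [Finite G]

theorem Fc.lw_cm (X : Fc G) {c g k : G} (hc : c ∈ 𝐂(X.V)) (hg : g ∈ X.W ^ᶜ c) (hk : k ∈ X.W ^ᶜ c) :
    g * k * g⁻¹ * k⁻¹ ∈ X.V := by
  obtain ⟨y, hy, rfl⟩ := mem_cj'.1 hg
  obtain ⟨y', hy', rfl⟩ := mem_cj'.1 hk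
  convert wc_conj (X.wc_CN hc) (X.comm_mem hy hy') using 1
  group

theorem Fc.lw_V (X : Fc G) {c : G} (hc : c ∈ 𝐂(X.V)) {C : Subgroup G} (h : X.V ≤ C) :
    X.V ≤ C ^ᶜ c := by
  rw [← cj_eq_of_mem_centralizer hc]
  exact cj_mono _ h

theorem Fc.lw_inv (X : Fc G) {d : G} (hd : d ∈ 𝐂(X.V)) (d2 : d * d = 1) {f : V6 → V6}
    (hf : X.Ac d f) (u : V6) (t : F4) :
    d * (X.ww (f u + u) * X.vv t) * d⁻¹ = (X.ww (f u + u) * X.vv t)⁻¹ := by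
  obtain ⟨s1, h1⟩ := hf u
  obtain ⟨s2, h2⟩ := X.ww_inv u
  obtain ⟨s3, h3⟩ := X.w_mul (f u) u
  have h4 : d * X.ww u * d⁻¹ * (X.ww u)⁻¹ = X.ww (f u + u) * X.vv (s3 + (s1 + s2)) := by
    rw [h1, h2, ← X.vv_add, ← X.vv_add, ← mul_assoc (X.ww _), ← h3, mul_assoc (X.ww (f u)),
      ← mul_assoc (X.vv s1), ← X.w_v]
    group
  have h5 : X.ww (f u + u) * X.vv t =
      d * X.ww u * d⁻¹ * (X.ww u)⁻¹ * X.vv (s3 + (s1 + s2) + t) := by
    rw [h4, mul_assoc, X.vv_add, ← add_assoc, CharTwo.add_self_eq_zero, zero_add]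
  have h6 := X.mem_CV.1 (mul_mem (mul_mem (mul_mem (X.W_le_CV (X.ww_mem u)) hd)
    (inv_mem (X.W_le_CV (X.ww_mem u)))) (inv_mem hd)) (s3 + (s1 + s2) + t)
  rw [h5, mul_inv_rev, X.vv_inv, mul_inv_rev, mul_inv_rev, mul_inv_rev, inv_inv, inv_inv,
    ← mul_assoc (X.ww u), ← mul_assoc (X.ww u * d), ← h6, ← conj_mul,
    X.mem_CV.1 hd, mul_inv_cancel_right]
  congr 1
  calc _ = d * d * X.ww u * (d * d)⁻¹ * d * (X.ww u)⁻¹ * d⁻¹ := by group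
    _ = _ := by rw [d2]; group

theorem Fd.lw_core (X : Fd G) {c d : G} {a s : F4} (ha : a ≠ 0) (hc : c ∈ 𝐂(X.V))
    (hd : d = c * (X.r a * X.vv s) * c⁻¹) {f : V6 → V6} (hf : X.Ac d f) (dN : d ∈ 𝐍(X.W))
    (h8 : 256 ≤ Nat.card {x : V6 // f x = x})
    (hT : ∀ x, f x = x → ∀ t, ∃ e, ∃ y ∈ X.W, c⁻¹ * (X.ww x * X.vv t) * c = y * X.x 7 e) :
    d ∈ X.W := by
  by_contra hW
  have hc' := inv_mem hc
  have d2W : X.r a * X.vv s ∈ X.W := X.ww_er a ▸ X.wv_mem _ s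
  have dC : d ∈ 𝐂(X.V) := hd ▸ mul_mem (mul_mem hc (X.W_le_CV d2W)) hc'
  have dd : d * d = 1 := by
    rw [hd, conj_mul, mul_assoc (X.r a), ← mul_assoc (X.vv s), X.r_A (g := X.vv s) a (X.x_mem 11 s),
      mul_assoc (X.r a), X.vv_sq, mul_one, X.r_sq, mul_one, mul_inv_cancel]
  have hno : ∀ b ≠ 0, X.r b ∉ X.W ^ᶜ c⁻¹ := fun b hb h => by
    have := X.lw_fin hb hc' h d2W (by rw [← cj_normalizer, mem_cj, inv_inv, ← hd]; exact dN)
    rw [mem_cj, inv_inv, ← hd] at this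
    exact hW this
  let N : V6 →+ V6 := AddMonoidHom.mk' f (X.ac_add (X.wc_CN dC) hf) + AddMonoidHom.id V6
  have hN : ∀ x, N x = f x + x := fun _ => rfl
  have mk : ∀ x, x ∈ N.ker ↔ f x = x := fun x => by
    rw [AddMonoidHom.mem_ker, hN]
    exact ⟨fun h => by linear_combination h - add_self6 x, fun h => by rw [h, add_self6]⟩
  have k1 : Nat.card N.ker * Nat.card N.range = 4096 := by
    rw [← card_V6, ← AddSubgroup.index_ker, AddSubgroup.card_mul_index]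
  have k2 : 256 ≤ Nat.card N.ker := h8.trans (Nat.card_congr (Equiv.subtypeEquivRight mk)).ge
  obtain ⟨C, CW, VC, cC, mC⟩ := X.exists_pre N.ker
  have CW2 : C ^ᶜ c⁻¹ ≤ X.W ^ᶜ c⁻¹ := cj_mono _ CW
  obtain ⟨S, cS, mS⟩ := X.exists_im (C := C ^ᶜ c⁻¹ ⊓ X.W) inf_le_right
    (le_inf (X.lw_V hc' VC) X.V_le_W)
  have nS : ∀ b ≠ 0, er b ∉ S := fun b hb h => hno b hb (by
    have := CW2 ((mS _ 0).2 h).1
    rwa [X.ww_er, X.vv_zero, mul_one] at this)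
  have : ∀ g : (C ^ᶜ c⁻¹ : Subgroup G), ∃ e, ∃ y ∈ X.W, (g : G) = y * X.x 7 e := fun g => by
    obtain ⟨g', hg', e⟩ := mem_cj'.1 g.2
    obtain ⟨x, t, rfl⟩ := (X.mem_W g').1 (CW hg')
    rw [e, inv_inv]
    exact hT x ((mk x).1 ((mC x t).1 hg')) t
  choose φ y hy e using this
  have eqφ : ∀ g k, φ g = φ k → (g : G)⁻¹ * k ∈ C ^ᶜ c⁻¹ ⊓ X.W := fun g k H => by
    refine mem_inf.2 ⟨mul_mem (inv_mem g.2) k.2, ?_⟩
    convert wc_conj (X.wc_LN (inv_mem (X.x7_mem (φ g)))) (mul_mem (inv_mem (hy g)) (hy k)) using 1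
    rw [e g, e k, H]
    group
  have fx : ∀ g, ∀ x ∈ S, xav (φ g) x = x := fun g x hx => by
    refine (X.comm_V (s := 0) (X.wc_CN (mul_mem (X.W_le_CV (hy g)) (X.wc_LC (X.x7_mem _))))
      (X.wc_ac_yl (hy g) (X.xa_ac _))).1 ?_
    rw [← e g]
    exact X.lw_cm hc' (CW2 g.2) (CW2 ((mS x 0).2 hx).1)
  have c2 : Nat.card (C ^ᶜ c⁻¹ : Subgroup G) = 4 * Nat.card N.ker := by rw [card_cj, cC]
  by_cases h0 : ∀ g, φ g = 0
  swap
  · push Not at h0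
    obtain ⟨g0, h0⟩ := h0
    by_cases h1 : ∀ g, φ g = 0 ∨ φ g = φ g0
    · have h2 := wc_card_le (fun g => decide (φ g = 0)) fun g k H => eqφ g k (by
        have := h1 g
        have := h1 k
        simp only [decide_eq_decide] at H
        grind)
      have h3 := lw_four nS (P := fun x => xav (φ g0) x = x) fun b x hx => lw_xav_er b (fx g0 x hx)
      rw [card_xa h0] at h3
      rw [Nat.card_eq_fintype_card (α := Bool), Fintype.card_bool] at h2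
      omega
    · push Not at h1
      obtain ⟨g1, h1, h1'⟩ := h1
      have h2 := wc_card_le φ eqφ
      have h3 := lw_four nS (P := fun x => ∀ c, xav c x = x) fun b x hx c =>
        lw_xav_er b (lw_xav_two h1 h0 h1' (fx g1 x hx) (fx g0 x hx) c)
      rw [card_xa2] at h3
      rw [natCard_eq] at h2
      omega
  have CW' : C ^ᶜ c⁻¹ ≤ X.W := fun g hg => by
    have := e ⟨g, hg⟩
    rw [h0, X.x_zero, mul_one] at this
    exact (show g = _ from this) ▸ hy _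
  rw [inf_eq_left.2 CW'] at cS mS
  have ff : ∀ x, f (f x) = x := by
    have := X.ac_mul (X.wc_CN dC) hf hf
    rw [dd] at this
    exact congrFun (X.ac_uniq this X.ac_one)
  obtain ⟨R, RW, VR, cR, mR⟩ := X.exists_pre N.range
  have RC : R ≤ C := fun g hg => by
    obtain ⟨x, t, rfl⟩ := (X.mem_W g).1 (RW hg)
    obtain ⟨u, rfl⟩ := (mR x t).1 hg
    rw [mC, mk, hN, X.ac_add (X.wc_CN dC) hf, ff, add_comm]
  obtain ⟨ρ, cρ, mρ⟩ := X.exists_im ((cj_mono c⁻¹ RC).trans CW') (X.lw_V hc' VR)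
  rw [card_cj, cR] at cρ
  refine nS a ha (lw_lin (R := ρ) ?_ (fun x hx y hy => ?_) fun y hy => ?_)
  · rw [← k1, show Nat.card S = Nat.card N.ker by omega, show Nat.card ρ = Nat.card N.range by omega]
  · obtain ⟨g, hg, e1⟩ := mem_cj'.1 ((mS x 0).2 hx)
    obtain ⟨k, hk, e2⟩ := mem_cj'.1 ((mρ y 0).2 hy)
    obtain ⟨x', t, rfl⟩ := (X.mem_W g).1 (CW hg)
    obtain ⟨y', t', rfl⟩ := (X.mem_W k).1 (RW hk)
    obtain ⟨u, rfl⟩ := (mR y' t').1 hk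
    have h1 := (mk _).1 ((mC _ _).1 hg)
    have h2 : b6 x' (N u) = 0 := by
      rw [hN, b6_add_right, ← X.ac_b dC hf x' u, h1, CharTwo.add_self_eq_zero]
    rw [← X.wv_comm_iff (s := 0) (t := 0), e1, e2, conj_mul, conj_mul, X.wv_comm_iff.2 h2]
  · obtain ⟨k, hk, e2⟩ := mem_cj'.1 ((mρ y 0).2 hy)
    obtain ⟨y', t', rfl⟩ := (X.mem_W k).1 (RW hk)
    obtain ⟨u, rfl⟩ := (mR y' t').1 hk
    have h1 := X.lw_inv dC dd hf u t'
    rw [← hN] at h1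
    have h2 : X.r a * X.vv s * (X.ww y * X.vv 0) = (X.ww y * X.vv 0)⁻¹ * (X.r a * X.vv s) := by
      rw [← mul_inv_eq_iff_eq_mul, e2, conj_inv, ← h1, hd]
      group
    rw [← X.ww_er, X.wv_comm, X.vv_zero, mul_one, eq_inv_mul_iff_mul_eq, ← mul_assoc, ← mul_assoc,
      X.w_sq, ← X.mem_CV.1 (X.W_le_CV (X.wv_mem _ s)), mul_assoc, X.vv_add, mul_eq_left,
      ← X.vv_zero] at h2
    linear_combination X.vv_inj h2 - CharTwo.add_self_eq_zero (q6 y)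

theorem Fd.lw (X : Fd G) {c d : G} {a s : F4} (ha : a ≠ 0) (hc : c ∈ 𝐂(X.V))
    (hd : d = c * (X.r a * X.vv s) * c⁻¹) {f : V6 → V6} (hf : X.Ac d f) (dN : d ∈ 𝐍(X.W))
    (h8 : 256 ≤ Nat.card {x : V6 // f x = x}) : d ∈ X.W := by
  have d2W : X.r a * X.vv s ∈ X.W := X.ww_er a ▸ X.wv_mem _ s
  have dC : d ∈ 𝐂(X.V) := hd ▸ mul_mem (mul_mem hc (X.W_le_CV d2W)) (inv_mem hc)
  let N : V6 →+ V6 := AddMonoidHom.mk' f (X.ac_add (X.wc_CN dC) hf)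
  obtain ⟨C, CW, -, -, mC⟩ := X.exists_pre (N.eqLocus (AddMonoidHom.id V6))
  obtain ⟨n, hn, h1⟩ := X.lw_syl ha (isPGroup_cj (X.isP_W.to_le CW) c⁻¹) fun g hg => by
    obtain ⟨k, hk, rfl⟩ := mem_cj'.1 hg
    obtain ⟨x, t, rfl⟩ := (X.mem_W k).1 (CW hk)
    refine X.lw_mem (s := s) (mul_mem (mul_mem (inv_mem hc) (X.W_le_CV (CW hk)))
      (inv_mem (inv_mem hc))) ?_
    convert wc_conj (X.wc_CN (inv_mem hc))
      (inv_mem ((X.comm_V (s := t) (X.wc_CN dC) hf).2 ((mC x t).1 hk))) using 1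
    rw [hd]
    group
  obtain ⟨l0, h0, h2⟩ := X.wc_two (isPGroup_cj (isPGroup_cj (X.isP_W.to_le CW) c⁻¹) n)
  have h3 := mul_mem (X.lw_WL a (mem_sup_right h0)) hn
  obtain ⟨s', hs⟩ := X.lw_rv h3 s
  refine X.lw_core (c := c * (l0 * n)⁻¹) (s := s') ha (mul_mem hc (inv_mem h3.1))
    (by rw [← hs, hd]; group) hf dN h8 fun x hx t => ?_
  have h4 := cj_mem n (cj_mem c⁻¹ ((mC x t).2 hx))
  obtain ⟨y, hy, l, hl, e⟩ := X.wc_mem_sup.1 (h1 h4)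
  obtain ⟨e', he⟩ := h2 y hy l hl (e ▸ h4)
  refine ⟨e', _, wc_conj (X.wc_LN h0) hy, ?_⟩
  rw [← he, conj_mul, ← e]
  group

end H79.AS
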