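import Cfsg.Agent.Lib.ASG.WC
import Cfsg.Agent.Lib.Core.GrpBasic

/-! The groups `N_b` and counting in `V6`. -/

set_option autoImplicit false

namespace H79.AS

open H30 H30.F4 H69 Subgroup Cfsg Equiv

variable {G : Type*} [Group G] [Finite G]

/-- the bilinear form -/
def lwB : LinearMap.BilinForm F4 V6 :=
  LinearMap.mk₂ F4 b6 b6_add_left b6_smul_left b6_add_right b6_smul_right

theorem lw_perp (U : Submodule F4 V6) : Nat.card U * Nat.card (lwB.orthogonal U) = 4096 := by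
  have hs : lwB.IsRefl := fun x y h => (b6_comm y x).trans h
  have hn : lwB.Nondegenerate :=
    ⟨fun x h => b6_nondeg h, fun x h => b6_nondeg fun y => (b6_comm x y).trans (h y)⟩
  have h1 := LinearMap.BilinForm.finrank_orthogonal hn U
  have h2 := U.finrank_le
  rw [Module.finrank_fin_fun] at h1 h2
  rw [Module.natCard_eq_pow_finrank (K := F4), Module.natCard_eq_pow_finrank (K := F4) (V := lwB.orthogonal U),
    h1, ← pow_add, natCard_eq, Nat.add_sub_cancel' h2]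
  rfl

theorem lw_orth {S : Set V6} {y : V6} (h : ∀ x ∈ S, b6 x y = 0) :
    y ∈ lwB.orthogonal (Submodule.span F4 S) := by
  intro x hx
  induction hx using Submodule.span_induction with
  | mem x hx => exact h x hx
  | zero => exact LinearMap.BilinForm.isOrtho_zero_left _
  | add x x' _ _ h1 h2 =>
    change b6 _ _ = 0 at h1 h2 ⊢
    rw [b6_add_left, h1, h2, add_zero]
  | smul c x _ h1 =>
    change b6 _ _ = 0 at h1 ⊢
    rw [b6_smul_left, h1, mul_zero]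

theorem lw_lin {S R : AddSubgroup V6} (hc : 4096 ≤ Nat.card S * Nat.card R)
    (ho : ∀ x ∈ S, ∀ y ∈ R, b6 x y = 0) {d : V6} (hd : ∀ y ∈ R, b6 d y = q6 y) : d ∈ S := by
  have key : ∀ T : Set V6, (S : Set V6) ⊆ T → (∀ x ∈ T, ∀ y ∈ R, b6 x y = 0) →
      S = (Submodule.span F4 T).toAddSubgroup ∧
        R = (lwB.orthogonal (Submodule.span F4 T)).toAddSubgroup := fun T h1 h2 => by
    have l1 : S ≤ (Submodule.span F4 T).toAddSubgroup := fun x hx => Submodule.subset_span (h1 hx)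
    have l2 : R ≤ (lwB.orthogonal (Submodule.span F4 T)).toAddSubgroup := fun y hy =>
      lw_orth fun x hx => h2 x hx y hy
    have c1 := AddSubgroup.card_le_of_le l1
    have c2 := AddSubgroup.card_le_of_le l2
    have c3 := lw_perp (Submodule.span F4 T)
    have p1 : 0 < Nat.card S := Nat.card_pos
    have p2 : 0 < Nat.card R := Nat.card_pos
    change _ ≤ Nat.card (Submodule.span F4 T) at c1
    change _ ≤ Nat.card (lwB.orthogonal (Submodule.span F4 T)) at c2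
    refine ⟨AddSubgroup.eq_of_le_of_card_ge l1 ?_, AddSubgroup.eq_of_le_of_card_ge l2 ?_⟩
    · change Nat.card (Submodule.span F4 T) ≤ _
      by_contra h
      nlinarith
    · change Nat.card (lwB.orthogonal (Submodule.span F4 T)) ≤ _
      by_contra h
      nlinarith
  have h1 := (key S subset_rfl ho).2
  have h2 : ∀ y ∈ R, b6 d y = 0 := fun y hy => by
    have h3 : w • y ∈ R := by
      rw [h1] at hy ⊢
      exact Submodule.smul_mem _ w hy
    have h4 := hd _ h3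
    rw [b6_smul_right, q6_smul, hd y hy] at h4
    rw [hd y hy]
    revert h4
    generalize q6 y = a
    revert a
    decide
  rw [(key (insert d S) (Set.subset_insert _ _) fun x hx y hy => by
    rcases hx with rfl | hx
    · exact h2 y hy
    · exact ho x hx y hy).1]
  exact Submodule.subset_span (Set.mem_insert _ _)

theorem lw_er_add (a b : F4) : er a + er b = er (a + b) := by
  funext i
  fin_cases i <;> simp [er]

theorem lw_four {S : AddSubgroup V6} (h : ∀ b ≠ 0, er b ∉ S) {P : V6 → Prop}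
    (hP : ∀ b, ∀ x ∈ S, P (er b + x)) : 4 * Nat.card S ≤ Nat.card {x // P x} := by
  rw [← natCard_eq, ← Nat.card_prod]
  refine Nat.card_le_card_of_injective (fun p => ⟨er p.1 + p.2.1, hP _ _ p.2.2⟩) ?_
  rintro ⟨b, x, hx⟩ ⟨b', x', hx'⟩ e
  replace e : er b + x = er b' + x' := congrArg Subtype.val e
  have h1 : er (b + b') = x + x' := by
    rw [← lw_er_add]
    linear_combination e + add_self6 (er b') - add_self6 x + 2 * add_self6 x' -
      add_self6 x' - add_self6 x'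
  have h2 : b + b' = 0 := by
    by_contra h0
    exact h _ h0 (h1 ▸ add_mem hx hx')
  obtain rfl : b = b' := by linear_combination h2 - CharTwo.add_self_eq_zero b'
  obtain rfl : x = x' := add_left_cancel e
  rfl

theorem lw_xav_iff {c : F4} {x : V6} : xav c x = x ↔
    c * x 2 = 0 ∧ c * c * x 2 = 0 ∧ c * c * x 3 + c * x 4 + c * c * c * x 2 = 0 := by
  rw [funext_iff]
  simp [Fin.forall_fin_succ, xav, add_assoc, -mul_eq_zero]

theorem lw_xav_er {c : F4} {x : V6} (b : F4) (h : xav c x = x) : xav c (er b + x) = er b + x := by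
  rw [lw_xav_iff] at h ⊢
  simpa [er] using h

theorem lw_xav_two {e e' : F4} (h0 : e ≠ 0) (h0' : e' ≠ 0) (hne : e ≠ e') {x : V6}
    (h : xav e x = x) (h' : xav e' x = x) (c : F4) : xav c x = x := by
  rw [lw_xav_iff] at h h' ⊢
  generalize x 2 = a at *
  generalize x 3 = b at *
  generalize x 4 = d at *
  revert e e' c a b d
  decide +kernel

namespace Fc

variable (X : Fc G)

/-- the elements of `C(V)` that normalise `r b V` -/
def NB (b : F4) : Subgroup G where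
  carrier := {g | g ∈ 𝐂(X.V) ∧ ∃ s, g * X.r b * g⁻¹ = X.r b * X.vv s}
  one_mem' := ⟨one_mem _, 0, by simp [X.vv_zero]⟩
  mul_mem' := by
    rintro g k ⟨hg, s, hs⟩ ⟨hk, t, ht⟩
    refine ⟨mul_mem hg hk, s + t, ?_⟩
    calc _ = g * (k * X.r b * k⁻¹) * g⁻¹ := by group
      _ = g * X.r b * g⁻¹ * (g * X.vv t * g⁻¹) := by rw [ht]; group
      _ = _ := by rw [hs, X.mem_CV.1 hg, mul_inv_cancel_right, mul_assoc, X.vv_add]
  inv_mem' := by
    rintro g ⟨hg, s, hs⟩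
    refine ⟨inv_mem hg, s, ?_⟩
    have h1 : X.r b = g * X.r b * g⁻¹ * X.vv s := by rw [hs, mul_assoc, X.vv_sq, mul_one]
    conv_lhs => rw [h1]
    rw [mul_assoc _ g⁻¹, X.mem_CV.1 (inv_mem hg)]
    group

theorem lw_rv {b : F4} {g : G} (hg : g ∈ X.NB b) (s : F4) :
    ∃ t, g * (X.r b * X.vv s) * g⁻¹ = X.r b * X.vv t := by
  obtain ⟨h1, t, ht⟩ := hg
  refine ⟨t + s, ?_⟩
  rw [← conj_mul, ht, X.mem_CV.1 h1, mul_inv_cancel_right, mul_assoc, X.vv_add]

theorem lw_mem {b s : F4} {g : G} (hg : g ∈ 𝐂(X.V))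
    (h : g * (X.r b * X.vv s) * g⁻¹ * (X.r b * X.vv s)⁻¹ ∈ X.V) : g ∈ X.NB b := by
  obtain ⟨t, ht⟩ := X.mem_V.1 h
  refine ⟨hg, t, ?_⟩
  rw [← conj_mul, X.mem_CV.1 hg, mul_inv_cancel_right, mul_inv_eq_iff_eq_mul, ← mul_assoc,
    mul_left_inj] at ht
  rw [ht]
  exact X.r_A b (X.x_mem 11 t)

theorem lw_WL (b : F4) : X.W ⊔ X.L ≤ X.NB b := by
  refine sup_le (fun y hy => ⟨X.W_le_CV hy, ?_⟩) fun l hl => ⟨X.wc_LC hl, 0, ?_⟩
  · have := X.ac_W hy (er b)
    rwa [id, X.ww_er] at this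
  · rw [X.r_A b (X.B_le_A (X.L_le_B hl)), X.vv_zero, mul_one, mul_inv_cancel_right]

theorem lw_AO {g : G} (hg : g ∈ X.A) : g ∈ 𝐍(X.O) := centralizer_le_normalizer _ (X.A_O hg)

theorem lw_WO : X.W ≤ 𝐍(X.O) := by
  intro y hy
  obtain ⟨x, s, rfl⟩ := (X.mem_W y).1 hy
  exact mul_mem (mul_mem (mul_mem (X.r_O _) (centralizer_le_normalizer _ (X.p_O _)))
    (X.lw_AO (X.B_le_A (X.QA_le_B (X.qa_mem x))))) (X.lw_AO (X.x_mem 11 s))

theorem lw_WLO : X.W ⊔ X.L ≤ 𝐍(X.O) :=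
  sup_le X.lw_WO fun _ hl => X.lw_AO (X.B_le_A (X.L_le_B hl))

theorem lw_syl {b : F4} (hb : b ≠ 0) {P : Subgroup G} (hP : IsPGroup 2 P) (h : P ≤ X.NB b) :
    ∃ n ∈ X.NB b, P ^ᶜ n ≤ X.W ⊔ X.L := by
  obtain ⟨T, hT⟩ := exists_isSylowIn 2 (X.W ⊔ X.L)
  have e : (X.W ⊔ X.L) ⊔ (X.O ⊓ X.NB b) = X.NB b := by
    refine le_antisymm (sup_le (X.lw_WL b) inf_le_right) fun g hg => ?_
    obtain ⟨o, ho, y, hy, l, hl, -, e⟩ := X.NR b hb g hg.1 hg.2
    have h1 := mul_mem_sup hy hl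
    have h2 : o ∈ X.NB b := by
      have := mul_mem hg (inv_mem (X.lw_WL b h1))
      rwa [e, mul_assoc o, mul_inv_cancel_right] at this
    rw [e, mul_assoc]
    exact mul_mem (mem_sup_right ⟨ho, h2⟩) (mem_sup_left h1)
  have h1 := H1.card_sup_dvd_of_le_normalizer
    (le_normalizer_inf X.lw_WLO (le_normalizer_of_le (X.lw_WL b)))
  have h2 : Nat.card (X.W ⊔ X.L : Subgroup G) * (X.W ⊔ X.L).relIndex (X.NB b) =
      Nat.card (X.NB b) := by
    rw [← card_subgroupOf (X.lw_WL b)]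
    exact card_mul_index _
  rw [e, ← h2] at h1
  have h3 := (Nat.dvd_of_mul_dvd_mul_left Nat.card_pos h1).trans (card_dvd_of_le inf_le_left)
  obtain ⟨n, hn, h4⟩ := (hT.trans_of_not_dvd (X.lw_WL b) fun h2 =>
    (Odd.of_dvd_nat X.O_odd h3).not_two_dvd_nat h2).exists_cj_le hP h
  exact ⟨n, hn, h4.trans hT.le⟩

theorem lw_fin {c d : G} {b : F4} (hb : b ≠ 0) (hc : c ∈ 𝐂(X.V)) (h : X.r b ∈ X.W ^ᶜ c)
    (hd : d ∈ X.W) (dN : d ∈ 𝐍(X.W ^ᶜ c)) : d ∈ X.W ^ᶜ c := by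
  have cm : ∀ {c : G}, c ∈ 𝐂(X.V) → ∀ g ∈ X.W ^ᶜ c, ∀ k ∈ X.W ^ᶜ c, g * k * g⁻¹ * k⁻¹ ∈ X.V := by
    intro c hc g hg k hk
    obtain ⟨y, hy, rfl⟩ := mem_cj'.1 hg
    obtain ⟨y', hy', rfl⟩ := mem_cj'.1 hk
    convert wc_conj (X.wc_CN hc) (X.comm_mem hy hy') using 1
    group
  have h2 := isPGroup_cj X.isP_W c
  obtain ⟨n, hn, h1⟩ := X.lw_syl hb h2 fun g hg => X.lw_mem (s := 0)
    (cj_le_of_mem X.W_le_CV hc hg) (by rw [X.vv_zero, mul_one]; exact cm hc g hg _ h)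
  rw [cj_cj] at h1
  have hnc := mul_mem hn.1 hc
  have h3 : X.W ^ᶜ (n * c) = X.W := by
    refine X.uniq (fun g hg => X.wc_mem_sup.1 (h1 hg)) (isPGroup_cj X.isP_W _) (cm hnc) ?_
      (by rw [card_cj, X.card_W])
    rw [← cj_eq_of_mem_centralizer hnc]
    exact cj_mono _ X.V_le_W
  obtain ⟨o, ho, y, hy, l, hl, -, e⟩ := X.NR b hb _ (inv_mem hn).1 (inv_mem hn).2
  have h4 : X.W ^ᶜ c = X.W ^ᶜ o := by
    rw [← cj_cj, cj_eq_iff, e, ← cj_cj, ← cj_cj, cj_eq_of_mem_normalizer (X.wc_LN hl),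
      cj_eq_of_mem hy] at h3
    exact h3
  rw [h4] at dN h2 ⊢
  have h5 := cj_mem o hd
  have h6 : (o * d * o⁻¹)⁻¹ * d ∈ X.O := by
    convert mul_mem ho (wc_conj (inv_mem (X.lw_WO hd)) (inv_mem ho)) using 1
    group
  have h7 : IsPGroup 2 (zpowers d ⊔ X.W ^ᶜ o : Subgroup G) :=
    isPGroup_sup_of_le_normalizer_right (X.isP_W.to_le (zpowers_le.2 hd)) h2 (zpowers_le.2 dN)
  obtain ⟨j, hj⟩ := isPGroup_iff_mem.1 h7 _
    (mul_mem (inv_mem (mem_sup_right h5)) (mem_sup_left (mem_zpowers d)))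
  rwa [inv_mul_eq_one.1 (eq_one_of_odd X.O_odd h6 hj)] at h5

end Fc

end H79.AS
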