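import Cfsg.Agent.Lib.ASG.Lin1

/-! Linear algebra in the orthogonal space `V8`, and the API of `Cd`. -/

set_option autoImplicit false
set_option maxHeartbeats 400000
set_option linter.unusedVariables false
set_option linter.unusedSectionVars false

namespace H79.AS

open H30 H30.F4 H69 Subgroup Cfsg Equiv
open H16.P8
open H96.E8 (O8)
open H95 (zmod2_cases vec2_add_self vec2_neg zp zp_cases zp_inj zp_comm zp_eq_one_iff)
open H39.AL (Nm Nm_apply Nm_zero Nm_symm Nm_Nm bf_Nm pp mem_pp)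

variable {G : Type*} [Group G] [Finite G]

/-- an isometry with commutator space in a totally singular line -/
theorem line_cases {a b : V8} (qa : qf a = 0) (qb : qf b = 0) (ab : bf a b = 0) {σ : O8}
    (h : ∀ x, σ • x + x = 0 ∨ σ • x + x = a ∨ σ • x + x = b ∨ σ • x + x = a + b) :
    σ = 1 ∨ ((∀ x, σ • x + x = bf x a • b + bf x b • a) ∧ Nat.card {x : V8 // σ • x = x} ≤ 64) :=
  H39.AL.line_cases qa qb ab h

/-- an involution fixes a totally singular plane pointwise -/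
theorem exists_plane {σ : O8} (h : σ * σ = 1) : ∃ u : (Fin 3 → ZMod 2) →+ V8,
    Function.Injective u ∧ ∀ i, qf (u i) = 0 ∧ σ • u i = u i := H39.AL.exists_plane h

theorem cube {E B : AddSubgroup V8} (hE : ∀ e ∈ E, qf e = 0 → e = 0)
    (φ : (Fin 3 → ZMod 2) → O8) (mul : ∀ i j, φ (i + j) = φ i * φ j)
    (ne : ∀ i ≠ 0, φ i ≠ 1) (fix : ∀ i, ∀ e ∈ E, φ i • e = e)
    (hB : ∀ i ≠ 0, ∀ x, φ i • x + x ∈ E ↔ x ∈ B) :
    (∀ x ∈ B, ∀ y ∈ B, bf x y = 0) ∧ ∃ i ≠ 0, ∃ j ≠ 0, ∃ τ ∈ Om, τ * φ i = φ i * τ ∧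
      (∀ x : V8, φ i • x = x → ∃ y, φ i • y + y = x) ∧ τ * φ j * τ⁻¹ * φ j ≠ 1 ∧
      ∃ x ∉ B, (τ * φ j * τ⁻¹ * φ j) • x = x := by
  classical
  replace hB : ∀ i ≠ 0, ∀ x, Nm (φ i) x ∈ E ↔ x ∈ B := hB
  have p0 : φ 0 = 1 := left_eq_mul.1 ((congrArg φ (add_zero 0)).symm.trans (mul 0 0))
  have p2 : ∀ i, φ i * φ i = 1 := fun i => by rw [← mul, vec2_add_self, p0]
  have NE : ∀ i, ∀ e ∈ E, Nm (φ i) e = 0 := fun i e he => Nm_zero.2 (fix i e he)
  have pE : ∀ i x, ∀ e ∈ E, bf (Nm (φ i) x) e = 0 := fun i x e he => by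
    rw [Nm_symm (p2 i), NE i e he, bf_zero_right]
  have N0 : ∀ x, Nm (φ 0) x = 0 := fun x => Nm_zero.2 (by rw [p0, one_smul])
  have q1 : ∀ e ∈ E, e ≠ 0 → qf e = 1 := fun e he h => (zmod2_cases _).resolve_left (mt (hE e he) h)
  have inj : ∀ x ∉ B, ∀ i j, Nm (φ i) x + Nm (φ j) x ∈ E → i = j := fun x hx i j h => by_contra fun n => by
    refine hx ((hB (i + j) (fun e => n (by rwa [add_eq_zero_iff_eq_neg, vec2_neg] at e)) x).1 ?_)
    rw [← fix i _ h, Nm_apply, Nm_apply, add_add_add_comm, vec2_add_self, add_zero, smul_add, ← mul_smul, p2,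
      one_smul, ← mul_smul, ← mul, add_comm] at h
    exact h
  obtain ⟨e, he, e1, e2⟩ : ∃ e ∈ E, (e = 0 ∨ qf e = 1) ∧ ∀ i, ∃ ε : ZMod 2,
      ∀ y ∈ B, Nm (φ i) y = (ε * bf y e) • e := by
    by_cases h : ∃ i, ∃ x ∈ B, Nm (φ i) x ≠ 0
    swap
    · exact ⟨0, zero_mem _, .inl rfl, fun i => ⟨0, fun y hy => by
        rw [smul_zero]; exact by_contra fun n => h ⟨i, y, hy, n⟩⟩⟩
    have mE : ∀ i, ∀ y ∈ B, Nm (φ i) y ∈ E := fun i y hy => by
      by_cases e : i = 0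
      · rw [e, N0]; exact zero_mem _
      · exact (hB i e y).2 hy
    obtain ⟨i0, x0, hx0, n0⟩ := h
    have un : ∀ i, ∀ y ∈ B, Nm (φ i) y ≠ 0 → Nm (φ i) y = Nm (φ i0) x0 := fun i y hy n => by
      rw [← vec2_neg (Nm (φ i0) x0), ← add_eq_zero_iff_eq_neg]
      refine hE _ (add_mem (mE i y hy) (mE _ _ hx0)) ?_
      rw [qf_add, q1 _ (mE i y hy) n, q1 _ (mE _ _ hx0) n0, pE i y _ (mE _ _ hx0)]; rfl
    refine ⟨_, mE _ _ hx0, .inr (q1 _ (mE _ _ hx0) n0), fun i => ?_⟩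
    by_cases h : ∃ x ∈ B, Nm (φ i) x ≠ 0
    swap
    · exact ⟨0, fun y hy => by rw [zero_mul, zero_smul]; exact by_contra fun n => h ⟨y, hy, n⟩⟩
    obtain ⟨x, hx, n⟩ := h
    refine ⟨1, fun y hy => ?_⟩
    by_cases k : Nm (φ i) y = 0
    · rw [← un i x hx n, ← Nm_symm (p2 i), k, bf_zero_left, mul_zero, zero_smul]
    · rw [← un i y hy k, bf_Nm, q1 _ (mE i y hy) k, mul_one, one_smul]
  have sE : ∀ a : ZMod 2, a • e ∈ E := fun a => by
    rcases zmod2_cases a with rfl | rfl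
    exacts [by rw [zero_smul]; exact zero_mem _, by rwa [one_smul]]
  have EB : E ≤ B := fun x hx => (hB 1 (by decide) x).1 (by rw [NE 1 x hx]; exact zero_mem _)
  choose ε hε using e2
  let B' := AddSubgroup.toZModSubmodule 2 B
  have mB : ∀ {x}, x ∈ B' ↔ x ∈ B := Iff.rfl
  have top : B' ≠ ⊤ := fun h => by
    have a : ∀ i ≠ 0, ∀ x, Nm (φ i) x = bf x e • e := fun i hi x => by
      have t : ∀ x, x ∈ B := fun x => mB.1 (h ▸ Submodule.mem_top)
      rcases zmod2_cases (ε i) with f | f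
      · exact absurd (O8_ext fun y => by
          rw [one_smul, ← Nm_zero, hε i y (t y), f, zero_mul, zero_smul]) (ne i hi)
      · rw [hε i x (t x), f, one_mul]
    have b : φ ![1, 0, 0] = φ 1 := O8_ext fun x => by
      rw [H39.AL.smul_eq, H39.AL.smul_eq, a _ (by decide), a _ (by decide)]
    exact ne (![1, 0, 0] + 1) (by decide) (by rw [mul, b, p2])
  let M : (Fin 3 → ZMod 2) → V8 →ₗ[ZMod 2] V8 := fun i =>
    Nm (φ i) + (if i = 0 then 0 else ε i) • (H39.AL.BF.flip e).smulRight e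
  have hM : ∀ i x, M i x = Nm (φ i) x + ((if i = 0 then 0 else ε i) * bf x e) • e := fun i x => by
    rw [mul_smul]; rfl
  have L : pp B' = B' := H39.AL.lag M (fun x => by rw [hM, N0]; simp) (fun i hi => Submodule.ext fun x => by
      rw [LinearMap.mem_ker, hM, if_neg hi, add_eq_zero_iff_eq_neg, vec2_neg]
      exact ⟨fun h => (hB i hi x).1 (h ▸ sE _), hε i x⟩)
    (fun i x y => by
      rw [hM, hM, bf_add_left, bf_add_right, Nm_symm (p2 i), bf_smul_left, bf_smul_right, bf_comm e]; ring)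
    (fun i x => by
      rw [hM, bf_add_right, qf_add, bf_Nm, bf_smul_right, bf_smul_right, qf_smul, pE i x e he]
      rcases e1 with f | f <;> rw [f]
      · simp [bf_zero_right]
      · generalize (if i = 0 then 0 else ε i) = a, bf x e = b, qf (Nm (φ i) x) = c
        revert a b c; decide)
    (fun i x => by
      rw [hM]
      refine add_mem ?_ (EB (sE _))
      by_cases f : i = 0
      · rw [f, N0]; exact zero_mem _
      · exact (hB i f _).1 (by rw [Nm_Nm (p2 i)]; exact zero_mem _))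
    (fun x hx i j h => inj x hx i j (by
      have h : M i x = M j x := h
      rw [hM, hM] at h
      have k := congrArg₂ (· + ·) h (rfl : Nm (φ j) x + _ = Nm (φ j) x + ((if j = 0 then 0 else ε j) * bf x e) • e)
      rw [vec2_add_self, add_add_add_comm, add_eq_zero_iff_eq_neg, vec2_neg] at k
      rw [k]
      exact add_mem (sE _) (sE _))) top
  have iso : ∀ x ∈ B, ∀ y ∈ B, bf x y = 0 := fun x hx y hy => mem_pp.1 (L.ge (mB.2 hy)) x hx
  have NB : ∀ i, ∀ y ∈ B, Nm (φ i) y = 0 := fun i y hy => by rw [hε i y hy, iso y hy e (EB he), mul_zero, zero_smul]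
  have rg : ∀ i ≠ 0, LinearMap.range (Nm (φ i)) = B' := fun i hi => by
    rw [H39.AL.range_eq (Nm_symm (p2 i)), ← L]
    congr 1
    exact Submodule.ext fun x => ⟨fun h => (hB i hi x).1 (by rw [LinearMap.mem_ker.1 h]; exact zero_mem _), NB i x⟩
  have mN : ∀ i x, Nm (φ i) x ∈ B := fun i x => by
    by_cases f : i = 0
    · rw [f, N0]; exact zero_mem _
    · exact mB.1 (rg i f ▸ LinearMap.mem_range_self _ x)
  have ad : ∀ i j x, Nm (φ (i + j)) x = Nm (φ i) x + Nm (φ j) x := fun i j x => by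
    rw [Nm_apply, mul, mul_smul, H39.AL.smul_eq (φ j), smul_add, Nm_zero.1 (NB i _ (mN j x)), Nm_apply (φ i)]
    abel
  obtain ⟨u, -, hu⟩ := SetLike.exists_of_lt top.lt_top
  obtain ⟨i, i0, j, j0, ij, ci, cj⟩ := H39.AL.two_zero (fun i => bf u (Nm (φ i) u)) fun i j => by
    rw [ad, bf_add_right]
  have nz : ∀ i ≠ 0, Nm (φ i) u ≠ 0 := fun i hi h => hi (inj u hu i 0 (by rw [h, N0, add_zero]; exact zero_mem _))
  obtain ⟨τ, t1, t2⟩ := H39.AL.exists_sieg ((bf_Nm _ _).symm.trans ci) (nz i i0) ci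
  have rB := mN i u
  have lB := mN j u
  have s1 : ∀ k x, τ • Nm (φ k) x = Nm (φ k) x + bf x (Nm (φ k) u) • Nm (φ i) u := fun k x => by
    rw [t2, iso _ (mN k x) _ rB, Nm_symm (p2 k)]; simp
  have s2 : ∀ k x, Nm (φ k) (τ • x) = Nm (φ k) x + bf x (Nm (φ i) u) • Nm (φ k) u := fun k x => by
    rw [t2]; simp [NB k _ rB]
  have s3 : ∀ x, (τ * φ j * τ⁻¹ * φ j) • x =
      x + bf x (Nm (φ i) u) • Nm (φ j) u + bf x (Nm (φ j) u) • Nm (φ i) u := fun x => by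
    have b : ∀ k, bf u (Nm (φ k) u) = 0 → bf (τ⁻¹ • φ j • x) (Nm (φ k) u) = bf x (Nm (φ k) u) := fun k hk => by
      rw [← bf_O8 τ, smul_inv_smul, s1, hk, zero_smul, add_zero, H39.AL.smul_eq, bf_add_left,
        iso _ (mN j x) _ (mN k u), add_zero]
    have c := s2 j (τ⁻¹ • φ j • x)
    rw [smul_inv_smul, b i ci, H39.AL.smul_eq (φ j) x, map_add, NB j _ (mN j x), add_zero] at c
    rw [mul_smul, mul_smul, mul_smul, H39.AL.smul_eq (φ j) (τ⁻¹ • _), smul_add, smul_inv_smul, s1, b j cj,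
      H39.AL.smul_eq (φ j) x]
    generalize Nm (φ j) (τ⁻¹ • (x + Nm (φ j) x)) = y at c
    rw [c]
    vec2
  refine ⟨iso, i, i0, j, j0, τ, t1, O8_ext fun x => ?_, fun x hx => ?_, fun h => ?_, u, hu, ?_⟩
  · rw [mul_smul, mul_smul, H39.AL.smul_eq (φ i), H39.AL.smul_eq (φ i), smul_add, s1, s2]
  · exact (rg i i0).ge (mB.2 ((hB i i0 x).1 (by rw [Nm_zero.2 hx]; exact zero_mem _)))
  · obtain ⟨y, hy⟩ := H39.AL.exists_one (nz i i0)
    have := s3 y
    rw [h, one_smul, bf_comm, hy, one_smul, add_assoc, left_eq_add] at this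
    rcases zmod2_cases (bf y (Nm (φ j) u)) with f | f <;> rw [f] at this
    · exact nz j j0 (by simpa using this)
    · exact ij (inj u hu i j (by rw [add_comm, ← one_smul (ZMod 2) (Nm (φ i) u), this]; exact zero_mem _))
  · rw [s3, ci, cj]; simp

theorem card_sing : Nat.card {x : V8 // qf x = 0 ∧ x ≠ 0} = 135 := by
  rw [Nat.card_eq_fintype_card]; decide +kernel

theorem exists_perp (x : V8) :
    ∃ s, qf s = 0 ∧ bf s v1 = 0 ∧ s ≠ 0 ∧ s ≠ v1 ∧ bf s x = 0 := by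
  obtain ⟨s, -, h⟩ := (show ∀ x : V8, ∃ s ∈ [vc 1, vc 4, vc 5],
    qf s = 0 ∧ bf s v1 = 0 ∧ s ≠ 0 ∧ s ≠ v1 ∧ bf s x = 0 by decide +kernel) x
  exact ⟨s, h⟩

theorem exists_four : ∃ a b : V8, qf a = 0 ∧ qf b = 0 ∧ qf (a + b) = 0 ∧ a ≠ 0 ∧ b ≠ 0 ∧ a + b ≠ 0 :=
  ⟨vc 1, vc 2, by decide +kernel⟩

namespace Cd

variable {Q : Subgroup G} {z g k x y : G} {π : G → V8} {σ τ : O8}

theorem commute_iff (h : Cd Q z π) (hx : x ∈ Q) (hy : y ∈ Q) :
    x * y = y * x ↔ bf (π x) (π y) = 0 := by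
  rw [h.comm x hx y hy, mul_eq_left, zp_eq_one_iff h.ne_one]

theorem es (h : Cd Q z π) : H95.ES Q z := by
  refine ⟨h.mem, h.ne_one, h.sq, h.central, fun x hx y hy => ?_, fun x hx e => (h.ker x hx).1 (nondeg fun w => ?_),
    ?_⟩
  · rw [h.comm x hx y hy]
    exact (zp_cases z _).imp (fun e => by rw [e, mul_one]) fun e => by rw [e]
  · obtain ⟨y, hy, rfl⟩ := h.surj w
    exact (h.commute_iff hx hy).1 (e y hy)
  · obtain ⟨w, hw⟩ := H39.AL.exists_one v1_ne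
    obtain ⟨x, hx, e⟩ := h.surj v1
    obtain ⟨y, hy, rfl⟩ := h.surj w
    exact ⟨x, hx, y, hy, fun f => by
      rw [h.commute_iff hx hy, e, hw] at f
      exact absurd f (by decide)⟩

theorem isP (h : Cd Q z π) : IsPGroup 2 Q := h.es.isPGroup

theorem π_one (h : Cd Q z π) : π 1 = 0 := (h.ker 1 (one_mem _)).2 (.inl rfl)

theorem π_z (h : Cd Q z π) : π z = 0 := (h.ker z h.mem).2 (.inr rfl)

theorem π_inv (h : Cd Q z π) (hx : x ∈ Q) : π x⁻¹ = π x := by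
  have := h.mul x hx _ (Q.inv_mem hx)
  rw [mul_inv_cancel, h.π_one] at this
  rw [← vec2_neg (π x)]
  exact (neg_eq_of_add_eq_zero_right this.symm).symm

theorem eq_or (h : Cd Q z π) (hx : x ∈ Q) (hy : y ∈ Q) : π x = π y ↔ y = x ∨ y = x * z := by
  rw [← vec2_neg (π y), ← add_eq_zero_iff_eq_neg, ← h.π_inv hx, ← h.mul _ (inv_mem hx) _ hy,
    h.ker _ (mul_mem (inv_mem hx) hy), inv_mul_eq_one, inv_mul_eq_iff_eq_mul, eq_comm]

theorem π_mul_z (h : Cd Q z π) (hx : x ∈ Q) : π (x * z) = π x := by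
  rw [h.mul x hx z h.mem, h.π_z, add_zero]

theorem card (h : Cd Q z π) : Nat.card Q = 512 := by
  let f : Q →* Multiplicative V8 := MonoidHom.mk' (fun x => Multiplicative.ofAdd (π x))
    fun x y => congrArg Multiplicative.ofAdd (h.mul x x.2 y y.2)
  have f1 := f.ker.card_mul_index
  rw [index_ker, MonoidHom.range_eq_top.2 (fun v => by
    obtain ⟨x, hx, e⟩ := h.surj v.toAdd
    exact ⟨⟨x, hx⟩, congrArg Multiplicative.ofAdd e⟩), card_top,
    show Nat.card (Multiplicative V8) = 256 by simp, show f.ker = zpowers (⟨z, h.mem⟩ : Q) from ext fun x => by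
      rw [H95.mem_zpowers_iff_of_sq (Subtype.ext h.sq), Subtype.ext_iff, Subtype.ext_iff]
      exact h.ker x x.2, Nat.card_zpowers,
    H95.orderOf_eq_two_of (Subtype.ext h.sq) fun e => h.ne_one (congrArg Subtype.val e)] at f1
  exact f1.symm

theorem sq_iff (h : Cd Q z π) (hx : x ∈ Q) : x * x = 1 ↔ qf (π x) = 0 := by
  rw [h.sqr x hx, zp_eq_one_iff h.ne_one]

theorem conj_or (h : Cd Q z π) (hx : x ∈ Q) (hy : y ∈ Q) : x * y * x⁻¹ = y ∨ x * y * x⁻¹ = y * z :=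
  h.es.conj hy hx

theorem cz (h : Cd Q z π) (hg : g ∈ 𝐍(Q)) : g * z = z * g := H95.mem_cent_iff.1 (h.es.normalizer_le hg)

theorem exists_act (h : Cd Q z π) (hg : g ∈ 𝐍(Q)) : ∃ σ, Act Q z π g σ := by
  have m : ∀ {x}, x ∈ Q → g * x * g⁻¹ ∈ Q := fun hx => (mem_normalizer_iff.1 hg _).1 hx
  choose t ht e using h.surj
  have key : ∀ x ∈ Q, π (g * t (π x) * g⁻¹) = π (g * x * g⁻¹) := fun x hx => by
    rcases (h.eq_or hx (ht (π x))).1 (e _).symm with a | a <;> rw [a]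
    rw [show g * (x * z) * g⁻¹ = g * x * g⁻¹ * z by
      rw [mul_assoc, mul_assoc, ← (show Commute g z from h.cz hg).inv_left.eq]; group, h.π_mul_z (m hx)]
  obtain ⟨σ, hσ⟩ := exists_O8 (fun v => π (g * t v * g⁻¹)) (fun v w => by
    rw [← h.mul _ (m (ht v)) _ (m (ht w)), conj_mul,
      ← key _ (mul_mem (ht v) (ht w)), h.mul _ (ht v) _ (ht w), e, e]) fun v => by
    apply zp_inj h.ne_one
    rw [← h.sqr _ (m (ht v)), conj_mul, h.sqr _ (ht v), e, zp_comm (h.cz hg), mul_inv_cancel_right]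
  exact ⟨σ, h.cz hg, fun x hx => by rw [hσ, key x hx]⟩

theorem act_unique (h : Cd Q z π) (a : Act Q z π g σ) (b : Act Q z π g τ) : σ = τ := O8_ext fun v => by
  obtain ⟨x, hx, rfl⟩ := h.surj v
  rw [← a.2 x hx, b.2 x hx]

theorem act_mul (h : Cd Q z π) (hk : k ∈ 𝐍(Q)) (a : Act Q z π g σ) (b : Act Q z π k τ) :
    Act Q z π (g * k) (σ * τ) :=
  ⟨(show Commute g z from a.1).mul_left b.1, fun x hx => by
    rw [mul_smul, ← b.2 x hx, ← a.2 _ ((mem_normalizer_iff.1 hk _).1 hx)]; congr 1; group⟩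

theorem act_inv (h : Cd Q z π) (hg : g ∈ 𝐍(Q)) (a : Act Q z π g σ) : Act Q z π g⁻¹ σ⁻¹ :=
  ⟨(show Commute g z from a.1).inv_left, fun x hx => by
    rw [eq_inv_smul_iff, ← a.2 _ ((mem_normalizer_iff.1 (inv_mem hg) _).1 hx)]; congr 1; group⟩

theorem act_of_mem (h : Cd Q z π) (hg : g ∈ Q) : Act Q z π g 1 :=
  ⟨h.central g hg, fun x hx => by
    rcases h.conj_or hg hx with e | e <;> rw [e, one_smul]
    exact h.π_mul_z hx⟩

theorem exists_hom (h : Cd Q z π) : ∃ ρ : 𝐍(Q) →* O8, ∀ g : 𝐍(Q), Act Q z π g (ρ g) := by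
  choose f hf using fun g : 𝐍(Q) => h.exists_act g.2
  exact ⟨MonoidHom.mk' f fun g k => h.act_unique (hf _) (h.act_mul k.2 (hf g) (hf k)), hf⟩

theorem cj (h : Cd Q z π) (hg : g * z = z * g) : Cd (Q ^ᶜ g) z fun x => π (g⁻¹ * x * g) := by
  have e : g⁻¹ * z * g = z := by rw [mul_assoc, ← hg, inv_mul_cancel_left]
  have c : ∀ {x y : G}, g⁻¹ * x * g = g⁻¹ * y * g ↔ x = y := by simp
  have m : ∀ x y : G, g⁻¹ * (x * y) * g = g⁻¹ * x * g * (g⁻¹ * y * g) := fun x y => by group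
  have p : ∀ a, g⁻¹ * zp z a * g = zp z a := fun a => by rw [mul_assoc, ← zp_comm hg, inv_mul_cancel_left]
  refine ⟨mem_cj.2 (e.symm ▸ h.mem), h.ne_one, h.sq, fun x hx => c.1 ?_, fun x hx y hy => ?_, fun u => ?_,
    fun x hx => ?_, fun x hx => c.1 ?_, fun x hx y hy => c.1 ?_⟩
  · rw [m, m, e, h.central _ (mem_cj.1 hx)]
  · rw [m, h.mul _ (mem_cj.1 hx) _ (mem_cj.1 hy)]
  · obtain ⟨x, hx, f⟩ := h.surj u
    exact ⟨g * x * g⁻¹, mem_cj'.2 ⟨x, hx, rfl⟩, by simpa [mul_assoc] using f⟩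
  · rw [h.ker _ (mem_cj.1 hx), ← c (x := x) (y := 1), ← c (x := x) (y := z), e]; simp
  · rw [m, p, h.sqr _ (mem_cj.1 hx)]
  · rw [m, m, m, p, h.comm _ (mem_cj.1 hx) _ (mem_cj.1 hy)]

end Cd

end H79.AS
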