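import Cfsg.Agent.Lib.ASG.Def8

/-! Linear algebra in the orthogonal space `V8`: orthogonal complements and involutions. -/

set_option autoImplicit false
set_option synthInstance.maxSize 100000
set_option maxHeartbeats 400000

namespace H39.AL

open H16.P8 H95 Module
open H96.E8 (O8)

/-- identities between vectors -/
macro "vec2" : tactic => `(tactic| (funext k; simp only [Pi.add_apply, Pi.smul_apply, smul_eq_mul, Pi.zero_apply]; grind))

/-- the polar form -/
def BF : LinearMap.BilinForm (ZMod 2) V8 :=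
  LinearMap.mk₂ (ZMod 2) bf bf_add_left bf_smul_left bf_add_right fun a v w => bf_smul_right a v w

/-- the orthogonal complement -/
def pp (W : Submodule (ZMod 2) V8) : Submodule (ZMod 2) V8 := BF.orthogonal W

/-- the commutator map -/
def Nm (σ : O8) : V8 →ₗ[ZMod 2] V8 where
  toFun x := σ • x + x
  map_add' x y := by rw [smul_add]; abel
  map_smul' a x := by rw [O8_smul_smul, smul_add]; rfl

theorem eqns_Lin1 : True := by
  have := @BF.eq_1
  have := @pp.eq_1
  have := @Nm.eq_1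
  trivial

theorem Nm_apply (σ : O8) (x : V8) : Nm σ x = σ • x + x := rfl

theorem smul_eq (σ : O8) (x : V8) : σ • x = x + Nm σ x := by
  rw [Nm_apply, add_comm (σ • x), ← add_assoc, vec2_add_self, zero_add]

theorem Nm_zero {σ : O8} {x : V8} : Nm σ x = 0 ↔ σ • x = x := by
  rw [smul_eq, add_eq_left]

theorem nd : BF.Nondegenerate :=
  ⟨fun _ h => nondeg h, fun _ h => nondeg fun w => (bf_comm _ _).trans (h w)⟩

theorem mem_pp {W : Submodule (ZMod 2) V8} {x : V8} : x ∈ pp W ↔ ∀ w ∈ W, bf w x = 0 := Iff.rfl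

theorem fr8 : finrank (ZMod 2) V8 = 8 := by simp

theorem fr_pp (W : Submodule (ZMod 2) V8) : finrank (ZMod 2) (pp W) + finrank (ZMod 2) W = 8 := by
  have h1 : finrank (ZMod 2) (pp W) = finrank (ZMod 2) V8 - finrank (ZMod 2) W :=
    LinearMap.BilinForm.finrank_orthogonal nd W
  have h2 := W.finrank_le
  rw [fr8] at h1 h2
  omega

theorem pp_pp (W : Submodule (ZMod 2) V8) : pp (pp W) = W :=
  LinearMap.BilinForm.orthogonal_orthogonal nd (fun x y h => (bf_comm y x).trans h) W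

theorem range_eq {M : V8 →ₗ[ZMod 2] V8} (h : ∀ x y, bf (M x) y = bf x (M y)) :
    LinearMap.range M = pp (LinearMap.ker M) := by
  refine Submodule.eq_of_le_of_finrank_eq ?_ ?_
  · rintro _ ⟨x, rfl⟩ w hw
    change bf w (M x) = 0
    rw [← h, show M w = 0 from hw, bf_zero_left]
  · have := M.finrank_range_add_finrank_ker
    have := fr_pp (LinearMap.ker M)
    rw [fr8] at *
    omega

theorem bf_Nm (σ : O8) (x : V8) : bf x (Nm σ x) = qf (Nm σ x) := by
  have := qf_O8 σ x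
  rw [smul_eq, qf_add] at this
  grind

theorem Nm_symm {σ : O8} (h : σ * σ = 1) (x y : V8) : bf (Nm σ x) y = bf x (Nm σ y) := by
  rw [Nm_apply, Nm_apply, bf_add_left, bf_add_right, ← bf_O8 σ (σ • x), ← mul_smul, h, one_smul]

theorem Nm_Nm {σ : O8} (h : σ * σ = 1) (x : V8) : Nm σ (Nm σ x) = 0 := by
  rw [Nm_zero, Nm_apply, smul_add, ← mul_smul, h, one_smul, add_comm]

theorem exists_one {c : V8} (h : c ≠ 0) : ∃ y, bf c y = 1 := by
  by_contra hn
  exact h (nondeg fun w => (zmod2_cases _).resolve_right fun e => hn ⟨w, e⟩)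

theorem line_cases {a b : V8} (qa : qf a = 0) (qb : qf b = 0) (ab : bf a b = 0) {σ : O8}
    (h : ∀ x, σ • x + x = 0 ∨ σ • x + x = a ∨ σ • x + x = b ∨ σ • x + x = a + b) :
    σ = 1 ∨ ((∀ x, σ • x + x = bf x a • b + bf x b • a) ∧ Nat.card {x : V8 // σ • x = x} ≤ 64) := by
  have h1 : ∀ x, ∃ α β : ZMod 2, Nm σ x = α • a + β • b := fun x => by
    rcases h x with e | e | e | e
    exacts [⟨0, 0, by simpa [Nm_apply] using e⟩, ⟨1, 0, by simpa [Nm_apply] using e⟩,
      ⟨0, 1, by simpa [Nm_apply] using e⟩, ⟨1, 1, by simpa [Nm_apply] using e⟩]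
  have h2 : ∀ x, bf x (Nm σ x) = 0 := fun x => by
    obtain ⟨α, β, e⟩ := h1 x
    rw [bf_Nm, e, qf_add, qf_smul, qf_smul, bf_smul_left, bf_smul_right, qa, qb, ab]; simp
  have h3 : ∀ x y, bf x (Nm σ y) = bf y (Nm σ x) := fun x y => by
    have := h2 (x + y)
    rw [map_add, bf_add_left, bf_add_right, bf_add_right, h2, h2] at this
    grind
  refine or_iff_not_imp_left.2 fun h0 => ?_
  obtain ⟨x0, n0⟩ : ∃ x, Nm σ x ≠ 0 := by
    by_contra hn
    exact h0 (O8_ext fun x => by rw [one_smul, ← Nm_zero]; exact by_contra fun e => hn ⟨x, e⟩)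
  obtain ⟨y0, e0⟩ := exists_one n0
  rw [bf_comm] at e0
  refine ⟨fun x => ?_, ?_⟩
  · obtain ⟨α0, β0, f0⟩ := h1 x0
    obtain ⟨α1, β1, f1⟩ := h1 y0
    obtain ⟨α, β, f⟩ := h1 x
    have a1 := h2 x0
    have a2 := h2 y0
    have a3 := (h3 x0 y0).trans e0
    have a4 := h3 x0 x
    have a5 := h3 y0 x
    simp only [f0, f1, f, bf_add_right, bf_smul_right] at a1 a2 a3 a4 a5 e0
    change Nm σ x = _
    rw [f, add_comm]
    generalize bf x0 a = p at *
    generalize bf x0 b = q at *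
    generalize bf y0 a = p' at *
    generalize bf y0 b = q' at *
    generalize bf x a = u at *
    generalize bf x b = w at *
    obtain ⟨rfl, rfl⟩ : β = u ∧ α = w := by
      clear * - a1 a2 a3 a4 a5 e0
      revert α0 β0 α1 β1 α β p q p' q' u w
      decide +kernel
    rfl
  · have := Nat.card_le_card_of_injective (fun t : {x : V8 // σ • x = x} × ZMod 2 × ZMod 2 =>
      t.1.1 + t.2.1 • x0 + t.2.2 • y0) (by
        rintro ⟨⟨f, hf⟩, s, t⟩ ⟨⟨f', hf'⟩, s', t'⟩ e
        have e1 := congrArg (fun w => bf y0 (Nm σ w)) e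
        have e2 := congrArg (fun w => bf x0 (Nm σ w)) e
        simp only [map_add, map_smul, Nm_zero.2 hf, Nm_zero.2 hf', bf_add_right, bf_smul_right, h2, e0,
          (h3 x0 y0).trans e0, bf_zero_right, mul_zero, mul_one, zero_add, add_zero] at e1 e2
        subst e1 e2
        simpa using e)
    rw [Nat.card_prod, Nat.card_prod, Nat.card_zmod, show Nat.card V8 = 256 by simp] at this
    omega

theorem exists_lag {ρ : Submodule (ZMod 2) V8} (h : ρ ≤ pp ρ) : ∃ T, ρ ≤ T ∧ pp T = T := by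
  obtain ⟨T, h1, h2⟩ := exists_maximal_ge_of_wellFoundedGT (fun T => T ≤ pp T) ρ h
  refine ⟨T, h1, le_antisymm (fun x hx => ?_) h2.prop⟩
  refine h2.le_of_ge (y := T ⊔ Submodule.span _ {x}) (fun u hu w hw => ?_) le_sup_left
    (Submodule.mem_sup_right (Submodule.mem_span_singleton_self x))
  obtain ⟨a, ha, _, hb, rfl⟩ := Submodule.mem_sup.1 hu
  obtain ⟨s, rfl⟩ := Submodule.mem_span_singleton.1 hb
  obtain ⟨c, hc, _, hd, rfl⟩ := Submodule.mem_sup.1 hw
  obtain ⟨t, rfl⟩ := Submodule.mem_span_singleton.1 hd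
  change bf _ _ = 0
  simp only [bf_add_left, bf_add_right, bf_smul_left, bf_smul_right, bf_self, mem_pp.1 (h2.prop ha) c hc,
    mem_pp.1 hx c hc, (bf_comm _ _).trans (mem_pp.1 hx a ha), mul_zero, add_zero]

theorem exists_plane {σ : O8} (h : σ * σ = 1) : ∃ u : (Fin 3 → ZMod 2) →+ V8,
    Function.Injective u ∧ ∀ i, qf (u i) = 0 ∧ σ • u i = u i := by
  obtain ⟨T, h1, h2⟩ := exists_lag (ρ := LinearMap.range (Nm σ)) (by
    rintro _ ⟨x, rfl⟩ _ ⟨y, rfl⟩
    change bf _ _ = 0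
    rw [Nm_symm h, Nm_Nm h, bf_zero_right])
  have h4 := fr_pp T
  rw [h2] at h4
  let f : T →ₗ[ZMod 2] ZMod 2 := (AddMonoidHom.mk' (fun t : T => qf t) fun s t => by
    rw [Submodule.coe_add, qf_add, mem_pp.1 (h2.ge t.2) s s.2, add_zero]).toZModLinearMap 2
  have h5 := f.finrank_range_add_finrank_ker
  have h6 := (LinearMap.range f).finrank_le
  rw [finrank_self] at h6
  obtain ⟨g, hg⟩ := (finrank_le_iff_exists_linearMap (R := ZMod 2) (M := Fin 3 → ZMod 2)
    (M' := LinearMap.ker f)).1 (by simp only [finrank_fintype_fun_eq_card, Fintype.card_fin]; omega)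
  refine ⟨(T.subtype ∘ₗ (LinearMap.ker f).subtype ∘ₗ g).toAddMonoidHom,
    T.subtype_injective.comp ((LinearMap.ker f).subtype_injective.comp hg), fun i => ⟨(g i).2, ?_⟩⟩
  rw [← Nm_zero]
  refine nondeg fun w => ?_
  rw [Nm_symm h, bf_comm]
  exact mem_pp.1 (h2.ge (g i).1.2) _ (h1 ⟨w, rfl⟩)

theorem exists_sieg {r u : V8} (qr : qf r = 0) (r0 : r ≠ 0) (ur : bf u r = 0) :
    ∃ τ ∈ Om, ∀ x, τ • x = x + bf x u • r + bf x r • u + (qf u * bf x r) • r := by
  obtain ⟨g, -, rfl⟩ := exists_smul_v1 qr r0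
  obtain ⟨a, a1, a2, a3⟩ := exists_split (v := g⁻¹ • u) (by rw [← bf_O8 g, smul_inv_smul, ur])
  rw [← qf_O8 g] at a1 a3
  rw [← bf_O8 g] at a2
  rw [smul_add, smul_inv_smul] at a3
  generalize g • v1 = r at *
  generalize g • a = m at *
  have key : ∀ m, qf m = 1 → bf m r = 0 → ∃ τ ∈ Om, ∀ x, τ • x = x + bf x m • r + bf x r • m + bf x r • r :=
    fun m h1 h2 => by
      have h3 : qf (m + r) = 1 := by rw [qf_add, h1, qr, h2]; rfl
      refine ⟨_, rf_mul_mem h1 h3, fun x => ?_⟩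
      rw [mul_smul, rf_smul h1, rf_smul h3]
      simp only [bf_add_left, bf_add_right, bf_smul_left, bf_self, (bf_comm r m).trans h2]
      vec2
  have a4 : bf (m + u) r = 0 := by rw [bf_add_left, a2, ur, add_zero]
  obtain ⟨τ, t1, t2⟩ := key m a1 a2
  obtain ⟨τ', t1', t2'⟩ := key _ a3 a4
  refine ⟨_, mul_mem t1 t1', fun x => ?_⟩
  have a5 : qf u = bf u m := by
    rw [qf_add, a1, bf_comm] at a3
    grind
  rw [mul_smul, t2, t2', a5]
  simp only [bf_add_left, bf_add_right, bf_smul_left, bf_self, (bf_comm r m).trans a2, a2, ur]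
  vec2

theorem two_zero (c : (Fin 3 → ZMod 2) → ZMod 2) (h : ∀ i j, c (i + j) = c i + c j) :
    ∃ i ≠ 0, ∃ j ≠ 0, i ≠ j ∧ c i = 0 ∧ c j = 0 := by
  have k : ∀ a b d : ZMod 2, ∃ i : Fin 3 → ZMod 2, i ≠ 0 ∧ ∃ j : Fin 3 → ZMod 2, j ≠ 0 ∧ i ≠ j ∧
      i 0 * a + i 1 * b + i 2 * d = 0 ∧ j 0 * a + j 1 * b + j 2 * d = 0 := by decide +kernel
  let f := (AddMonoidHom.mk' c h).toZModLinearMap 2
  have e : ∀ i, c i = i 0 * f ![1, 0, 0] + i 1 * f ![0, 1, 0] + i 2 * f ![0, 0, 1] := fun i => by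
    simp only [← smul_eq_mul, ← map_smul, ← map_add]
    exact congrArg c (by revert i; decide +kernel)
  obtain ⟨i, i0, j, j0, ij, a, b⟩ := k (f ![1, 0, 0]) (f ![0, 1, 0]) (f ![0, 0, 1])
  exact ⟨i, i0, j, j0, ij, (e i).trans a, (e j).trans b⟩

theorem lag {B : Submodule (ZMod 2) V8} (M : (Fin 3 → ZMod 2) → V8 →ₗ[ZMod 2] V8) (h0 : ∀ x, M 0 x = 0)
    (hk : ∀ i ≠ 0, LinearMap.ker (M i) = B) (hs : ∀ i x y, bf (M i x) y = bf x (M i y))
    (hq : ∀ i x, bf x (M i x) = qf (M i x)) (hm : ∀ i x, M i x ∈ B)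
    (hi : ∀ x ∉ B, Function.Injective fun i => M i x) (hB : B ≠ ⊤) : pp B = B := by
  have r : ∀ i ≠ 0, LinearMap.range (M i) = pp B := fun i hi => by rw [range_eq (hs i), hk i hi]
  have m : ∀ i x, M i x ∈ pp B := fun i x => by
    by_cases e : i = 0
    · rw [e, h0]; exact zero_mem _
    · exact r i e ▸ LinearMap.mem_range_self _ x
  have le : pp B ≤ B := r 1 (by decide) ▸ by rintro _ ⟨x, rfl⟩; exact hm _ x
  have f1 := Submodule.finrank_mono le
  have f2 := fr_pp B
  refine Submodule.eq_of_le_of_finrank_le le (by_contra fun f3 => ?_)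
  have c := natCard_eq_pow_finrank (K := ZMod 2) (V := pp B)
  rw [Nat.card_zmod] at c
  have c1 : Nat.card (pp B) ≤ 2 ^ 3 := c ▸ Nat.pow_le_pow_right (by norm_num) (by omega)
  have sj : ∀ x ∉ B, Function.Bijective fun i => (⟨M i x, m i x⟩ : pp B) := fun x hx =>
    Function.Injective.bijective_of_nat_card_le (fun i j e => hi x hx (congrArg Subtype.val e)) (by simpa using c1)
  have q : ∀ x ∉ B, ∀ w ∈ pp B, bf x w = qf w := fun x hx w hw => by
    obtain ⟨i, e⟩ := (sj x hx).2 ⟨w, hw⟩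
    rw [← show M i x = w from congrArg Subtype.val e, hq]
  obtain ⟨x, -, hx⟩ := SetLike.exists_of_lt hB.lt_top
  have c2 := Nat.card_eq_of_bijective _ (sj x hx)
  rw [c, show Nat.card (Fin 3 → ZMod 2) = 2 ^ 3 by simp, Nat.pow_right_inj (by norm_num)] at c2
  have f4 := Submodule.finrank_add_le_finrank_add_finrank B (Submodule.span (ZMod 2) {x})
  have f5 : finrank (ZMod 2) (Submodule.span (ZMod 2) {x}) ≤ 1 := by
    simpa using finrank_span_le_card (R := ZMod 2) ({x} : Set V8)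
  obtain ⟨y, -, hy⟩ := SetLike.exists_of_lt (show B ⊔ Submodule.span (ZMod 2) {x} < ⊤ from
    lt_top_iff_ne_top.2 fun e => by rw [e, finrank_top, fr8] at f4; omega)
  have y1 : y ∉ B := fun e => hy (Submodule.mem_sup_left e)
  have y2 : x + y ∉ B := fun e => hy (by
    have := add_mem (Submodule.mem_sup_right (S := B) (Submodule.mem_span_singleton_self x))
      (Submodule.mem_sup_left e)
    rwa [← add_assoc, vec2_add_self, zero_add] at this)
  refine y1 (pp_pp B ▸ fun w hw => ?_)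
  have := q _ y2 w hw
  rw [bf_add_left, q x hx w hw, add_eq_left] at this
  exact (bf_comm _ _).trans this

end H39.AL
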