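import Cfsg.Agent.Lib.ASG.Defs

/-! The orthogonal space `V6` and the action of `S₈`: finite facts. -/

set_option autoImplicit false

namespace H79.AS

open H30 H30.F4 H69 Subgroup Cfsg Equiv

theorem forall_V6 {P : V6 → Prop} : (∀ x, P x) ↔ ∀ a b c d e f, P ![a, b, c, d, e, f] :=
  ⟨fun h _ _ _ _ _ _ => h _, fun h x => by
    convert h (x 0) (x 1) (x 2) (x 3) (x 4) (x 5) using 1
    ext i; fin_cases i <;> rfl⟩
theorem add_self6 (x : V6) : x + x = 0 := funext fun i => CharTwo.add_self_eq_zero (x i)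
theorem q6_add (x y : V6) : q6 (x + y) = q6 x + q6 y + b6 x y := by
  simp only [q6, b6, Pi.add_apply]; ring
theorem q6_smul (c : F4) (x : V6) : q6 (c • x) = c * c * q6 x := by
  simp only [q6, Pi.smul_apply, smul_eq_mul]; ring
theorem b6_comm (x y : V6) : b6 x y = b6 y x := by simp only [b6]; ring
theorem b6_self (x : V6) : b6 x x = 0 := by
  simp only [b6]; linear_combination (x 0 * x 1 + x 2 * x 5 + x 3 * x 4) * two_eq_zero
theorem b6_add_left (x y u : V6) : b6 (x + y) u = b6 x u + b6 y u := by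
  simp only [b6, Pi.add_apply]; ring
theorem b6_add_right (x y u : V6) : b6 x (y + u) = b6 x y + b6 x u := by
  simp only [b6, Pi.add_apply]; ring
theorem b6_smul_left (c : F4) (x y : V6) : b6 (c • x) y = c * b6 x y := by
  simp only [b6, Pi.smul_apply, smul_eq_mul]; ring
theorem b6_smul_right (c : F4) (x y : V6) : b6 x (c • y) = c * b6 x y := by
  simp only [b6, Pi.smul_apply, smul_eq_mul]; ring
theorem b6_nondeg {x : V6} (h : ∀ y, b6 x y = 0) : x = 0 := by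
  have h0 := h ![0, 1, 0, 0, 0, 0]
  have h1 := h ![1, 0, 0, 0, 0, 0]
  have h2 := h ![0, 0, 0, 0, 0, 1]
  have h3 := h ![0, 0, 0, 0, 1, 0]
  have h4 := h ![0, 0, 0, 1, 0, 0]
  have h5 := h ![0, 0, 1, 0, 0, 0]
  simp [b6] at h0 h1 h2 h3 h4 h5
  ext i; fin_cases i <;> simpa
theorem card_V6 : Nat.card V6 = 4096 := by rw [Nat.card_fun, natCard_eq]; simp

theorem f4_v : v = w + 1 := by decide
theorem f4_w : w * w = w + 1 := by decide

theorem enc_sum (x : V6) : ∑ i, enc x i = 0 := by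
  have := f4_w
  simp [Fin.sum_univ_eight, enc, f4_v]
  grind
theorem dec_enc (x : V6) : dec (enc x) = x := by
  have := f4_w
  ext i; fin_cases i <;> simp [enc, dec, f4_v] <;> grind
theorem enc_dec {f : Fin 8 → F4} (h : ∑ i, f i = 0) (i : Fin 8) : enc (dec f) i = f i + f 7 := by
  have := f4_w
  rw [Fin.sum_univ_eight] at h
  fin_cases i <;> simp [enc, dec, f4_v] <;> grind
theorem dec_const (f : Fin 8 → F4) (c : F4) : dec (fun i => f i + c) = dec f := by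
  have := f4_w
  ext i; fin_cases i <;> simp [dec, f4_v] <;> grind
theorem enc_act (σ : Perm (Fin 8)) (x : V6) (i : Fin 8) :
    enc (act σ x) i = enc x (σ⁻¹ i) + enc x (σ⁻¹ 7) :=
  enc_dec ((Equiv.sum_comp σ⁻¹ (enc x)).trans (enc_sum x)) i
theorem act_dec (σ : Perm (Fin 8)) {f : Fin 8 → F4} (h : ∑ i, f i = 0) :
    act σ (dec f) = dec fun i => f (σ⁻¹ i) := by
  rw [act, ← dec_const (fun i => f (σ⁻¹ i)) (f 7)]
  exact congrArg dec (funext fun i => enc_dec h _)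
theorem act_one (x : V6) : act 1 x = x := dec_enc x
theorem act_mul (σ τ : Perm (Fin 8)) (x : V6) : act (σ * τ) x = act σ (act τ x) :=
  (act_dec σ ((Equiv.sum_comp τ⁻¹ (enc x)).trans (enc_sum x))).symm
theorem enc_add (x y : V6) (i : Fin 8) : enc (x + y) i = enc x i + enc y i := by
  fin_cases i <;> simp [enc] <;> ring
theorem enc_smul (c : F4) (x : V6) (i : Fin 8) : enc (c • x) i = c * enc x i := by
  fin_cases i <;> simp [enc] <;> ring
theorem act_add (σ : Perm (Fin 8)) (x y : V6) : act σ (x + y) = act σ x + act σ y := by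
  ext i; fin_cases i <;> simp [act, dec, enc_add] <;> ring
theorem act_smul (σ : Perm (Fin 8)) (c : F4) (x : V6) : act σ (c • x) = c • act σ x := by
  ext i; fin_cases i <;> simp [act, dec, enc_smul] <;> ring
/-- the second elementary symmetric function -/
def es2 (f : Fin 8 → F4) : F4 := f 0 * (f 1 + f 2 + f 3 + f 4 + f 5 + f 6 + f 7) +
  f 1 * (f 2 + f 3 + f 4 + f 5 + f 6 + f 7) + f 2 * (f 3 + f 4 + f 5 + f 6 + f 7) +
  f 3 * (f 4 + f 5 + f 6 + f 7) + f 4 * (f 5 + f 6 + f 7) + f 5 * (f 6 + f 7) + f 6 * f 7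
theorem q6_dec {f : Fin 8 → F4} (h : ∑ i, f i = 0) : q6 (dec f) = es2 f := by
  have := f4_w
  rw [Fin.sum_univ_eight] at h
  simp [q6, dec, es2, f4_v]
  grind
theorem es2_comp (σ : Perm (Fin 8)) (f : Fin 8 → F4) : es2 (fun i => f (σ i)) = es2 f := by
  induction (Perm.mclosure_swap_castSucc_succ 7 ▸ Submonoid.mem_top σ : σ ∈ Submonoid.closure _)
    using Submonoid.closure_induction generalizing f with
  | mem x h =>
    obtain ⟨i, rfl⟩ := h
    fin_cases i <;> simp [es2, swap_apply_def] <;> ring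
  | one => rfl
  | mul x y _ _ hx hy => exact (hy fun i => f (x i)).trans (hx f)
theorem q6_act (σ : Perm (Fin 8)) (x : V6) : q6 (act σ x) = q6 x := by
  rw [act, q6_dec ((Equiv.sum_comp σ⁻¹ (enc x)).trans (enc_sum x)), es2_comp, ← q6_dec (enc_sum x),
    dec_enc]
theorem b6_act (σ : Perm (Fin 8)) (x y : V6) : b6 (act σ x) (act σ y) = b6 x y := by
  have := q6_act σ (x + y)
  rwa [act_add, q6_add, q6_add, q6_act, q6_act, add_right_inj] at this
theorem enc_bar (x : V6) (i : Fin 8) : enc (bar x) i = enc x i * enc x i := by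
  have := f4_w
  fin_cases i <;> simp [enc, bar, f4_v] <;> grind
theorem bar_act (σ : Perm (Fin 8)) (x : V6) : bar (act σ x) = act σ (bar x) := by
  have := f4_w
  simp only [act, enc_bar]
  ext i; fin_cases i <;> simp [dec, bar, f4_v] <;> grind
/-- the indicator function of a pair -/
def ind (a b : Fin 8) : Fin 8 → F4 := fun k => if k = a ∨ k = b then 1 else 0
theorem ind_facts : ∀ a b : Fin 8, a ≠ b → ∑ i, ind a b i = 0 ∧ bar (dec (ind a b)) = dec (ind a b) ∧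
    ∀ i j, i ≠ j → dec (ind a b) = dec (ind i j) → a = i ∨ a = j := by decide +kernel
/-- the action on the rational vectors is faithful -/
theorem act_faith {σ : Perm (Fin 8)} (h : ∀ x, bar x = x → act σ x = x) : σ = 1 := by
  have k : ∀ i j, i ≠ j → σ i = i ∨ σ i = j := fun i j e => by
    have := h _ (ind_facts i j e).2.1
    rw [act_dec σ (ind_facts i j e).1, show (fun k => ind i j (σ⁻¹ k)) = ind (σ i) (σ j) from
      funext fun k => by simp only [ind, Perm.inv_eq_iff_eq]] at this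
    exact (ind_facts _ _ (σ.injective.ne e)).2.2 i j e this
  have e : ∀ i s : Fin 8, (∀ j, i ≠ j → s = i ∨ s = j) → s = i := by decide +kernel
  exact Perm.ext fun i => e i _ (k i)
theorem act_eq {σ : Perm (Fin 8)} (l : Fin 8 → Fin 8) (h : ∀ i, σ⁻¹ i = l i) (x : V6) :
    act σ x = dec fun i => enc x (l i) := by simp only [act, h]
theorem act_xa1 : act (swap 3 4 * swap 5 6) = xav 1 := by
  have := f4_w
  ext x i; rw [act_eq ![0, 1, 2, 4, 3, 6, 5, 7] (by decide)]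
  fin_cases i <;> simp [dec, enc, xav, f4_v] <;> grind
theorem act_xaw : act (swap 3 5 * swap 4 6) = xav w := by
  have := f4_w
  ext x i; rw [act_eq ![0, 1, 2, 5, 6, 3, 4, 7] (by decide)]
  fin_cases i <;> simp [dec, enc, xav, f4_v] <;> grind
theorem act_na : act (swap 3 7 * swap 5 6) = nav := by
  have := f4_w
  ext x i; rw [act_eq ![0, 1, 2, 7, 4, 6, 5, 3] (by decide)]
  fin_cases i <;> simp [dec, enc, nav, f4_v] <;> grind
theorem act_u1 : act (swap 0 7 * swap 1 2) = uv 1 1 := by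
  have := f4_w
  ext x i; rw [act_eq ![7, 2, 1, 3, 4, 5, 6, 0] (by decide)]
  fin_cases i <;> simp [dec, enc, uv, f4_v] <;> grind
theorem act_uw : act (swap 0 1 * swap 2 7) = uv 1 w := by
  have := f4_w
  ext x i; rw [act_eq ![1, 0, 7, 3, 4, 5, 6, 2] (by decide)]
  fin_cases i <;> simp [dec, enc, uv, f4_v] <;> grind
theorem frob_sw (x : V6) : frob (act (swap 1 2 * swap 5 6) x) = bar x := by
  have := f4_w
  ext i; rw [act_eq ![0, 2, 1, 3, 4, 6, 5, 7] (by decide)]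
  fin_cases i <;> simp [dec, enc, frob, bar, f4_v] <;> grind
theorem A5.inv {σ : Perm (Fin 8)} (h : A5 σ) : A5 σ⁻¹ :=
  ⟨by rw [Perm.sign_inv, h.1], Perm.inv_eq_iff_eq.2 h.2.1.symm, Perm.inv_eq_iff_eq.2 h.2.2.1.symm,
    Perm.inv_eq_iff_eq.2 h.2.2.2.symm⟩
theorem A5.mul {σ τ : Perm (Fin 8)} (h : A5 σ) (k : A5 τ) : A5 (σ * τ) :=
  ⟨by rw [map_mul, h.1, k.1, mul_one], by rw [Perm.mul_apply, k.2.1, h.2.1],
    by rw [Perm.mul_apply, k.2.2.1, h.2.2.1], by rw [Perm.mul_apply, k.2.2.2, h.2.2.2]⟩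
theorem A5.one : A5 1 := ⟨map_one _, rfl, rfl, rfl⟩
theorem Ev.inv {σ : Perm (Fin 8)} (h : Ev σ) : Ev σ⁻¹ := (Perm.sign_inv σ).trans h
theorem Ev.mul {σ τ : Perm (Fin 8)} (h : Ev σ) (k : Ev τ) : Ev (σ * τ) := by
  rw [Ev, map_mul, h, k, mul_one]
theorem Ev.one : Ev 1 := map_one _
theorem A5.ev {σ : Perm (Fin 8)} (h : A5 σ) : Ev σ := h.1
theorem A5.act_01 {σ : Perm (Fin 8)} (h : A5 σ) (x : V6) : act σ x 0 = x 0 ∧ act σ x 1 = x 1 := by
  obtain ⟨-, h0, h1, h2⟩ := h.inv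
  nth_rw 2 4 [← dec_enc x]
  constructor <;> simp only [act, dec, h0, h1, h2, Matrix.cons_val]
theorem A5.ge {σ : Perm (Fin 8)} (h : A5 σ) (i : Fin 8) : 3 ≤ σ i ↔ 3 ≤ i := by
  have e : ∀ i : Fin 8, 3 ≤ i ↔ i ≠ 0 ∧ i ≠ 1 ∧ i ≠ 2 := by decide
  rw [e, e]
  nth_rw 1 [← h.2.1, ← h.2.2.1, ← h.2.2.2]
  simp only [ne_eq, σ.injective.eq_iff]
theorem A5.act_fix {σ : Perm (Fin 8)} (h : A5 σ) (a c : F4) :
    act σ ![a, c, 0, 0, 0, 0] = ![a, c, 0, 0, 0, 0] := by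
  have e : ∀ i : Fin 8, 3 ≤ i → enc ![a, c, 0, 0, 0, 0] i = 0 := fun i hi => by
    fin_cases i <;> simp [enc] at hi ⊢
  refine (congrArg dec (funext fun i => ?_)).trans (dec_enc _)
  by_cases hi : 3 ≤ i
  · rw [e i hi, e _ ((h.inv.ge i).2 hi)]
  · obtain ⟨-, h0, h1, h2⟩ := h.inv
    fin_cases i <;> simp_all

/-- words in the five generators -/
def wd (l : List (Fin 5)) : Perm (Fin 8) := (l.map ![swap 3 4 * swap 5 6, swap 3 5 * swap 4 6,
  swap 3 7 * swap 5 6, swap 0 7 * swap 1 2, swap 0 1 * swap 2 7]).prod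
/-- coset representatives along a chain of stabilisers -/
def tb : Fin 6 → List (List (Fin 5)) :=
  ![[[], [4], [4, 3], [3, 2], [3, 2, 0], [3, 2, 1], [3, 2, 1, 0], [3]],
    [[], [3, 2, 3, 2, 3], [3, 2, 4, 2, 3], [3, 2, 4, 2, 3, 0], [3, 2, 4, 2, 3, 1],
      [3, 2, 4, 2, 3, 1, 0], [3, 2, 4, 2, 3, 2]],
    [[], [4, 2, 4], [4, 2, 4, 0], [4, 2, 4, 1], [4, 2, 4, 1, 0], [4, 2, 4, 2]],
    [[], [0], [1], [1, 0], [2]], [[], [2, 1, 2], [2, 1, 0, 2], [0, 2, 0]],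
    [[], [1, 0, 2, 1], [1, 2, 1, 0]]]
theorem tb_ok : ∀ (n : Fin 6) (j : Fin 8), n.1 ≤ j.1 → ∃ l ∈ tb n, (wd l j).1 = n.1 ∧
    ∀ i : Fin 8, i.1 < n.1 → wd l i = i := by decide +kernel
theorem wd_ev (l : List (Fin 5)) : Ev (wd l) := by
  induction l with
  | nil => exact Ev.one
  | cons a l ih =>
    refine Ev.mul ?_ ih
    fin_cases a <;> simp [Ev]
theorem tb_step (n : Fin 6) {σ : Perm (Fin 8)} (h : ∀ i : Fin 8, i.1 < n.1 → σ i = i) :
    ∃ l ∈ tb n, ∀ i : Fin 8, i.1 < n.1 + 1 → (wd l * σ) i = i := by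
  obtain ⟨l, hl, h1, h2⟩ := tb_ok n (σ (n.castLE (by norm_num))) (not_lt.1 fun e => by
    have := σ.injective (h _ e)
    rw [this] at e
    simp at e)
  refine ⟨l, hl, fun i hi => ?_⟩
  rcases Nat.lt_succ_iff_lt_or_eq.1 hi with e | e
  · rw [Perm.mul_apply, h i e, h2 i e]
  · rw [show i = n.castLE (by norm_num) from Fin.ext e]; exact Fin.ext h1
theorem A5.nf {σ : Perm (Fin 8)} (h : A5 σ) :
    ∃ a ∈ tb 3, ∃ b ∈ tb 4, ∃ c ∈ tb 5, σ = (wd c * (wd b * wd a))⁻¹ := by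
  obtain ⟨a, ha, h1⟩ := tb_step 3 (σ := σ) fun i hi => by
    obtain ⟨-, h0, h1, h2⟩ := h
    fin_cases i <;> simp_all
  obtain ⟨b, hb, h2⟩ := tb_step 4 h1
  obtain ⟨c, hc, h3⟩ := tb_step 5 h2
  refine ⟨a, ha, b, hb, c, hc, eq_inv_of_mul_eq_one_right ?_⟩
  have e : Ev (wd c * (wd b * (wd a * σ))) := (wd_ev c).mul ((wd_ev b).mul ((wd_ev a).mul h.1))
  rw [mul_assoc, mul_assoc]
  generalize wd c * (wd b * (wd a * σ)) = τ at h3 e
  have k : ∀ s : Fin 8, (∀ i : Fin 8, i.1 < 6 → s ≠ i) → s = 6 ∨ s = 7 := by decide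
  have k6 := k (τ 6) fun i hi e => by rw [← h3 i hi, τ.injective.eq_iff] at e; rw [← e] at hi; simp at hi
  have k7 := k (τ 7) fun i hi e => by rw [← h3 i hi, τ.injective.eq_iff] at e; rw [← e] at hi; simp at hi
  have n : τ 6 ≠ τ 7 := τ.injective.ne (by decide)
  have x : ∀ ρ : Perm (Fin 8), (∀ i : Fin 8, i.1 < 6 → ρ i = i) → τ 6 = ρ 6 → τ 7 = ρ 7 → τ = ρ :=
    fun ρ a b c => Perm.ext fun i => by
      by_cases hi : i.1 < 6
      · rw [h3 i hi, a i hi]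
      · rcases k i (fun j hj e => hi (e ▸ hj)) with rfl | rfl <;> assumption
  rcases k6 with k6 | k6 <;> rcases k7 with k7 | k7
  · exact absurd (k6.trans k7.symm) n
  · exact x 1 (fun _ _ => rfl) k6 k7
  · rw [x (swap 6 7) (by decide) k6 k7, Ev, Perm.sign_swap (by decide)] at e
    exact absurd e (by decide)
  · exact absurd (k6.trans k7.symm) n
/-- evaluation of a word -/
def ap (l : List (Fin 5)) (i : Fin 8) : Fin 8 := l.foldr (fun a j => ![![0, 1, 2, 4, 3, 6, 5, 7],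
  ![0, 1, 2, 5, 6, 3, 4, 7], ![0, 1, 2, 7, 4, 6, 5, 3], ![7, 2, 1, 3, 4, 5, 6, 0],
  ![1, 0, 7, 3, 4, 5, 6, 2]] a j) i
theorem wd_ap (l : List (Fin 5)) (i : Fin 8) : wd l i = ap l i := by
  induction l with
  | nil => rfl
  | cons a l ih =>
    rw [ap, List.foldr_cons, ← ap, ← ih, wd, List.map_cons, List.prod_cons, Perm.mul_apply, ← wd]
    generalize wd l i = j
    revert a j
    decide
theorem A5.pow {σ : Perm (Fin 8)} (h : A5 σ) : σ ^ 30 = 1 := by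
  obtain ⟨a, ha, b, hb, c, hc, rfl⟩ := h.nf
  have k : ∀ a ∈ tb 3, ∀ b ∈ tb 4, ∀ c ∈ tb 5, ∃ n ∈ [2, 3, 5], n ∣ 30 ∧
      ∀ i, (fun j => ap c (ap b (ap a j)))^[n] i = i := by decide +kernel
  obtain ⟨n, -, ⟨m, e⟩, k⟩ := k a ha b hb c hc
  rw [inv_pow, inv_eq_one, e, pow_mul, show (wd c * (wd b * wd a)) ^ n = 1 from Perm.ext fun i => by
    rw [Perm.coe_pow]; simpa only [Perm.coe_mul, Function.comp_def, wd_ap, Perm.one_apply] using k i, one_pow]
theorem wd_mem {H : Subgroup (Perm (Fin 8))} {l : List (Fin 5)}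
    (h : ∀ i ∈ l, wd [i] ∈ H) : wd l ∈ H := by
  refine list_prod_mem fun x hx => ?_
  obtain ⟨i, hi, rfl⟩ := List.mem_map.1 hx
  simpa [wd] using h i hi
theorem gen5 {H : Subgroup (Perm (Fin 8))} (h1 : swap 3 4 * swap 5 6 ∈ H)
    (h2 : swap 3 5 * swap 4 6 ∈ H) (h3 : swap 3 7 * swap 5 6 ∈ H) {σ : Perm (Fin 8)} (h : A5 σ) :
    σ ∈ H := by
  obtain ⟨a, ha, b, hb, c, hc, rfl⟩ := h.nf
  have e : ∀ n : Fin 6, 3 ≤ n → ∀ l ∈ tb n, ∀ i ∈ l, i = 0 ∨ i = 1 ∨ i = 2 := by decide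
  have k : ∀ n : Fin 6, 3 ≤ n → ∀ l ∈ tb n, wd l ∈ H := fun n hn l hl => wd_mem fun i hi => by
    rcases e n hn l hl i hi with rfl | rfl | rfl <;> simpa [wd]
  exact inv_mem (mul_mem (k 5 (by decide) c hc) (mul_mem (k 4 (by decide) b hb) (k 3 le_rfl a ha)))
theorem gen8 {H : Subgroup (Perm (Fin 8))} (h1 : ∀ σ, A5 σ → σ ∈ H)
    (h2 : swap 0 7 * swap 1 2 ∈ H) (h3 : swap 0 1 * swap 2 7 ∈ H) {σ : Perm (Fin 8)} (h : Ev σ) :
    σ ∈ H := by
  have k : ∀ l, wd l ∈ H := fun l => wd_mem fun i _ => by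
    fin_cases i
    exacts [h1 _ ⟨wd_ev _, by decide⟩, h1 _ ⟨wd_ev _, by decide⟩, h1 _ ⟨wd_ev _, by decide⟩,
      by simpa [wd], by simpa [wd]]
  obtain ⟨a, -, e1⟩ := tb_step 0 (σ := σ) fun i hi => by simp at hi
  obtain ⟨b, -, e2⟩ := tb_step 1 e1
  obtain ⟨c, -, e3⟩ := tb_step 2 e2
  have := h1 _ ⟨(wd_ev c).mul ((wd_ev b).mul ((wd_ev a).mul h)), e3 0 (by decide), e3 1 (by decide),
    e3 2 (by decide)⟩
  rwa [mul_mem_cancel_left (k c), mul_mem_cancel_left (k b), mul_mem_cancel_left (k a)] at this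
/-- the alternating group on five points embedded into `S₈` -/
def em5 : alternatingGroup {i : Fin 8 // 3 ≤ i} →* Perm (Fin 8) :=
  Perm.ofSubtype.comp (alternatingGroup _).subtype
theorem em5_inj : Function.Injective em5 := Perm.ofSubtype_injective.comp Subtype.val_injective
theorem A5_iff {σ : Perm (Fin 8)} : A5 σ ↔ ∃ τ, em5 τ = σ := by
  constructor
  · intro h
    have e := Perm.ofSubtype_subtypePerm h.ge fun i hi => by
      obtain ⟨-, h0, h1, h2⟩ := h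
      fin_cases i <;> simp_all
    exact ⟨⟨_, Perm.mem_alternatingGroup.2 ((Perm.sign_ofSubtype _).symm.trans ((congrArg Perm.sign e).trans h.1))⟩, e⟩
  · rintro ⟨τ, rfl⟩
    exact ⟨(Perm.sign_ofSubtype τ.1).trans τ.2, Perm.ofSubtype_apply_of_not_mem _ (by decide),
      Perm.ofSubtype_apply_of_not_mem _ (by decide), Perm.ofSubtype_apply_of_not_mem _ (by decide)⟩
theorem card_five : Nat.card {i : Fin 8 // 3 ≤ i} = 5 := by rw [Nat.card_eq_fintype_card]; decide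
theorem card_A5 : Nat.card {σ : Perm (Fin 8) // A5 σ} = 60 := by
  have : Nontrivial {i : Fin 8 // 3 ≤ i} := ⟨⟨3, by decide⟩, ⟨4, by decide⟩, by decide⟩
  refine (Nat.card_congr (Equiv.subtypeEquivRight fun σ => A5_iff)).trans
    ((Nat.card_congr (Equiv.ofInjective _ em5_inj)).symm.trans ?_)
  rw [nat_card_alternatingGroup, card_five]
  rfl
/-- a subgroup normalised by `A₅` and contained in it -/
theorem simple5 {H : Subgroup (Perm (Fin 8))} (h1 : ∀ σ ∈ H, A5 σ)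
    (h2 : ∀ τ, A5 τ → ∀ σ ∈ H, τ * σ * τ⁻¹ ∈ H) : H = ⊥ ∨ ∀ σ, A5 σ → σ ∈ H := by
  have := alternatingGroup.isSimpleGroup card_five.ge
  have n : (H.comap em5).Normal := ⟨fun a ha g => by
    simpa using h2 _ (A5_iff.2 ⟨g, rfl⟩) _ ha⟩
  refine n.eq_bot_or_eq_top.imp (fun e => eq_bot_iff.2 fun σ hσ => ?_) fun e σ hσ => ?_
  · obtain ⟨τ, rfl⟩ := A5_iff.1 (h1 σ hσ)
    rw [mem_bot.1 (e ▸ hσ : τ ∈ (⊥ : Subgroup _)), map_one]; exact one_mem _
  · obtain ⟨τ, rfl⟩ := A5_iff.1 hσ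
    exact (e ▸ mem_top τ : τ ∈ H.comap em5)
theorem simple8 {H : Subgroup (Perm (Fin 8))} (h1 : ∀ σ ∈ H, Ev σ)
    (h2 : ∀ τ, Ev τ → ∀ σ ∈ H, τ * σ * τ⁻¹ ∈ H) : H = ⊥ ∨ ∀ σ, Ev σ → σ ∈ H := by
  have := alternatingGroup.isSimpleGroup (α := Fin 8) (by simp)
  have n : (H.subgroupOf (alternatingGroup (Fin 8))).Normal := ⟨fun a ha g => h2 _ g.2 _ ha⟩
  refine n.eq_bot_or_eq_top.imp (fun e => eq_bot_iff.2 fun σ hσ => ?_) fun e σ hσ => ?_
  · have k : (⟨σ, h1 σ hσ⟩ : alternatingGroup (Fin 8)) ∈ H.subgroupOf _ := hσ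
    rw [e, mem_bot] at k
    exact congrArg Subtype.val k
  · exact (e ▸ mem_top _ : (⟨σ, hσ⟩ : alternatingGroup (Fin 8)) ∈ H.subgroupOf _)
theorem card_Ev : Nat.card {σ : Perm (Fin 8) // Ev σ} = 20160 :=
  (nat_card_alternatingGroup (α := Fin 8)).trans (by simp; rfl)
theorem rat_of {y : V6} (h : ∀ u, bar u = u → b6 y u = 0 ∨ b6 y u = 1) : bar y = y := by
  have k : ∀ a b : F4, (a + b = 0 ∨ a + b = 1) → (a * v + b * w = 0 ∨ a * v + b * w = 1) →
      b * b = a ∧ a * a = b := by decide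
  have e : ∀ a : F4, a = 0 ∨ a = 1 → a * a = a := by decide
  have h0 := h ![1, 1, 0, 0, 0, 0] (by decide)
  have h1 := h ![w, v, 0, 0, 0, 0] (by decide)
  have h2 := h ![0, 0, 0, 0, 0, 1] (by decide)
  have h3 := h ![0, 0, 0, 1, 1, 0] (by decide)
  have h4 := h ![0, 0, 0, w, v, 0] (by decide)
  have h5 := h ![0, 0, 1, 0, 0, 0] (by decide)
  simp only [b6, Matrix.cons_val, mul_zero, mul_one, add_zero, zero_add] at h0 h1 h2 h3 h4 h5
  ext i; fin_cases i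
  exacts [(k _ _ h0 h1).1, (k _ _ h0 h1).2, e _ h2, (k _ _ h3 h4).1, (k _ _ h3 h4).2, e _ h5]
theorem rat_val {x y : V6} (hx : bar x = x) (hy : bar y = y) :
    (q6 x = 0 ∨ q6 x = 1) ∧ (b6 x y = 0 ∨ b6 x y = 1) := by
  have e : ∀ a : F4, a * a = a → a = 0 ∨ a = 1 := by decide
  constructor <;> apply e
  · nth_rw 3 [← hx]; simp [q6, bar]; grind
  · nth_rw 3 [← hx, ← hy]; simp [b6, bar]; grind
theorem card_sub {P : V6 → Prop} [DecidablePred P] {n : ℕ}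
    (h : (Finset.univ.filter fun t : F4 × F4 × F4 × F4 × F4 × F4 =>
      P ![t.1, t.2.1, t.2.2.1, t.2.2.2.1, t.2.2.2.2.1, t.2.2.2.2.2]).card = n) :
    Nat.card {x : V6 // P x} = n := by
  rw [← h, ← Fintype.card_subtype, ← Nat.card_eq_fintype_card]
  refine Nat.card_congr (Equiv.subtypeEquiv ⟨fun x => (x 0, x 1, x 2, x 3, x 4, x 5),
    fun t => ![t.1, t.2.1, t.2.2.1, t.2.2.2.1, t.2.2.2.2.1, t.2.2.2.2.2], forall_V6.2 fun _ _ _ _ _ _ => rfl,
    fun _ => rfl⟩ (forall_V6.2 fun _ _ _ _ _ _ => Iff.rfl))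
theorem card_rat : Nat.card {x : V6 // bar x = x} = 64 := card_sub (by decide +kernel)
theorem xav_fix {c : F4} (h : c ≠ 0) {x : V6} : xav c x = x ↔ x 2 = 0 ∧ x 4 = c * x 3 := by
  have e : ∀ c a b : F4, c ≠ 0 → (c * c * a + c * b = 0 ↔ b = c * a) := by decide
  refine ⟨fun k => ?_, fun k => ?_⟩
  · have h2 : x 2 = 0 := by simpa [xav, h] using congrFun k 3
    exact ⟨h2, (e _ _ _ h).1 (by simpa [xav, h2, add_assoc] using congrFun k 5)⟩
  · ext i; fin_cases i <;> simp [xav, k.1, add_assoc, (e _ _ _ h).2 k.2]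
theorem card_xa {c : F4} (h : c ≠ 0) : Nat.card {x : V6 // xav c x = x} = 256 := by
  rw [show 256 = Nat.card (F4 × F4 × F4 × F4) by simp only [Nat.card_prod, natCard_eq]]
  exact Nat.card_congr ⟨fun x => (x.1 0, x.1 1, x.1 3, x.1 5),
    fun t => ⟨![t.1, t.2.1, 0, t.2.2.1, c * t.2.2.1, t.2.2.2], (xav_fix h).2 ⟨rfl, rfl⟩⟩,
    fun x => Subtype.ext (by
      obtain ⟨a, b⟩ := (xav_fix h).1 x.2
      ext i; fin_cases i <;> simp [a, b]), fun _ => rfl⟩
theorem xav_fix2 {x : V6} : (∀ c, xav c x = x) ↔ x 2 = 0 ∧ x 3 = 0 ∧ x 4 = 0 := by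
  have e : ∀ a b : F4, b = 1 * a → b = w * a → a = 0 ∧ b = 0 := by decide
  refine ⟨fun k => ⟨((xav_fix one_ne_zero).1 (k 1)).1, e _ _ ((xav_fix one_ne_zero).1 (k 1)).2
    ((xav_fix (by decide)).1 (k w)).2⟩, fun k c => ?_⟩
  ext i; fin_cases i <;> simp [xav, k.1, k.2.1, k.2.2]
theorem card_xa2 : Nat.card {x : V6 // ∀ c, xav c x = x} = 64 := by
  rw [show 64 = Nat.card (F4 × F4 × F4) by simp only [Nat.card_prod, natCard_eq]]
  exact Nat.card_congr ⟨fun x => (x.1 0, x.1 1, x.1 5),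
    fun t => ⟨![t.1, t.2.1, 0, 0, 0, t.2.2], xav_fix2.2 ⟨rfl, rfl, rfl⟩⟩,
    fun x => Subtype.ext (by
      obtain ⟨a, b, c⟩ := xav_fix2.1 x.2
      ext i; fin_cases i <;> simp [a, b, c]), fun _ => rfl⟩

end H79.AS
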