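import Cfsg.Agent.Lib.ASG.OA

/-! The opening, part 2. -/

set_option autoImplicit false

namespace H79.AS

open H30 H30.F4 H69 Subgroup Cfsg Equiv

variable {G : Type*} [Group G] [Finite G]

theorem ob_four {T : Subgroup G} (hT : IsPGroup 2 T) {a b : G} (ha : a ∈ T) (hb : b ∈ T) (a1 : a ≠ 1)
    (b1 : b ≠ 1) (ab : a ≠ b) : 4 ≤ Nat.card T := by
  classical
  have : Fact (Nat.Prime 2) := ⟨Nat.prime_two⟩
  obtain ⟨n, e⟩ := IsPGroup.iff_card.1 hT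
  have := Fintype.ofFinite T
  have h : 2 < Nat.card T := by
    rw [Nat.card_eq_fintype_card]
    exact Fintype.two_lt_card_iff.2 ⟨⟨a, ha⟩, ⟨b, hb⟩, 1, fun c => ab (Subtype.mk.inj c),
      fun c => a1 (Subtype.mk.inj c), fun c => b1 (Subtype.mk.inj c)⟩
  rw [e] at h ⊢
  rcases n with _ | _ | n
  · omega
  · omega
  · rw [pow_succ, pow_succ]; have := Nat.two_pow_pos n; omega

theorem ob_two {T : Subgroup G} (h : 4 ≤ Nat.card T) : ∃ a ∈ T, ∃ b ∈ T, a ≠ 1 ∧ b ≠ 1 ∧ a ≠ b := by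
  classical
  have := Fintype.ofFinite T
  rw [Nat.card_eq_fintype_card] at h
  obtain ⟨a, b, c, h1, h2, h3⟩ := Fintype.two_lt_card_iff.1 (by omega : 2 < Fintype.card T)
  have k : ∀ {a b : T}, a ≠ b → (a : G) ≠ b := fun h c => h (Subtype.ext c)
  by_cases ea : a = 1
  · exact ⟨b, b.2, c, c.2, k (ea ▸ h1.symm), k (ea ▸ h2.symm), k h3⟩
  by_cases eb : b = 1
  · exact ⟨a, a.2, c, c.2, k ea, k (eb ▸ h3.symm), k h2⟩
  · exact ⟨a, a.2, b, b.2, k ea, k eb, k h1⟩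

theorem ob_inv {T : Subgroup G} (hT : IsPGroup 2 T) (h : T ≠ ⊥) : ∃ x ∈ T, x * x = 1 ∧ x ≠ 1 := by
  have : Fact (Nat.Prime 2) := ⟨Nat.prime_two⟩
  obtain ⟨x, hx, o⟩ := exists_orderOf_eq_prime hT h
  exact ⟨x, hx, by rw [← sq, ← o, pow_orderOf_eq_one], fun c => by rw [c, orderOf_one] at o; omega⟩

omit [Finite G] in
theorem ob_zp {k : G} (h : k * k = 1) : IsPGroup 2 (zpowers k) :=
  isPGroup_iff_mem.2 fun x hx => by
    obtain ⟨n, rfl⟩ := mem_zpowers_iff.1 hx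
    exact ⟨1, by rw [pow_one, ← zpow_natCast, ← zpow_mul, mul_comm, zpow_mul, zpow_natCast, sq, h, one_zpow]⟩

theorem St.ob_T (X : St G) {k : G} (hk : k ∈ 𝐂(X.A)) (k2 : k * k = 1) :
    ∃ T ≤ 𝐂(X.A), IsPGroup 2 T ∧ 4 ≤ Nat.card T ∧ ∀ t ∈ T, t * k = k * t := by
  have : Fact (Nat.Prime 2) := ⟨Nat.prime_two⟩
  obtain ⟨R, hR, kR⟩ := exists_isSylowIn_le (ob_zp k2) (zpowers_le.2 hk)
  have r4 : 4 ≤ Nat.card R := by
    obtain ⟨a, ha, b, hb, a2, b2, ab, a1, b1, ne⟩ := X.four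
    have p : IsPGroup 2 (zpowers a ⊔ zpowers b : Subgroup G) :=
      isPGroup_sup_of_le_normalizer_right (ob_zp a2) (ob_zp b2) (zpowers_le.2
        (centralizer_le_normalizer _ (by
          rw [centralizer_zpowers]; exact mem_centralizer_singleton_iff.2 ab)))
    exact (ob_four p (mem_sup_left (mem_zpowers a)) (mem_sup_right (mem_zpowers b)) a1 b1 ne).trans
      (hR.card_le p (sup_le (zpowers_le.2 ha) (zpowers_le.2 hb)))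
  obtain ⟨c, hc, c2, c1⟩ := ob_inv hR.isP.to_inf_left
    (center_ne_bot hR.isP fun e => by rw [e, card_bot] at r4; omega)
  by_cases e : k = 1 ∨ k = c
  · refine ⟨R, hR.le, hR.isP, r4, fun t ht => ?_⟩
    rcases e with rfl | rfl
    · simp
    · exact hc.2 t ht
  · push Not at e
    exact ⟨R ⊓ centralizer {k}, inf_le_left.trans hR.le, hR.isP.to_inf_left,
      ob_four hR.isP.to_inf_left ⟨kR (mem_zpowers k), mem_centralizer_singleton_iff.2 rfl⟩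
        ⟨hc.1, mem_centralizer_singleton_iff.2 (hc.2 k (kR (mem_zpowers k))).symm⟩ e.1 c1 e.2,
      fun t ht => mem_centralizer_singleton_iff.1 ht.2⟩

theorem St.exists_k (X : St G) {g a k : G} (h : X.Pr g (k * a)) (ha : a ∈ X.A) (hk : k ∈ 𝐂(X.A)) :
    ∃ T ≤ 𝐂(X.A), IsPGroup 2 T ∧ 4 ≤ Nat.card T ∧ (∀ t ∈ T, t * (k * a) = k * a * t) ∧
      ∃ a1 ∈ X.A ^ᶜ g, ∃ k1 ∈ 𝐂(X.A) ^ᶜ g, k1 * a1 ∈ T ∧ a1 * a1 = 1 ∧ a1 ≠ 1 ∧ k1 * k1 = 1 := by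
  obtain ⟨hg, dK, d2, d1⟩ := h
  have k2 : k * k = 1 := sq k ▸ (X.pr_pow hk ha (n := 2) (by rw [sq, d2])).1
  obtain ⟨T, TK, hT, t4, tk⟩ := X.ob_T hk k2
  have td : ∀ t ∈ T, t * (k * a) = k * a * t := fun t ht => by
    rw [← mul_assoc, tk t ht, mul_assoc, mul_assoc, TK ht a ha]
  refine ⟨T, TK, hT, t4, td, ?_⟩
  have tN : ∀ t ∈ T, g⁻¹ * t * g ∈ 𝐍(X.A) := fun t ht =>
    X.cent_N (mem_cj.1 dK) (oa_sq g d2) (oa_ne g d1) (oa_comm g (td t ht))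
  have ne : T ⊓ (𝐂(X.A) ⊔ X.A) ^ᶜ g ≠ ⊥ := fun c => by
    obtain ⟨s, hs, t, ht, s1, t1, st⟩ := ob_two t4
    have q : ∀ {u}, u ∈ T → u ≠ 1 → g⁻¹ * u * g ∉ 𝐂(X.A) ⊔ X.A := fun hu u1 m =>
      u1 (mem_bot.1 (c.le ⟨hu, mem_cj.2 m⟩))
    refine q (mul_mem hs (inv_mem ht)) (fun e => st (mul_inv_eq_one.1 e)) ?_
    have := X.mul_KA (tN s hs) (tN _ (inv_mem ht)) (q hs s1) (q (inv_mem ht) (inv_ne_one.2 t1))
    rwa [show g⁻¹ * s * g * (g⁻¹ * t⁻¹ * g) = g⁻¹ * (s * t⁻¹) * g by group] at this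
  obtain ⟨e, he, e2, e1⟩ := ob_inv hT.to_inf_left ne
  obtain ⟨k', hk', a', ha', ee⟩ := X.mem_KA.1 (mem_cj.1 he.2)
  obtain ⟨p1, p2⟩ := X.pr_pow hk' ha' (n := 2) (by rw [← ee, sq, oa_sq g e2])
  refine ⟨g * a' * g⁻¹, cj_mem g ha', g * k' * g⁻¹, cj_mem g hk', ?_, ?_, fun c => e1 ?_, ?_⟩
  · rw [← cj_mul, ← ee, show g * (g⁻¹ * e * g) * g⁻¹ = e by group]; exact he.1
  · rw [← cj_mul, ← sq, p2]; group
  · refine X.tg hg (TK he.1) (mem_cj.2 ?_) (j := 1) (by rw [pow_one, sq, e2])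
    rwa [ee, conj_eq_one_iff.1 c, mul_one]
  · rw [← cj_mul, ← sq, p1]; group

omit [Finite G] in
theorem St.ob_left (X : St G) {g d n : G} (h : X.Pr g d) (hn : n ∈ 𝐍(X.A)) :
    X.Pr (n * g) (n * d * n⁻¹) :=
  ⟨fun c => h.1 (by simpa using mul_mem (inv_mem hn) c), mem_cj.2 (by
    rw [show (n * g)⁻¹ * (n * d * n⁻¹) * (n * g) = g⁻¹ * d * g by group]; exact mem_cj.1 h.2.1),
    by rw [← cj_mul, h.2.2.1]; group, fun c => h.2.2.2 (conj_eq_one_iff.1 c)⟩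

omit [Finite G] in
theorem St.ob_right (X : St G) {g d n : G} (h : X.Pr g d) (hn : n ∈ 𝐍(X.A)) : X.Pr (g * n) d :=
  ⟨fun c => h.1 (by simpa using mul_mem c (inv_mem hn)), mem_cj.2 (by
    rw [show (g * n)⁻¹ * d * (g * n) = n⁻¹ * (g⁻¹ * d * g) * n⁻¹⁻¹ by group]
    exact X.KN (inv_mem hn) (mem_cj.1 h.2.1)), h.2.2⟩

omit [Finite G] in
theorem St.ob_cj (X : St G) {h k : G} (hk : k ∈ 𝐂(X.A)) (k2 : k * k = 1) (k1 : k ≠ 1)
    (c : h * k * h⁻¹ ∉ 𝐂(X.A)) : X.Pr h (h * k * h⁻¹) :=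
  ⟨fun e => c (X.KN e hk), cj_mem h hk, by rw [← cj_mul, k2]; group, fun e => k1 (conj_eq_one_iff.1 e)⟩

omit [Finite G] in
theorem St.ob_nz (X : St G) (hD : ¬ X.D X.z) (g : G) : g * X.z * g⁻¹ ∉ 𝐂(X.A) := fun c =>
  hD ⟨g⁻¹, _, c, by rw [← cj_mul, X.z_sq]; group, fun e => X.z_ne (conj_eq_one_iff.1 e), by group⟩

omit [Finite G] in
theorem St.ob_mv (X : St G) {g k a c : G} (h : X.Pr g (k * a)) (hk : k ∈ 𝐂(X.A)) (hc : c ∈ X.A) :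
    X.Pr (c * g) (k * (c * a * c⁻¹)) := by
  have := X.ob_left h (le_normalizer hc)
  rwa [cj_mul, hk c hc, mul_inv_cancel_right] at this

omit [Finite G] in
theorem St.ob_two' (X : St G) (hD : ¬ X.D X.z) {g k k' : G} (h : X.Pr g (k * X.x 9 1))
    (hk : k ∈ 𝐂(X.A)) (hk' : k' ∈ 𝐂(X.A)) (k2 : k' * k' = 1)
    (he : g * (k' * X.x 9 1) * g⁻¹ ∈ 𝐂(X.A)) : ∃ g, ∃ k ∈ 𝐂(X.A), X.Pr g (k * X.z) := by
  have sA := X.x_mem 9 1
  set e := g * (k' * X.x 9 1) * g⁻¹ with ee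
  have e2 : e * e = 1 := by rw [ee, ← cj_mul, X.pr_mul sA hk', k2, X.x_sq]; group
  have e1 : e ≠ 1 := fun c => one_ne_zero (X.x_inj 9 (X.pr_uq hk' sA (one_mem _) (one_mem _)
    ((conj_eq_one_iff.1 c).trans (mul_one 1).symm)).2)
  set C : Subgroup G := X.A ⊓ centralizer {X.x 9 1} with hC
  have FA : F5 (C : Set G) ≤ X.A := F5_le fun b hb _ => hb.1
  have le : F5 (C : Set G) ≤ (𝐂(X.A) ⊔ F5 (C : Set G)) ^ᶜ g⁻¹ := F5_le fun b hb h5 => by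
    rw [mem_cj, inv_inv]
    have b5 : (g * b * g⁻¹) ^ 5 = 1 := by rw [conj_pow, h5]; group
    have bN : g * b * g⁻¹ ∈ 𝐍(X.A) := X.cent_N he e2 e1 (by
      rw [ee, ← cj_mul, ← cj_mul, ← mul_assoc b, hk' b hb.1, mul_assoc k',
        mem_centralizer_singleton_iff.1 hb.2, mul_assoc k'])
    obtain ⟨k1, hk1, a1, ha1, e1⟩ := X.mem_KA.1 (X.five_KA bN b5)
    have cm : g * b * g⁻¹ * (k * X.x 9 1) = k * X.x 9 1 * (g * b * g⁻¹) := by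
      have := mem_cj.1 h.2.1 b hb.1
      rw [show g * b * g⁻¹ * (k * X.x 9 1) = g * (b * (g⁻¹ * (k * X.x 9 1) * g)) * g⁻¹ by group, this]
      group
    rw [e1] at cm b5 ⊢
    exact mul_mem (mem_sup_left hk1) (mem_sup_right (mem_F5
      ⟨ha1, mem_centralizer_singleton_iff.2 (X.pr_comm hk1 ha1 hk sA cm).2⟩ (X.pr_pow hk1 ha1 b5).2))
  have yy := mem_cj.1 (le X.p2.cS_z)
  rw [inv_inv] at yy
  obtain ⟨k1, hk1, y, hy, ey⟩ := (mem_sup_of_le_normalizer_right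
    ((centralizer_anti FA).trans (centralizer_le_normalizer _))).1 yy
  have y2 : y * y = 1 := sq y ▸ (X.pr_pow hk1 (FA hy) (n := 2) (by
    rw [← ey, conj_pow, sq, X.z_sq]; group)).2
  obtain ⟨c, hc, ec⟩ := X.p2.cS_long y hy y2 fun c => X.ob_nz hD g (by rwa [ey, c, mul_one])
  have r : X.x 8 1 * X.x 9 1 * (X.x 8 1)⁻¹ = X.x 9 1 * X.z := by
    have := X.qa_conj ![0, 0, 0, 1, 0, 0] ![0, 0, 0, 0, 1, 0]
    rwa [X.qa_8, X.qa_9, show b4 ![0, 0, 0, 1, 0, 0] ![0, 0, 0, 0, 1, 0] = 1 by decide] at this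
  have he' : g * X.x 8 1 * g⁻¹ * e * (g * X.x 8 1 * g⁻¹)⁻¹ = e * (g * X.z * g⁻¹) := by
    rw [ee, ← cj_mul g _ X.z, mul_assoc k', ← r, ← mul_assoc k', ← mul_assoc k', ← hk' _ (X.x_mem 8 1)]
    group
  have P := X.ob_cj he e2 e1 (h := g * X.x 8 1 * g⁻¹) fun c => X.ob_nz hD g (by
    rw [he'] at c; simpa using mul_mem (inv_mem he) c)
  rw [he', ey, ← mul_assoc] at P
  exact ⟨_, _, mul_mem he hk1, ec ▸ X.ob_mv P (mul_mem he hk1) hc⟩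

theorem St.ob_KA (X : St G) (hD : ¬ X.D X.z) {g d : G} (h : X.Pr g d) (hd : d ∈ 𝐂(X.A) ⊔ X.A) :
    ∃ g, ∃ k ∈ 𝐂(X.A), X.Pr g (k * X.z) := by
  obtain ⟨k, hk, a, ha, rfl⟩ := X.mem_KA.1 hd
  obtain ⟨c, hc, ec | ec⟩ := X.p2.cls a ha (sq a ▸ (X.pr_pow hk ha (n := 2) (by rw [sq, h.2.2.1])).2)
    fun c => h.2.2.2 (X.tg h.1 (by rwa [c, mul_one]) h.2.1 (j := 1) (by rw [pow_one, sq, h.2.2.1]))
  · exact ⟨_, k, hk, ec ▸ X.ob_mv h hk hc⟩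
  have h' := X.ob_mv h hk hc
  rw [ec] at h'
  generalize c * g = g at h'
  obtain ⟨T, TK, -, -, -, a1, ha1, k1, hk1, he, a2, a0, k2⟩ := X.exists_k h' (X.x_mem 9 1) hk
  obtain ⟨a', ha', rfl⟩ := mem_cj'.1 ha1
  obtain ⟨k', hk', rfl⟩ := mem_cj'.1 hk1
  rw [← cj_mul, conj_eq_one_iff] at a2 k2
  rw [← cj_mul] at he
  have a0' : a' ≠ 1 := fun e => a0 (by rw [e]; group)
  obtain ⟨c', hc', ec' | ec'⟩ := X.p2.cls a' ha' a2 a0'
  · have P : X.Pr g⁻¹ (k' * a') := ⟨fun e => h'.1 (by simpa using inv_mem e),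
      mem_cj.2 (by rw [inv_inv]; exact TK he), by rw [X.pr_mul ha' hk', k2, a2, mul_one],
      fun e => a0' (X.pr_uq hk' ha' (one_mem _) (one_mem _) (e.trans (mul_one 1).symm)).2⟩
    exact ⟨_, k', hk', ec' ▸ X.ob_mv P hk' hc'⟩
  · refine X.ob_two' hD (X.ob_right h' (le_normalizer (inv_mem hc'))) hk hk' k2 ?_
    rw [← ec', ← mul_assoc k', ← mul_assoc k', ← hk' c' hc',
      show g * c'⁻¹ * (c' * k' * a' * c'⁻¹) * (g * c'⁻¹)⁻¹ = g * (k' * a') * g⁻¹ by group]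
    exact TK he

theorem St.long (X : St G) (hD : ¬ X.D X.z) (h : ∃ g d, X.Pr g d ∧ d ∈ 𝐍(X.A)) :
    ∃ g, ∃ k ∈ 𝐂(X.A), X.Pr g (k * X.z) := by
  have : Fact (Nat.Prime 2) := ⟨Nat.prime_two⟩
  obtain ⟨g, d, h, dN⟩ := h
  obtain ⟨S, hS, dS⟩ := exists_isSylowIn_le (ob_zp h.2.2.1) (zpowers_le.2 dN)
  have hR := hS.inf_normal (centralizer_le_normalizer _) (normalizer_le_normalizer_centralizer X.A)
  obtain ⟨k, hk, k2, k1⟩ := ob_inv hR.isP.to_inf_left (inf_centralizer_ne_bot hR.isP (ob_zp h.2.2.1)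
    (le_normalizer_inf (dS.trans le_normalizer)
      ((zpowers_le.2 dN).trans (normalizer_le_normalizer_centralizer X.A))) fun c => by
      obtain ⟨a, ha, -, -, a2, -, -, a1, -⟩ := X.four
      have := hR.card_le (ob_zp a2) (zpowers_le.2 ha)
      rw [c, card_bot] at this
      exact a1 (zpowers_eq_bot.1 (eq_bot_of_card_le _ this)))
  have kK : k ∈ 𝐂(X.A) := hk.1.2
  have nN : g⁻¹ * k * g ∈ 𝐍(X.A) := X.cent_N (mem_cj.1 h.2.1) (oa_sq g h.2.2.1) (oa_ne g h.2.2.2)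
    (oa_comm g (hk.2 d (mem_zpowers d)).symm)
  by_cases c : g⁻¹ * k * g ∈ 𝐂(X.A) ⊔ X.A
  · exact X.ob_KA hD (g := g⁻¹) ⟨fun e => h.1 (by simpa using inv_mem e),
      mem_cj.2 (by rwa [show g⁻¹⁻¹ * (g⁻¹ * k * g) * g⁻¹ = k by group]), oa_sq g k2, oa_ne g k1⟩ c
  obtain ⟨a, ha, P⟩ | ⟨a, ha, P⟩ := X.p3.aut2 _ nN (by rw [oa_sq g k2]; exact one_mem _)
  · exact (c (by simpa using mul_mem (mem_sup_right (inv_mem ha)) (mem_sup_left P))).elim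
  obtain ⟨m, em⟩ : ∃ m, m = a * (g⁻¹ * k * g) * a⁻¹ := ⟨_, rfl⟩
  obtain ⟨u, eu⟩ : ∃ u, u = g * a⁻¹ := ⟨_, rfl⟩
  have ek : k = u * m * u⁻¹ := by rw [em, eu]; group
  rw [← em] at P
  have xN : u * X.qa ![0, 0, 1, 0, 0, 1] * u⁻¹ ∈ 𝐍(X.A) := X.cent_N kK k2 k1 (by
    have := P.qa ![0, 0, 1, 0, 0, 1]
    rw [show frob ![0, 0, 1, 0, 0, 1] = ![0, 0, 1, 0, 0, 1] by decide, mul_inv_eq_iff_eq_mul] at this
    rw [ek, ← cj_mul, ← cj_mul, this])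
  have zK := X.sq_KA xN
  rw [← cj_mul, X.qa_sq] at zK
  replace zK : u * X.z * u⁻¹ ∈ 𝐂(X.A) ⊔ X.A := by simpa [Rt.z_eq] using zK
  have hk' : u * X.vv w * u⁻¹ * k * (u * X.vv w * u⁻¹)⁻¹ = u * X.z * u⁻¹ * k := by
    have : m * X.vv w * m⁻¹ = X.vv (w * w) := P 11 w
    rw [ek, X.z_eq, show (1 : F4) = w + w * w by decide, ← X.vv_add, ← this]
    nth_rw 2 [← X.vv_inv w]
    group
  have Q := X.ob_cj kK k2 k1 (h := u * X.vv w * u⁻¹) fun c => X.ob_nz hD u (by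
    rw [hk'] at c; simpa using mul_mem c (inv_mem kK))
  exact X.ob_KA hD Q (by rw [hk']; exact mul_mem zK (mem_sup_left kK))

end H79.AS
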