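import Cfsg.Agent.Lib.ASG.Bas2
import Cfsg.Agent.Lib.ASG.Orb
import Cfsg.Agent.Lib.ASG.Lin

/-! `y` normalises `Q`. -/

set_option autoImplicit false

namespace H79.AS

open H30 H30.F4 H69 Subgroup Cfsg Equiv
open H16.P8
open H96.E8 (O8)

variable {G : Type*} [Group G] [Finite G]

theorem Ff.qb_vv (X : Ff G) (s : F4) : X.vv s ∈ X.Q := by
  simpa [X.ww_zero] using X.Q_W 0 s (by decide)

theorem Ff.qb_ww (X : Ff G) {x : V6} (h : bar x = x) : X.ww x ∈ X.Q := by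
  simpa [X.vv_zero] using X.Q_W x 0 h

omit [Finite G] in
theorem Ff.qb_M (X : Ff G) {g : G} (hz : g * X.z = X.z * g) (h : g * X.vv w * g⁻¹ = X.vv w) :
    g ∈ X.M := by
  have h1 : Commute g (X.vv w) := mul_inv_eq_iff_eq_mul.1 h
  have h2 : g ∈ 𝐂(X.V) := X.mem_CV.2 fun s => by
    rcases (by decide : ∀ s : F4, s = 0 ∨ s = 1 ∨ s = w ∨ s = w + 1) s with rfl | rfl | rfl | rfl
    · rw [X.vv_zero, mul_one, one_mul]
    · exact hz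
    · exact h1
    · rw [← X.vv_add]; exact h1.mul_right hz
  exact ⟨X.CV h2, h2⟩

theorem Ff.nv (X : Ff G) {g : G} (hz : g * X.z = X.z * g)
    (h : g * X.vv w * g⁻¹ = X.vv w ∨ g * X.vv w * g⁻¹ = X.vv w * X.z) :
    ∃ m ∈ X.M, ∃ q ∈ X.Q, g = m * q := by
  rcases h with h | h
  · exact ⟨g, X.qb_M hz h, 1, one_mem _, (mul_one g).symm⟩
  obtain ⟨u, hu⟩ : ∃ u, bf v1 u ≠ 0 := by
    by_contra! k
    exact v1_ne (nondeg k)
  obtain ⟨q, hq, rfl⟩ := X.cd.surj u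
  have h1 := (X.cd.conj_or hq (X.qb_vv w)).resolve_left fun e => hu (by
    rw [← X.π_v, ← X.cd.commute_iff (X.qb_vv w) hq]; exact (mul_inv_eq_iff_eq_mul.1 e).symm)
  refine ⟨g * q, X.qb_M ((show Commute g X.z from hz).mul_left (X.cd.central q hq)) ?_, q⁻¹, inv_mem hq,
    (mul_inv_cancel_right _ _).symm⟩
  rw [show g * q * X.vv w * (g * q)⁻¹ = g * (q * X.vv w * q⁻¹) * g⁻¹ by group, h1, cj_mul, h, hz,
    mul_inv_cancel_right, mul_assoc, X.z_sq, mul_one]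

theorem Ff.ker (X : Ff G) {g : G} (hg : g ∈ 𝐍(X.Q)) (h : Act X.Q X.z X.π g 1) :
    ∃ o ∈ X.O, ∃ q ∈ X.Q, g = o * q := by
  have k : ∀ {g}, g ∈ 𝐍(X.Q) → Act X.Q X.z X.π g 1 → ∀ x ∈ X.Q, g * x * g⁻¹ = x ∨ g * x * g⁻¹ = x * X.z :=
    fun hg h x hx => (X.cd.eq_or hx (conj_mem_of_mem_normalizer hg hx)).1
      ((h.2 x hx).trans (one_smul _ _)).symm
  obtain ⟨m, hm, q, hq, rfl⟩ := X.nv h.1 (k hg h _ (X.qb_vv w))
  have h1 := X.cd.act_mul (le_normalizer (inv_mem hq)) h (X.cd.act_of_mem (inv_mem hq))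
  rw [mul_inv_cancel_right, mul_one] at h1
  have h2 : ∀ x, bar x = x → ∀ y s, m * X.ww x * m⁻¹ = X.ww y * X.vv s → y = x ∧ (s = 0 ∨ s = 1) :=
    fun x hx y s e => by
    rcases k (X.M_Q hm) h1 _ (X.qb_ww hx) with a | a <;> rw [e] at a
    · have := X.w_inj _ _ x 0 (by rw [a, X.vv_zero, mul_one])
      exact ⟨this.1, .inl this.2⟩
    · exact (X.w_inj _ _ _ _ a).imp_right .inr
  obtain ⟨σ, -, a⟩ := X.M_ac m hm
  obtain rfl := act_faith (σ := σ) fun x hx => let ⟨s, e⟩ := a x; (h2 x hx _ s e).1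
  obtain ⟨o, ho, y, hy, rfl⟩ := X.M_ker m hm (X.ac_act_one.1 a)
  obtain ⟨b, s, rfl⟩ := (X.mem_W y).1 hy
  refine ⟨o, ho, _, mul_mem (X.Q_W b s (rat_of fun u hu => (h2 u hu u _ ?_).2)) hq, mul_assoc _ _ _⟩
  rw [show ∀ a b c d : G, a * (b * c) * d * (a * (b * c))⁻¹ = a * (b * (c * d * c⁻¹) * b⁻¹) * a⁻¹ from
    fun _ _ _ _ => by group, ← X.w_v, mul_inv_cancel_right, X.ww_conj,
    conj_eq_of_mem_centralizer (X.O_W ho) (X.wv_mem _ _)]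

namespace Ff

variable (X : Ff G)

theorem qb_nv {g : G} (hz : g * X.z = X.z * g)
    (h : g * X.vv w * g⁻¹ = X.vv w ∨ g * X.vv w * g⁻¹ = X.vv w * X.z) : g ∈ 𝐍(X.Q) := by
  obtain ⟨m, hm, q, hq, rfl⟩ := X.nv hz h
  exact mul_mem (X.M_Q hm) (le_normalizer hq)

theorem qb_n2 {g : G} (hz : g * X.z = X.z * g)
    (h : g * (X.ww (e5 1) * X.vv w) * g⁻¹ = X.ww (e5 1) * X.vv w ∨
      g * (X.ww (e5 1) * X.vv w) * g⁻¹ = X.ww (e5 1) * X.vv w * X.z) : g ∈ 𝐍(X.Q ^ᶜ X.y) := by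
  have h1 : Commute X.y X.z := X.y_z
  rw [X.ww_e5, ← X.y_v] at h
  have h2 : X.y⁻¹ * g * X.y ∈ 𝐍(X.Q) := by
    refine X.qb_nv ((h1.inv_left.mul_left hz).mul_left h1) ?_
    rw [show X.y⁻¹ * g * X.y * X.vv w * (X.y⁻¹ * g * X.y)⁻¹ =
      X.y⁻¹ * (g * (X.y * X.vv w * X.y⁻¹) * g⁻¹) * X.y by group]
    refine h.imp (fun b => by rw [b]; group) fun b => ?_
    rw [b, mul_assoc, mul_assoc, ← h1.eq]; group
  refine mem_normalizer_of_cj_le fun a ha => ?_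
  obtain ⟨b, hb, rfl⟩ := mem_cj'.1 ha
  clear ha
  rw [mem_cj] at hb ⊢
  convert conj_mem_of_mem_normalizer h2 hb using 1
  group

theorem qb_vw : X.vv w ∈ X.Q ^ᶜ X.y ∧ X.ww (e5 1) * X.vv w ∈ X.Q ^ᶜ X.y := by
  refine ⟨mem_cj'.2 ⟨_, X.Q_W (e5 1) w (by decide), ?_⟩, mem_cj'.2 ⟨_, X.qb_vv w, ?_⟩⟩
  · rw [cj_mul, X.y_v, X.ww_e5, X.y_x, mul_inv_cancel_right, ← mul_assoc, X.x_sq, one_mul]
  · rw [X.y_v, X.ww_e5]

theorem qb_line {e : G} (h1 : e ∈ X.Q) (h2 : e ∈ X.Q ^ᶜ X.y)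
    (h : ∀ f ∈ X.Q, f ∈ X.Q ^ᶜ X.y → e * f = f * e) : X.π e = 0 ∨ X.π e = v1 ∨
      X.π e = X.π (X.ww (e5 1)) ∨ X.π e = v1 + X.π (X.ww (e5 1)) := by
  have k : ∀ s, X.π (X.vv s) = 0 ∨ X.π (X.vv s) = v1 := fun s => by
    rcases (by decide : ∀ s : F4, s = 0 ∨ s = 1 ∨ s = w ∨ s = w + 1) s with rfl | rfl | rfl | rfl
    · exact .inl (X.vv_zero ▸ X.cd.π_one)
    · exact .inl X.cd.π_z
    · exact .inr X.π_v
    · exact .inr (((X.cd.eq_or (X.qb_vv w) (X.qb_vv _)).2 (.inr (X.vv_add w 1).symm)).symm.trans X.π_v)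
  obtain ⟨x, s, hx, rfl⟩ := X.Q_0 e h1 (h _ (X.qb_vv w) X.qb_vw.1)
  by_cases x0 : x = 0
  · rw [x0, X.ww_zero, one_mul]
    exact (k s).imp_right .inl
  by_cases x1 : x = e5 1
  · rw [x1, X.cd.mul _ (X.qb_ww (by decide)) _ (X.qb_vv s)]
    rcases k s with a | a <;> rw [a]
    · exact .inr (.inr (.inl (add_zero _)))
    · exact .inr (.inr (.inr (add_comm _ _)))
  obtain ⟨σ, hσ, a1, a2⟩ := moved hx (X.wv_comm_iff.1 (h _ (X.Q_W _ w (by decide)) X.qb_vw.2)) x0 x1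
  obtain ⟨m, hm, -, am⟩ := X.M_ex σ hσ
  obtain ⟨t, ht⟩ := X.ac_wv (X.M_NV hm) am (e5 1) w
  have h3 := X.ww_mem ![0, 0, t + w, 0, 0, 0]
  have h4 := mul_mem (X.W_le_M h3) hm
  have h5 := X.qb_n2 (X.mem_CV.1 h4.2 1) (.inl (by
    rw [show ∀ a b c : G, a * b * c * (a * b)⁻¹ = a * (b * c * b⁻¹) * a⁻¹ from fun _ _ _ => by group, ht,
      a1, cj_mul, X.ww_conj, X.cj_vv' (X.W_le_CV h3), mul_assoc, X.vv_add]
    congr 2
    clear * -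
    revert t; decide))
  obtain ⟨u, hu⟩ := X.ac_wv (X.M_NV h4) (X.ac_mul (X.M_NV (X.W_le_M h3)) (X.ac_W h3) am) x s
  have h6 := h _ (conj_mem_of_mem_normalizer (X.M_Q h4) h1) (conj_mem_of_mem_normalizer h5 h2)
  rw [hu] at h6
  exact (a2 (X.wv_comm_iff.1 h6)).elim

end Ff

theorem Ff.y_mem (X : Ff G) : X.y ∈ 𝐍(X.Q) := by
  have c2 := X.cd.cj X.y_z
  have h1 : X.Q ^ᶜ X.y ≤ 𝐍(X.Q) := fun g hg => X.qb_nv (c2.central g hg) (c2.conj_or hg X.qb_vw.1)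
  have h2 : X.Q ≤ 𝐍(X.Q ^ᶜ X.y) := fun g hg =>
    X.qb_n2 (X.cd.central g hg) (X.cd.conj_or hg (X.Q_W _ w (by decide)))
  have h3 : ∀ g ∈ X.Q ^ᶜ X.y, ∀ σ, Act X.Q X.z X.π g σ → ∀ f ∈ X.Q, f ∈ X.Q ^ᶜ X.y → σ • X.π f = X.π f :=
    fun g hg σ a f hf hf' => (a.2 f hf).symm.trans
      ((X.cd.eq_or hf (conj_mem_of_mem_normalizer (h1 hg) hf)).2 (c2.conj_or hg hf')).symm
  have h4 : ∀ g ∈ X.Q ^ᶜ X.y, Act X.Q X.z X.π g 1 → g ∈ X.Q := fun g hg a => by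
    obtain ⟨o, ho, q, hq, e⟩ := X.ker (h1 hg) a
    obtain ⟨j, hj⟩ := c2.isP ⟨g, hg⟩
    refine mem_of_odd_pow (g := g) (congrArg Subtype.val hj) X.O_odd ?_
    rw [e, (show Commute o q from X.Q_O hq o ho).mul_pow, pow_card_one ho, one_mul]
    exact pow_mem hq _
  have hb := X.qb_ww (x := e5 1) (by decide)
  have h5 := fun g (hg : g ∈ X.Q ^ᶜ X.y) σ (a : Act X.Q X.z X.π g σ) =>
    line_cases (a := v1) (b := X.π (X.ww (e5 1))) (σ := σ) qf_v1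
      ((X.cd.sq_iff hb).1 (X.ww_e5 1 ▸ X.x_sq 10 1))
      (X.π_v ▸ (X.cd.commute_iff (X.qb_vv w) hb).1 (X.w_v _ _).symm) fun u => by
      obtain ⟨x, hx, rfl⟩ := X.cd.surj u
      have b1 := conj_mem_of_mem_normalizer (h1 hg) hx
      have b2 := mul_mem b1 (inv_mem hx)
      have b3 : X.π (g * x * g⁻¹ * x⁻¹) = σ • X.π x + X.π x := by
        rw [X.cd.mul _ b1 _ (inv_mem hx), X.cd.π_inv hx, a.2 x hx]
      rw [← b3]
      refine X.qb_line b2 ?_ fun f hf hf' => (X.cd.commute_iff b2 hf).2 ?_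
      · simpa [mul_assoc] using mul_mem hg (conj_mem_of_mem_normalizer (h2 hx) (inv_mem hg))
      · rw [b3, bf_add_left, ← bf_O8 σ (X.π x), h3 g hg σ a f hf hf', CharTwo.add_self_eq_zero]
  refine mem_normalizer_of_cj_le fun g hg => by_contra fun hn => ?_
  obtain ⟨σ, a⟩ := X.cd.exists_act (h1 hg)
  obtain ⟨b1, b2⟩ := (h5 g hg σ a).resolve_left fun e => hn (h4 g hg (e ▸ a))
  choose t ht e using X.cd.surj
  let F : Bool × Bool × {x : V8 // σ • x = x} → G := fun p =>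
    cond p.1 g 1 * (t p.2.2 * cond p.2.1 X.z 1)
  have h6 : ∀ k ∈ X.Q, k ∈ X.Q ^ᶜ X.y → ∀ b, cond b g 1 * k ∈ Set.range F := fun k hk hk' b => by
    rcases (X.cd.eq_or (ht _) hk).1 (e _) with c | c
    · exact ⟨(b, false, ⟨_, h3 g hg σ a k hk hk'⟩), congrArg _ ((mul_one _).trans c.symm)⟩
    · exact ⟨(b, true, ⟨_, h3 g hg σ a k hk hk'⟩), congrArg _ c.symm⟩
  have h7 : (X.Q ^ᶜ X.y : Set G) ⊆ Set.range F := fun k hk => by
    obtain ⟨τ, c⟩ := X.cd.exists_act (h1 hk)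
    rcases h5 k hk τ c with rfl | d
    · simpa using h6 k (h4 k hk c) hk false
    · obtain rfl : τ = σ := O8_ext fun x => add_right_cancel ((d.1 x).trans (b1 x).symm)
      have h8 := mul_mem (inv_mem hg) hk
      simpa using h6 _ (h4 _ h8 (inv_mul_cancel τ ▸ X.cd.act_mul (h1 hk) (X.cd.act_inv (h1 hg) a) c)) h8 true
  have h8 := (Nat.card_mono (Set.toFinite _) h7).trans (Finite.card_range_le F)
  rw [Nat.card_prod, Nat.card_prod, Nat.card_eq_fintype_card (α := Bool), Fintype.card_bool] at h8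
  have h9 : Nat.card (X.Q ^ᶜ X.y : Set G) = 512 := c2.card
  omega

end H79.AS
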