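import Cfsg.Agent.Lib.ASG.LW
import Cfsg.Agent.Lib.ASG.Orb
import Cfsg.Agent.Lib.ASG.GE

/-! Two conjugates of `W` under `C(V)`. -/

set_option autoImplicit false

namespace H79.AS

open H30 H30.F4 H69 Subgroup Cfsg Equiv

variable {G : Type*} [Group G] [Finite G]

omit [Finite G] in
theorem Fe.V_cj (X : Fe G) {g : G} (hg : g ∈ 𝐂(X.V)) : X.V ≤ X.W ^ᶜ g :=
  cj_eq_of_mem_centralizer hg ▸ cj_mono g X.V_le_W

omit [Finite G] in
theorem Fe.comm_cj (X : Fe G) {g a b : G} (hg : g ∈ 𝐂(X.V)) (ha : a ∈ X.W ^ᶜ g) (hb : b ∈ X.W ^ᶜ g) :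
    a * b * a⁻¹ * b⁻¹ ∈ X.V := by
  have := conj_mem_of_mem_normalizer (centralizer_le_normalizer _ hg)
    (X.comm_mem (mem_cj.1 ha) (mem_cj.1 hb))
  convert this using 1
  group

theorem Fe.mem_M_of_r (X : Fe G) {c : G} {s : F4} (hc : c ∈ 𝐂(X.V))
    (h : c * (X.r 1 * X.vv s) * c⁻¹ ∈ X.W) : c ∈ X.M := by
  have hc' := inv_mem hc
  refine mem_inf.2 ⟨inv_mem_iff.1 (cj_eq_self_iff.1 (X.uniq (fun g hg => ?_) (isPGroup_cj X.isP_W _)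
    (fun _ ha _ hb => X.comm_cj hc' ha hb) (X.V_cj hc') (by rw [card_cj, X.card_W]))), hc⟩
  have gV : g ∈ 𝐂(X.V) := cj_le_of_mem X.W_le_CV hc' hg
  obtain ⟨u, e⟩ := X.mem_V.1 (X.comm_cj hc' hg (mem_cj.2 (by rwa [inv_inv])))
  obtain ⟨o, ho, y, hy, l, hl, -, k⟩ := X.NR 1 one_ne_zero g gV ⟨u, by
    rw [mul_inv_eq_iff_eq_mul, cj_mul, X.cj_vv' gV, ← mul_assoc, mul_left_inj] at e
    rw [e, X.r_A 1 (X.vv_A u)]⟩
  have g4 : g ^ 2 ^ 2 = 1 := by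
    obtain ⟨a, ha, rfl⟩ := mem_cj'.1 hg
    rw [conj_pow, X.pow_four ha, mul_one, mul_inv_cancel]
  refine ((mem_sup_of_le_normalizer_left (X.L_le_M.trans inf_le_left)).1
    (mem_of_odd_pow g4 X.O_odd ?_))
  rw [k, mul_assoc, (show Commute o (y * l) from
    mul_mem (X.W_O hy) (X.A_O (X.L_le_A hl)) o ho).mul_pow, pow_card_one ho, one_mul]
  exact pow_mem (mul_mem_sup hy hl) _

omit [Finite G] in
theorem Fe.act_sq (X : Fe G) {c : G} (cM : c ∈ X.M) (h : c * c ∈ X.W) {σ : Perm (Fin 8)}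
    (a : X.Ac c (act σ)) : σ * σ = 1 :=
  X.ac_act_uniq (X.ac_act_mul (X.M_NV cM) a a) (X.ac_act_one.2 (X.ac_W h))

/-- the lifts of the vectors of the orbit of `r` fix a unique conjugate of `W` -/
theorem Fe.uf (X : Fe G) {x : V6} (hx : Dv x) (s : F4) {g : G} (hg : g ∈ 𝐂(X.V))
    (h : g⁻¹ * (X.ww x * X.vv s) * g ∈ X.M) : g ∈ X.M := by
  obtain ⟨σ, hσ, rfl⟩ := hx
  obtain ⟨m, hm, -, a⟩ := X.M_ex σ hσ
  obtain ⟨t, e⟩ := a (er 1)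
  rw [X.ww_er] at e
  have hc := mul_mem (inv_mem hg) hm.2
  have hd : g⁻¹ * (X.ww (act σ (er 1)) * X.vv s) * g =
      g⁻¹ * m * (X.r 1 * X.vv (t + s)) * (g⁻¹ * m)⁻¹ := by
    rw [show g⁻¹ * m * (X.r 1 * X.vv (t + s)) * (g⁻¹ * m)⁻¹ =
      g⁻¹ * (m * X.r 1 * m⁻¹ * (m * X.vv (t + s) * m⁻¹)) * g by group, e, X.cj_vv' hm.2,
      mul_assoc (X.ww _), X.vv_add, ← add_assoc, f4_self, zero_add]
  obtain ⟨τ, hτ, b⟩ := X.M_ac _ h
  have k := X.act_sq h (by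
    rw [hd, ← cj_mul, show X.r 1 = X.ww (er 1) from (X.ww_er 1).symm, X.wv_sq,
      X.cj_vv' hc]
    exact X.V_le_W (X.vv_mem _)) b
  have := X.mem_M_of_r hc (hd ▸ X.lw one_ne_zero hc hd b h.1 (by
    by_cases e : τ = 1
    · simp only [e, act_one, Nat.card_congr (Equiv.subtypeUnivEquiv fun _ => trivial), card_V6]
      norm_num
    · rw [card_fix hτ k e]))
  rwa [mul_mem_cancel_right hm, inv_mem_iff] at this

theorem Fe.claimA (X : Fe G) {g c : G} (hg : g ∈ 𝐂(X.V)) (hc : c ∈ X.W ^ᶜ g) (cW : c ∉ X.W)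
    (cM : c ∈ X.M) {σ : Perm (Fin 8)} (hσ : Ev σ) (a : X.Ac c (act σ)) :
    σ * σ = 1 ∧ (∀ i, σ i ≠ i) ∧ ∀ x, X.ww (act σ x + x) ∈ X.W ^ᶜ g → act σ x = x := by
  have h2 : σ * σ = 1 := X.act_sq cM (by
    obtain ⟨y, hy, rfl⟩ := mem_cj'.1 hc
    rw [← cj_mul]
    exact X.V_le_W (conj_mem_of_mem_normalizer (centralizer_le_normalizer _ hg) (X.sq_mem hy))) a
  have key : ∀ y, Dv y → X.ww (act σ y + y) ∉ X.W ^ᶜ g := fun y hy h => by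
    set F := (X.W ⊓ X.W ^ᶜ g) ⊔ zpowers c with hF
    have FW : F ≤ X.W ^ᶜ g := sup_le inf_le_right (zpowers_le.2 hc)
    have VF : X.V ≤ F := (le_inf X.V_le_W (X.V_cj hg)).trans le_sup_left
    have nm : ∀ e, (∀ u ∈ X.W ⊓ X.W ^ᶜ g, e * u * e⁻¹ * u⁻¹ ∈ X.V) → e * c * e⁻¹ * c⁻¹ ∈ F →
        e ∈ 𝐍(F) := fun e h1 h2 => mem_normalizer_of_cj_le (by
      rw [hF, cj_sup, cj_zpowers]
      refine sup_le (fun u hu => ?_) (zpowers_le.2 ?_)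
      · obtain ⟨u, hu', rfl⟩ := mem_cj'.1 hu
        simpa only [inv_mul_cancel_right] using mul_mem (VF (h1 u hu')) (mem_sup_left hu')
      · simpa only [inv_mul_cancel_right] using mul_mem h2 (mem_sup_right (mem_zpowers c)))
    have eW := X.wv_mem y 0
    have eF : X.ww y * X.vv 0 ∈ 𝐍(F) := nm _ (fun u hu => X.comm_mem eW hu.1) (by
      obtain ⟨t, e⟩ := X.ac_wv (X.M_NV cM) a y 0
      obtain ⟨u, e'⟩ := X.wv_inv y 0
      obtain ⟨b, k⟩ := X.wv_mul (act σ y) y t u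
      rw [← inv_mem_iff, show (X.ww y * X.vv 0 * c * (X.ww y * X.vv 0)⁻¹ * c⁻¹)⁻¹ =
        c * (X.ww y * X.vv 0) * c⁻¹ * (X.ww y * X.vv 0)⁻¹ by group, e, e', k]
      exact mul_mem (mem_sup_left ⟨X.ww_mem _, h⟩) (VF (X.vv_mem b)))
    obtain ⟨u, hu, k⟩ := dt (X := 𝐂(X.V)) (M := X.M) (Y := 𝐂(X.V) ⊓ 𝐍(F)) inf_le_right inf_le_left
      ⟨2, X.pow_four eW⟩ (X.W_le_M eW) (fun g hg => X.uf hy 0 hg) ⟨X.W_le_CV eW, eF⟩ hg
      ⟨cj_le_of_mem X.W_le_CV hg (cj_mem g eW), nm _ (fun u hu => X.comm_cj hg (cj_mem g eW) hu.2)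
        (VF (X.comm_cj hg (cj_mem g eW) hc))⟩
    have := mem_cj.1 (FW (conj_mem_of_mem_normalizer hu.2 (mem_sup_right (mem_zpowers c))))
    refine cW ?_
    convert conj_mem_of_mem_normalizer k.1 this using 1
    group
  rcases inv_cases hσ h2 with ⟨x, hx, e⟩ | ⟨h3, h4⟩
  · exact (key x hx (by rw [e, add_self6, X.ww_zero]; exact one_mem _)).elim
  · refine ⟨h2, h3, fun x h => by_contra fun e => ?_⟩
    obtain ⟨y, hy, k⟩ := h4 x fun k => e (by rw [← add_left_inj x, k, add_self6])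
    exact key y hy (k ▸ h)

end H79.AS
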