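import Cfsg.Agent.Lib.ASG.Bas2

/-! `W / V` is the unique elementary abelian subgroup of its order in `W L / V`; the action of `u(γ)`. -/

set_option autoImplicit false

namespace H79.AS

open H30 H30.F4 H69 Subgroup Cfsg Equiv

variable {G : Type*} [Group G] [Finite G]

theorem wc_card_le {P C : Subgroup G} {α : Type*} [Finite α] (φ : P → α)
    (h : ∀ g k : P, φ g = φ k → (g : G)⁻¹ * k ∈ C) : Nat.card P ≤ Nat.card α * Nat.card C := by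
  rw [← Nat.card_prod]
  refine Nat.card_le_card_of_injective (fun g : P => ((φ g, ⟨_, h (Function.invFun φ (φ g)) g
    (Function.invFun_eq ⟨g, rfl⟩)⟩) : α × C)) fun g k e => ?_
  obtain ⟨e1, e2⟩ := Prod.ext_iff.1 e
  have e3 := congrArg Subtype.val e2
  simp only at e1 e3
  rw [e1] at e3
  exact Subtype.ext (mul_left_cancel e3)

theorem wc_conj {H : Subgroup G} {g x : G} (hg : g ∈ 𝐍(H)) (hx : x ∈ H) : g * x * g⁻¹ ∈ H :=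
  (mem_normalizer_iff.1 hg x).1 hx

namespace Fc

variable (X : Fc G)

theorem wc_CN {g : G} (h : g ∈ 𝐂(X.V)) : g ∈ 𝐍(X.V) := centralizer_le_normalizer _ h

theorem wc_LN {l : G} (h : l ∈ X.L) : l ∈ 𝐍(X.W) := (X.L_le_M h).1
theorem wc_LC {l : G} (h : l ∈ X.L) : l ∈ 𝐂(X.V) := (X.L_le_M h).2

theorem wc_ac_yl {y l : G} (hy : y ∈ X.W) {f : V6 → V6} (a : X.Ac l f) : X.Ac (y * l) f :=
  X.ac_mul (f := id) (X.wc_CN (X.W_le_CV hy)) (X.ac_W hy) a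

/-- the `L`-parts of a 2-subgroup of `W L` -/
theorem wc_two {P : Subgroup G} (h2 : IsPGroup 2 P) :
    ∃ l0 ∈ X.L, ∀ y ∈ X.W, ∀ l ∈ X.L, y * l ∈ P → ∃ c, l0 * l * l0⁻¹ = X.x 7 c := by
  let P' : Subgroup G :=
    { carrier := {l | l ∈ X.L ∧ ∃ y ∈ X.W, y * l ∈ P}
      one_mem' := ⟨one_mem _, 1, one_mem _, by simp⟩
      mul_mem' := by
        rintro l l' ⟨hl, y, hy, h⟩ ⟨hl', y', hy', h'⟩
        refine ⟨mul_mem hl hl', y * (l * y' * l⁻¹), mul_mem hy (wc_conj (X.wc_LN hl) hy'), ?_⟩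
        convert mul_mem h h' using 1
        group
      inv_mem' := by
        rintro l ⟨hl, y, hy, h⟩
        refine ⟨inv_mem hl, l⁻¹ * y⁻¹ * l⁻¹⁻¹, wc_conj (X.wc_LN (inv_mem hl)) (inv_mem hy), ?_⟩
        convert inv_mem h using 1
        group }
  have hp : IsPGroup 2 P' := by
    rintro ⟨l, hl, y, hy, h⟩
    obtain ⟨j, hj⟩ := h2 ⟨_, h⟩
    replace hj : (y * l) ^ 2 ^ j = 1 := congrArg Subtype.val hj
    obtain ⟨σ, -, a⟩ := X.L_ac l hl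
    have a1 := X.ac_act_pow (X.wc_CN (mul_mem (X.W_le_CV hy) (X.wc_LC hl))) (X.wc_ac_yl hy a) (2 ^ j)
    rw [hj] at a1
    have a2 := X.ac_act_pow (X.wc_CN (X.wc_LC hl)) a (2 ^ j)
    rw [X.ac_uniq a1 X.ac_one] at a2
    exact ⟨j, Subtype.ext (X.L_ker (pow_mem hl _) a2)⟩
  obtain ⟨l0, h0, h⟩ := X.p1.L_two P' (fun _ h => h.1) hp
  exact ⟨l0, h0, fun y hy l hl hP => h l ⟨hl, y, hy, hP⟩⟩

theorem wc_fix {g k : G} (hg : g ∈ 𝐍(X.V)) (hk : k ∈ 𝐍(X.V)) {f f' t : V6 → V6} (a : X.Ac g f)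
    (b : X.Ac k t) (c : X.Ac (k * g * k⁻¹) f') :
    Nat.card {x // f x = x} = Nat.card {x // f' x = x} := by
  have h1 := X.ac_mul hk b a
  have h2 := X.ac_mul (mul_mem (mul_mem hk hg) (inv_mem hk)) c b
  rw [inv_mul_cancel_right] at h2
  have h3 : ∀ x, t (f x) = f' (t x) := congrFun (X.ac_uniq h1 h2)
  have hb := X.ac_bij hk b
  refine Nat.card_congr ((Equiv.ofBijective t hb).subtypeEquiv fun x => ?_)
  rw [Equiv.ofBijective_apply, ← h3]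
  exact hb.1.eq_iff.symm

theorem wc_mem_sup {g : G} : g ∈ X.W ⊔ X.L ↔ ∃ y ∈ X.W, ∃ l ∈ X.L, g = y * l := by
  rw [← SetLike.mem_coe, coe_mul_of_right_le_normalizer_left _ _ fun _ h => X.wc_LN h]
  exact ⟨fun ⟨y, hy, l, hl, e⟩ => ⟨y, hy, l, hl, e.symm⟩,
    fun ⟨y, hy, l, hl, e⟩ => ⟨y, hy, l, hl, e.symm⟩⟩

end Fc

theorem Fc.uniq (X : Fc G) {P : Subgroup G} (h1 : ∀ g ∈ P, ∃ y ∈ X.W, ∃ l ∈ X.L, g = y * l)
    (h2 : IsPGroup 2 P) (h3 : ∀ g ∈ P, ∀ k ∈ P, g * k * g⁻¹ * k⁻¹ ∈ X.V) (h4 : X.V ≤ P)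
    (h5 : Nat.card P = 16384) : P = X.W := by
  refine eq_of_le_of_card_ge (fun g hg => ?_) (by rw [h5, X.card_W])
  by_contra hW
  obtain ⟨l0, h0, h⟩ := X.wc_two h2
  obtain ⟨S, hS, hm⟩ := X.exists_im (C := P ⊓ X.W) inf_le_right (le_inf h4 X.V_le_W)
  have h6 : Nat.card P ≤ Nat.card F4 * Nat.card (P ⊓ X.W : Subgroup G) := by
    have : ∀ k : P, ∃ c, ∃ y ∈ X.W, (k : G) = y * (l0⁻¹ * X.x 7 c * l0) := fun k => by
      obtain ⟨y, hy, l, hl, e⟩ := h1 k k.2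
      obtain ⟨c, hc⟩ := h y hy l hl (e ▸ k.2)
      exact ⟨c, y, hy, by rw [← hc, e]; group⟩
    choose φ y hy e using this
    refine wc_card_le φ fun k k' H => mem_inf.2 ⟨mul_mem (inv_mem k.2) k'.2, ?_⟩
    have := wc_conj (X.wc_LN (inv_mem (mul_mem (mul_mem (inv_mem h0) (X.x7_mem (φ k))) h0)))
      (mul_mem (inv_mem (hy k)) (hy k'))
    convert this using 1
    rw [e k, e k', H]
    group
  obtain ⟨y, hy, l, hl, rfl⟩ := h1 g hg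
  obtain ⟨c, hc⟩ := h y hy l hl hg
  have c0 : c ≠ 0 := by
    rintro rfl
    rw [X.x_zero, conj_eq_one_iff] at hc
    exact hW (by rw [hc, mul_one]; exact hy)
  obtain ⟨σ, -, a⟩ := X.L_ac l hl
  obtain ⟨τ, -, b⟩ := X.L_ac l0 h0
  have h7 := X.wc_fix (X.wc_CN (X.wc_LC hl)) (X.wc_CN (X.wc_LC h0)) a b (hc ▸ X.xa_ac c)
  have h8 : Nat.card S ≤ Nat.card {x // act σ x = x} :=
    Nat.card_le_card_of_injective (fun x => ⟨x.1, (X.comm_V (X.wc_CN (mul_mem (X.W_le_CV hy)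
      (X.wc_LC hl))) (X.wc_ac_yl hy a)).1 (h3 _ hg _ ((hm x.1 0).2 x.2).1)⟩)
      fun x x' e => Subtype.ext (by simpa using e)
  rw [h7, card_xa c0] at h8
  rw [natCard_eq] at h6
  omega

theorem wc_basis (x : V6) : x = x 0 • ![1, 0, 0, 0, 0, 0] + x 1 • ![0, 1, 0, 0, 0, 0] +
    x 2 • ![0, 0, 1, 0, 0, 0] + x 3 • ![0, 0, 0, 1, 0, 0] + x 4 • ![0, 0, 0, 0, 1, 0] +
    x 5 • ![0, 0, 0, 0, 0, 1] := by
  funext i
  fin_cases i <;> simp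

/-- the shape of the action of `u(γ)` -/
def wcU (γ η : F4) (x : V6) : V6 :=
  ![x 0 + η * x 2, x 1 + γ * x 2, x 2, x 3, x 4, x 5 + γ * x 0 + η * x 1 + η * γ * x 2]

theorem wc_pure {γ c : F4} {y y' : V6}
    (b10 : b6 y ![1, 0, 0, 0, 0, γ] = b6 ![0, 1, 0, 0, 0, 0] ![1, 0, 0, 0, 0, 0])
    (b13 : b6 y ![0, 0, 0, 1, 0, 0] = b6 ![0, 1, 0, 0, 0, 0] ![0, 0, 0, 1, 0, 0])
    (b14 : b6 y ![0, 0, 0, 0, 1, 0] = b6 ![0, 1, 0, 0, 0, 0] ![0, 0, 0, 0, 1, 0])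
    (b15 : b6 y ![0, 0, 0, 0, 0, 1] = b6 ![0, 1, 0, 0, 0, 0] ![0, 0, 0, 0, 0, 1])
    (b20 : b6 y' ![1, 0, 0, 0, 0, γ] = b6 ![0, 0, 1, 0, 0, 0] ![1, 0, 0, 0, 0, 0])
    (b23 : b6 y' ![0, 0, 0, 1, 0, 0] = b6 ![0, 0, 1, 0, 0, 0] ![0, 0, 0, 1, 0, 0])
    (b24 : b6 y' ![0, 0, 0, 0, 1, 0] = b6 ![0, 0, 1, 0, 0, 0] ![0, 0, 0, 0, 1, 0])
    (b25 : b6 y' ![0, 0, 0, 0, 0, 1] = b6 ![0, 0, 1, 0, 0, 0] ![0, 0, 0, 0, 0, 1])
    (b12 : b6 y y' = b6 ![0, 1, 0, 0, 0, 0] ![0, 0, 1, 0, 0, 0])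
    (q1 : q6 y + c * y 1 = q6 ![0, 1, 0, 0, 0, 0] + c * (![0, 1, 0, 0, 0, 0] : V6) 1)
    (q2 : q6 y' + c * y' 1 = q6 ![0, 0, 1, 0, 0, 0] + c * (![0, 0, 1, 0, 0, 0] : V6) 1)
    (q3 : q6 (w • y') + c * (w • y') 1 =
      q6 (w • ![0, 0, 1, 0, 0, 0]) + c * (w • (![0, 0, 1, 0, 0, 0] : V6)) 1) :
    c * γ = 0 ∧ ∃ η, y = ![0, 1, 0, 0, 0, η] ∧ y' = ![η, γ, 1, 0, 0, η * γ] := by
  obtain ⟨a0, a1, a2, a3, a4, a5, rfl⟩ : ∃ a0 a1 a2 a3 a4 a5, y = ![a0, a1, a2, a3, a4, a5] :=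
    ⟨y 0, y 1, y 2, y 3, y 4, y 5, by funext i; fin_cases i <;> rfl⟩
  obtain ⟨d0, d1, d2, d3, d4, d5, rfl⟩ : ∃ a0 a1 a2 a3 a4 a5, y' = ![a0, a1, a2, a3, a4, a5] :=
    ⟨y' 0, y' 1, y' 2, y' 3, y' 4, y' 5, by funext i; fin_cases i <;> rfl⟩
  rw [q6_smul, q6_smul] at q3
  simp [b6] at b13 b14 b15 b23 b24 b25
  subst b13 b14 b15 b23 b24 b25
  simp [b6] at b10
  subst b10
  simp [q6] at q1
  subst q1
  simp [b6, q6] at b20 b12 q2 q3 ⊢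
  revert γ c a5 d0 d1 d5
  decide

namespace Fc

variable (X : Fc G)

/-- an element of `C(V)` that normalises every `r a V` is `o g'` with `o` centralising `W L` -/
theorem wc_split {g : G} (hg : g ∈ 𝐂(X.V)) (h : ∀ a, ∃ s, g * X.r a * g⁻¹ = X.r a * X.vv s) :
    ∃ o ∈ X.O, ∃ k ∈ X.W ⊔ X.L, Commute o k ∧ g = o * k := by
  obtain ⟨o, ho, y, hy, l, hl, -, e⟩ := X.NR 1 one_ne_zero g hg (h 1)
  have lA : l ∈ X.A := X.B_le_A (X.L_le_B hl)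
  have hK := X.O_K ho
  have cA : ∀ a ∈ X.A, Commute o a := fun a ha => (mem_centralizer_iff.1 hK a ha).symm
  have cr : ∀ a, Commute o (X.r a) := by
    intro a
    obtain ⟨s, hs⟩ := h a
    obtain ⟨t, ht⟩ := X.ac_W (inv_mem hy) (er a)
    rw [id, X.ww_er] at ht
    have e1 : o = g * l⁻¹ * y⁻¹ := by rw [e]; group
    have e2 : o * X.r a * o⁻¹ = X.r a * X.vv (s + t) := by
      calc o * X.r a * o⁻¹ = g * (l⁻¹ * (y⁻¹ * X.r a * y⁻¹⁻¹) * l) * g⁻¹ := by rw [e1]; group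
        _ = g * (X.r a * X.vv t) * g⁻¹ := by
          rw [ht, ← mul_assoc l⁻¹, X.r_A a (inv_mem lA), mul_assoc (X.r a),
            X.mem_CV.1 (X.wc_LC (inv_mem hl)) t]
          group
        _ = g * X.r a * g⁻¹ * X.vv t := by
          rw [mul_assoc _ g⁻¹, X.mem_CV.1 (inv_mem hg) t]; group
        _ = _ := by rw [hs, mul_assoc, X.vv_add]
    exact mul_inv_eq_iff_eq_mul.1 (X.r_uq hK (X.x_mem 11 _) e2).1
  refine ⟨o, ho, y * l, mul_mem_sup hy hl, Commute.mul_right ?_ (cA l lA), by rw [e, mul_assoc]⟩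
  obtain ⟨x, s, rfl⟩ := (X.mem_W y).1 hy
  exact (((cr _).mul_right (mem_centralizer_iff.1 (X.p_O _) o ho)).mul_right
    (cA _ (X.B_le_A (X.QA_le_B (X.qa_mem x))))).mul_right (cA _ (X.x_mem 11 s))

theorem wc_two_mem {g : G} (hg : g ∈ 𝐂(X.V)) (h : ∀ a, ∃ s, g * X.r a * g⁻¹ = X.r a * X.vv s)
    {j : ℕ} (h2 : g ^ 2 ^ j = 1) : g ∈ X.W ⊔ X.L := by
  obtain ⟨o, ho, k, hk, c, e⟩ := X.wc_split hg h
  refine mem_of_odd_pow h2 X.O_odd ?_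
  have : o ^ Nat.card X.O = 1 := congrArg Subtype.val (pow_card_eq_one' (x := (⟨o, ho⟩ : X.O)))
  rw [e, c.mul_pow, this, one_mul]
  exact pow_mem hk _

theorem wc_u_comm (γ : F4) {r r' : Fin 12} (hr : ∀ t, X.x r t ∈ X.B)
    (h : ![1, 0, 2, 4, 3, 6, 5, 8, 7, 9, 11, 10] r = r') (t : F4) :
    X.u γ * X.x r' t * (X.u γ)⁻¹ = X.x r' t := by
  rw [← h, ← X.nb_x, Fb.u]
  calc _ = X.nb * (X.p γ * X.x r t * (X.p γ)⁻¹) * X.nb⁻¹ := by group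
    _ = _ := by rw [← mem_centralizer_iff.1 (X.p_B γ) _ (hr t), mul_inv_cancel_right]

theorem wc_u10 (γ t : F4) : X.u γ * X.x 10 t * (X.u γ)⁻¹ = X.x 10 t :=
  X.wc_u_comm γ (r := 11) (fun t => X.QA_le_B (X.V_le_QA (X.vv_mem t))) rfl t

theorem wc_u9 (γ t : F4) : X.u γ * X.x 9 t * (X.u γ)⁻¹ = X.x 9 t :=
  X.wc_u_comm γ (r := 9) (fun t => X.QA_le_B (X.qa_9 0 0 t ▸ X.qa_mem _)) rfl t

theorem wc_u8 (γ t : F4) : X.u γ * X.x 8 t * (X.u γ)⁻¹ = X.x 8 t :=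
  X.wc_u_comm γ (r := 7) (fun t => X.L_le_B (X.x7_mem t)) rfl t

theorem wc_ur (γ a : F4) : X.u γ * X.r a * (X.u γ)⁻¹ = X.r a * X.x 10 (a * γ) := by
  have h1 := X.r_A a X.nb_mem
  have h2 : X.nb * X.vv (a * γ) * X.nb⁻¹ = X.x 10 (a * γ) := X.nb_x 11 _
  calc _ = X.nb * (X.p γ * (X.nb⁻¹ * (X.r a * X.nb)) * (X.p γ)⁻¹) * X.nb⁻¹ := by rw [Fb.u]; group
    _ = _ := by rw [← h1, inv_mul_cancel_left, X.p_r, ← h2, ← mul_assoc, h1]; group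

theorem wc_rx (a t : F4) : X.r a * X.x 10 t = X.ww ![a, 0, 0, 0, 0, t] := by
  rw [Fb.ww, X.qa_10]
  simp [X.p_zero]

theorem wc_uN (γ : F4) : X.u γ ∈ 𝐍(X.W) := by
  have hu := X.u_CV γ
  rw [← cj_eq_self_iff]
  refine X.uniq (fun g hg => X.wc_mem_sup.1 ?_) (isPGroup_cj X.isP_W _) ?_ ?_
    (by rw [card_cj, X.card_W])
  · obtain ⟨j, hj⟩ := isPGroup_cj X.isP_W _ ⟨g, hg⟩
    obtain ⟨y, hy, rfl⟩ := mem_cj'.1 hg
    refine X.wc_two_mem (mul_mem (mul_mem hu (X.W_le_CV hy)) (inv_mem hu)) (fun a => ?_)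
      (congrArg Subtype.val hj)
    have h1 : X.u γ * (X.r a * X.x 10 (a * γ)) * (X.u γ)⁻¹ = X.r a := by
      rw [← conj_mul, X.wc_ur, X.wc_u10, mul_assoc, X.x_sq, mul_one]
    obtain ⟨s, hs⟩ := X.ac_W hy ![a, 0, 0, 0, 0, a * γ]
    rw [id, ← X.wc_rx] at hs
    refine ⟨s, ?_⟩
    calc _ = X.u γ * (y * ((X.u γ)⁻¹ * X.r a * X.u γ) * y⁻¹) * (X.u γ)⁻¹ := by group
      _ = X.u γ * (X.r a * X.x 10 (a * γ) * X.vv s) * (X.u γ)⁻¹ := by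
        rw [← hs]
        conv_lhs => rw [← h1]
        group
      _ = _ := by
        rw [← conj_mul, h1, X.mem_CV.1 hu, mul_inv_cancel_right]
  · intro g hg k hk
    obtain ⟨y, hy, rfl⟩ := mem_cj'.1 hg
    obtain ⟨y', hy', rfl⟩ := mem_cj'.1 hk
    convert wc_conj (X.wc_CN hu) (X.comm_mem hy hy') using 1
    group
  · rw [← cj_eq_of_mem_centralizer hu]
    exact cj_mono _ X.V_le_W

theorem wc_val {g : G} {f : V6 → V6} (a : X.Ac g f) {x y : V6}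
    (e : g * X.ww x * g⁻¹ = X.ww y) : f x = y := by
  obtain ⟨s, hs⟩ := a x
  exact (X.w_inj _ s _ 0 (by rw [← hs, e, X.vv_zero, mul_one])).1

theorem wc_uac (γ : F4) : X.c0 * γ = 0 ∧ ∃ η, X.Ac (X.u γ) (wcU γ η) := by
  have hu := X.u_CV γ
  obtain ⟨f, a⟩ := X.exists_ac (X.wc_uN γ)
  have f0 : f ![1, 0, 0, 0, 0, 0] = ![1, 0, 0, 0, 0, γ] := X.wc_val a (by
    have := X.wc_ur γ 1
    rwa [X.wc_rx, one_mul, ← X.ww_er] at this)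
  have f3 : f ![0, 0, 0, 1, 0, 0] = ![0, 0, 0, 1, 0, 0] := X.wc_val a (by
    rw [X.ww_qa rfl rfl, X.qa_8, X.wc_u8])
  have f4 : f ![0, 0, 0, 0, 1, 0] = ![0, 0, 0, 0, 1, 0] := X.wc_val a (by
    rw [X.ww_qa rfl rfl, X.qa_9, X.wc_u9])
  have f5 : f ![0, 0, 0, 0, 0, 1] = ![0, 0, 0, 0, 0, 1] := X.wc_val a (by
    rw [X.ww_qa rfl rfl, X.qa_10, X.wc_u10])
  have hb := X.ac_b hu a
  have hq := X.ac_q0 hu a
  have hs := X.ac_smul hu a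
  have b10 := hb ![0, 1, 0, 0, 0, 0] ![1, 0, 0, 0, 0, 0]
  have b13 := hb ![0, 1, 0, 0, 0, 0] ![0, 0, 0, 1, 0, 0]
  have b14 := hb ![0, 1, 0, 0, 0, 0] ![0, 0, 0, 0, 1, 0]
  have b15 := hb ![0, 1, 0, 0, 0, 0] ![0, 0, 0, 0, 0, 1]
  have b20 := hb ![0, 0, 1, 0, 0, 0] ![1, 0, 0, 0, 0, 0]
  have b23 := hb ![0, 0, 1, 0, 0, 0] ![0, 0, 0, 1, 0, 0]
  have b24 := hb ![0, 0, 1, 0, 0, 0] ![0, 0, 0, 0, 1, 0]
  have b25 := hb ![0, 0, 1, 0, 0, 0] ![0, 0, 0, 0, 0, 1]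
  have b12 := hb ![0, 1, 0, 0, 0, 0] ![0, 0, 1, 0, 0, 0]
  have q1 := hq ![0, 1, 0, 0, 0, 0]
  have q2 := hq ![0, 0, 1, 0, 0, 0]
  have q3 := hq (w • ![0, 0, 1, 0, 0, 0])
  rw [hs] at q3
  have hx : ∀ x, f x = x 0 • f ![1, 0, 0, 0, 0, 0] + x 1 • f ![0, 1, 0, 0, 0, 0] +
      x 2 • f ![0, 0, 1, 0, 0, 0] + x 3 • f ![0, 0, 0, 1, 0, 0] + x 4 • f ![0, 0, 0, 0, 1, 0] +
      x 5 • f ![0, 0, 0, 0, 0, 1] := fun x => by
    conv_lhs => rw [wc_basis x]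
    simp only [X.ac_add (X.wc_CN hu) a, hs]
  rw [f0] at b10 b20 hx
  rw [f3] at b13 b23 hx
  rw [f4] at b14 b24 hx
  rw [f5] at b15 b25 hx
  obtain ⟨h1, η, h2, h3⟩ := wc_pure b10 b13 b14 b15 b20 b23 b24 b25 b12 q1 q2 q3
  refine ⟨h1, η, ?_⟩
  convert a using 1
  funext x
  rw [hx x, h2, h3]
  funext i
  fin_cases i <;> simp [wcU] <;> ring

theorem wc_eta {γ η η' : F4} (a : X.Ac (X.u γ) (wcU γ η)) (a' : X.Ac (X.u (v * γ)) (wcU (v * γ) η')) :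
    η' = w * η := by
  have hth : X.th ∈ 𝐍(X.V) := mem_normalizer_fintype fun g hg => by
    obtain ⟨s, rfl⟩ := X.mem_V.1 hg
    rw [X.th_vv]
    exact X.vv_mem _
  have hha := X.wc_CN (X.wc_LC X.ha_mem)
  have aT := X.ac_mul (mul_mem (mul_mem hth hth) hha)
    (X.ac_mul (mul_mem hth hth) (X.ac_mul hth X.th_ac X.th_ac) X.ha_ac) X.ha_ac
  have hT := mul_mem (mul_mem (mul_mem hth hth) hha) hha
  rw [← X.nb_th] at aT hT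
  obtain ⟨s, hs⟩ := X.p_th γ
  have h2 : X.nb * X.vv s * X.nb⁻¹ = X.x 10 s := X.nb_x 11 _
  have e : X.nb * X.th * X.nb⁻¹ * X.u γ = X.u (v * γ) * X.x 10 s * (X.nb * X.th * X.nb⁻¹) := by
    rw [← h2, Fb.u, Fb.u, ← mul_inv_eq_iff_eq_mul]
    calc _ = X.nb * (X.th * X.p γ * X.th⁻¹) * X.nb⁻¹ := by group
      _ = _ := by rw [hs]; group
  have hx : X.x 10 s ∈ X.W := X.ww_e5 s ▸ X.ww_mem _
  have a1 := X.ac_mul hT aT a
  have a2 := X.ac_mul (X.wc_CN (mul_mem (X.u_CV _) (X.W_le_CV hx)))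
    (X.ac_mul (X.wc_CN (X.u_CV _)) a' (X.ac_W hx)) aT
  rw [← e] at a2
  have := congrFun (congrFun (X.ac_uniq a1 a2) ![0, 1, 0, 0, 0, 0]) 5
  clear a a' a1 a2 e hs
  revert γ η η'
  decide

end Fc

theorem Fc.fd (X : Fc G) : ∃ Y : Fd G, Y.toFc = X := by
  have c0 : X.c0 = 0 := by simpa using (X.wc_uac 1).1
  choose η hη using fun γ => (X.wc_uac γ).2
  have h0 : η 0 = 0 := by
    have h1 := hη 0
    rw [Fb.u, X.p_zero, mul_one, mul_inv_cancel] at h1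
    have := congrFun (congrFun (X.ac_uniq h1 X.ac_one) ![0, 0, 1, 0, 0, 0]) 0
    revert this
    generalize η 0 = a
    revert a
    decide
  have h2 : ∀ γ, η γ = η 1 * γ * γ := by
    have e1 := X.wc_eta (hη 1) (hη _)
    have e2 := X.wc_eta (hη v) (hη _)
    rw [mul_one] at e1
    rw [e1, show v * v = w from rfl] at e2
    rw [forall_iff, h0, e1, e2]
    generalize η 1 = b
    revert b
    decide
  refine ⟨⟨X, η 1, fun x => ?_, fun c => ?_⟩, rfl⟩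
  · rw [X.w_sq0, c0, zero_mul, add_zero]
  · have := hη c
    rw [h2 c] at this
    exact this

end H79.AS
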